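import Mathlib
import Cfsg.Agent.S0348
import Cfsg.Agent.S0111
import Cfsg.Agent.BS.BInd1
import Cfsg.Agent.H10.SL

/-! Simple groups with a self-centralising-type Sylow `2`-subgroup with a cyclic maximal subgroup (part P1 of S3250). -/

set_option autoImplicit false

open Cfsg Subgroup

namespace Cfsg.Agent.H22.Ln

theorem two_pow_eq {a b m n : ℕ} (hm : Odd m) (hn : Odd n) (h : 2 ^ a * m = 2 ^ b * n) : a = b := by
  have k : ∀ {a b m n : ℕ}, Odd n → 2 ^ a * m = 2 ^ b * n → a ≤ b := fun {a b m n} hn h =>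
    (Nat.pow_dvd_pow_iff_le_right one_lt_two).1
      (((Nat.coprime_two_left.2 hn).pow_left a).dvd_of_dvd_mul_right (h ▸ Dvd.intro _ rfl))
  exact le_antisymm (k hn h) (k hm h.symm)

theorem sl_sq {F : Type*} [Field F] (h2 : (2 : F) = 0) (A : Matrix.SpecialLinearGroup (Fin 2) F)
    (h : A * A * (A * A) = 1) : A * A = 1 := by
  have ch : ∀ B : Matrix.SpecialLinearGroup (Fin 2) F, ∀ i j,
      (B * B).1 i j = (B.1 0 0 + B.1 1 1) * B.1 i j + (1 : Matrix (Fin 2) (Fin 2) F) i j := fun B i j => by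
    have hd := B.2
    rw [Matrix.det_fin_two] at hd
    fin_cases i <;> fin_cases j <;> simp [Matrix.mul_apply, Fin.sum_univ_two]
    · linear_combination -hd - h2
    · ring
    · ring
    · linear_combination -hd - h2
  have t0 : ∀ B : Matrix.SpecialLinearGroup (Fin 2) F, B * B = 1 → B.1 0 0 + B.1 1 1 = 0 := fun B hB => by
    by_contra ht
    have hz : ∀ i j, B.1 i j = 0 := fun i j => by
      have := ch B i j
      rw [hB] at this
      exact (mul_eq_zero.1 (by simpa using this.symm)).resolve_left ht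
    exact ht (by simp [hz])
  have h1 := t0 _ h
  rw [ch A 0 0, ch A 1 1] at h1
  have h3 : A.1 0 0 + A.1 1 1 = 0 := by
    have : (A.1 0 0 + A.1 1 1) ^ 2 = 0 := by
      simp at h1
      linear_combination h1 - h2
    exact pow_eq_zero_iff two_ne_zero |>.1 this
  ext i j
  rw [ch, h3]; simp

theorem card_psl34 {F : Type} [Field F] [Fintype F] (h : Fintype.card F = 4) :
    Nat.card (Matrix.ProjectiveSpecialLinearGroup (Fin 3) F) = 20160 := by
  have h1 := H10.card_PSL_fin (F := F) 3 (by norm_num)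
  have h2 := H10.card_units_mul_card_SL (ι := Fin 3) (F := F)
  rw [Matrix.card_GL_field, H10.card_units_eq, h] at h2
  simp only [Fin.prod_univ_three] at h2
  rw [h] at h1
  norm_num at h1 h2
  omega

variable {G : Type*} [Group G] [Finite G]

theorem inv_eq {a x : G} {n : ℕ} (ha : orderOf a = 2 * n) (hx : x ∈ zpowers a) (h : orderOf x = 2) : x = a ^ n := by
  obtain ⟨i, rfl⟩ := (mem_powers_iff_mem_zpowers.2 hx : x ∈ Submonoid.powers a)
  simp only at h ⊢
  have h1 : orderOf a ∣ i * 2 := orderOf_dvd_of_pow_eq_one (by rw [pow_mul, ← h, pow_orderOf_eq_one])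
  rw [ha, mul_comm i] at h1
  obtain ⟨j, rfl⟩ := Nat.dvd_of_mul_dvd_mul_left two_pos h1
  have h2 : (a ^ n) ^ 2 = 1 := by rw [← pow_mul, mul_comm, ← ha, pow_orderOf_eq_one]
  rcases Nat.even_or_odd' j with ⟨l, rfl | rfl⟩
  · rw [pow_mul, pow_mul, h2, one_pow, orderOf_one] at h; omega
  · rw [pow_mul, pow_succ, pow_mul, h2, one_pow, one_mul]

theorem cit_final [IsSimpleGroup G] (hG : ¬ IsMulCommutative G) (S : Sylow 2 G) (k : ℕ) (hk : k = 4 ∨ k = 7)
    (hS : Nat.card (S : Subgroup G) = 2^k) (a : G) (ha : a ∈ (S : Subgroup G)) (hoa : 2 * orderOf a = 2^k)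
    (hz : ∀ z ∈ (S : Subgroup G), z ≠ 1 → (∀ s ∈ (S : Subgroup G), s*z = z*s) → centralizer {z} = S) :
    (∀ t : G, orderOf t = 2 → IsPGroup 2 (centralizer ({t} : Set G))) ∧ (k = 4 → Nat.card G = 2448) ∧
    (k = 7 → ∃ (F : Type) (_ : Field F) (_ : Fintype F), Fintype.card F = 127 ∧
      Nonempty (G ≃* Matrix.ProjectiveSpecialLinearGroup (Fin 2) F)) := by
  obtain ⟨n, hn, hn4⟩ : ∃ n, orderOf a = 2 * n ∧ 4 ∣ n := by
    rcases hk with rfl | rfl
    · exact ⟨4, by omega, by norm_num⟩
    · exact ⟨32, by omega, by norm_num⟩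
  have hn0 : n ≠ 0 := by rintro rfl; exact (orderOf_pos a).ne' hn
  have hle : zpowers a ≤ (S : Subgroup G) := zpowers_le.2 ha
  have hidx : (zpowers a).relIndex (S : Subgroup G) = 2 := by
    have h1 := relIndex_mul_index (H := zpowers a) (K := (S : Subgroup G)) hle
    have h2 := (zpowers a).index_mul_card
    have h3 := (S : Subgroup G).index_mul_card
    rw [Nat.card_zpowers] at h2
    rw [hS, ← hoa, ← h2, ← h1] at h3
    have h4 : (S : Subgroup G).index * orderOf a ≠ 0 :=
      mul_ne_zero Subgroup.index_ne_zero_of_finite (orderOf_pos a).ne'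
    refine Nat.eq_of_mul_eq_mul_right (Nat.pos_of_ne_zero h4) ?_
    linarith
  have hz0 : orderOf (a ^ n) = 2 := by
    rw [orderOf_pow_of_dvd hn0 (hn ▸ Dvd.intro_left _ rfl), hn, Nat.mul_div_cancel _ (Nat.pos_of_ne_zero hn0)]
  have hC : centralizer {a ^ n} = (S : Subgroup G) := by
    refine hz _ (pow_mem ha n) (by rintro e; rw [e, orderOf_one] at hz0; omega) fun s hs => ?_
    have hN : ((zpowers a).subgroupOf (S : Subgroup G)).Normal := normal_of_index_eq_two hidx
    have h1 : s * a ^ n * s⁻¹ ∈ zpowers a :=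
      mem_subgroupOf.1 (hN.conj_mem ⟨a ^ n, pow_mem ha n⟩ (mem_subgroupOf.2 (npow_mem_zpowers a n)) ⟨s, hs⟩)
    have h2 := inv_eq hn h1 (by rw [← hz0]; exact (MulAut.conj s).orderOf_eq _)
    exact mul_inv_eq_iff_eq_mul.1 h2
  obtain ⟨m, hm, hcard⟩ : ∃ m, Odd m ∧ Nat.card G = 2 ^ k * m :=
    ⟨(S : Subgroup G).index, H4.odd_index_sylow S, by rw [← hS, card_mul_index]⟩
  have hcit : ∀ t : G, orderOf t = 2 → IsPGroup 2 (centralizer ({t} : Set G)) := fun t ht => by
    have key : ∃ g : G, g * t * g⁻¹ = a ^ n := by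
      have hp : IsPGroup 2 (zpowers t) := IsPGroup.of_card (n := 1) (by rw [Nat.card_zpowers, ht, pow_one])
      obtain ⟨Q, hQ⟩ := hp.exists_le_sylow
      obtain ⟨g, hg⟩ := MulAction.exists_smul_eq G Q S
      have h1 : g * t * g⁻¹ ∈ (S : Subgroup G) := by
        rw [← hg]
        exact ⟨t, hQ (mem_zpowers t), rfl⟩
      have h2 : orderOf (g * t * g⁻¹) = 2 := by rw [← ht]; exact (MulAut.conj g).orderOf_eq _
      by_cases h3 : g * t * g⁻¹ ∈ zpowers a
      · exact ⟨g, inv_eq hn h3 h2⟩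
      rcases S0111.result S (zpowers a) hle hidx _ h2 h1 h3 with ⟨M, hM, h4, -⟩ | ⟨g', h4⟩
      · rcases hM.eq_bot_or_eq_top with rfl | rfl
        · rw [index_bot, hcard] at h4
          rcases hk with rfl | rfl <;> omega
        · simp at h4
      · refine ⟨g' * g, ?_⟩
        rw [← inv_eq hn h4 (by rw [← h2]; exact (MulAut.conj g').orderOf_eq _)]
        group
    obtain ⟨g, hg⟩ := key
    intro x
    have h1 : g * x.1 * g⁻¹ ∈ (S : Subgroup G) := by
      rw [← hC, ← hg, mem_centralizer_singleton_iff]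
      have := mem_centralizer_singleton_iff.1 x.2
      calc g * x.1 * g⁻¹ * (g * t * g⁻¹) = g * (x.1 * t) * g⁻¹ := by group
        _ = _ := by rw [this]; group
    obtain ⟨j, hj⟩ := S.isPGroup' ⟨_, h1⟩
    refine ⟨j, Subtype.ext ?_⟩
    have h2 : (g * x.1 * g⁻¹) ^ 2 ^ j = 1 := congrArg Subtype.val hj
    rw [conj_pow] at h2
    simpa using h2
  refine ⟨hcit, ?_⟩
  have hev : ∀ (F : Type) [Field F] [Fintype F] (j : ℕ), Fintype.card F = 2 ^ j →
      Nonempty (G ≃* Matrix.ProjectiveSpecialLinearGroup (Fin 2) F) → False := by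
    rintro F _ _ j hj ⟨e⟩
    have hj1 : 1 ≤ j := by
      rcases Nat.eq_zero_or_pos j with rfl | h
      · have := Fintype.one_lt_card (α := F); omega
      · exact h
    obtain ⟨f⟩ := BS.psl_equiv_sl hj1 hj
    have h2 : (2 : F) = 0 := by
      have := FiniteField.cast_card_eq_zero F
      rw [hj] at this
      push_cast at this
      exact pow_eq_zero_iff (by omega) |>.1 this
    obtain ⟨l, rfl⟩ := hn4
    have h3 := sl_sq h2 (f (e (a ^ (2 * l)))) (by
      rw [← map_mul, ← map_mul, ← map_mul, ← map_mul, ← pow_add, ← pow_add,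
        show 2 * l + 2 * l + (2 * l + 2 * l) = 2 * (4 * l) by ring, ← hn, pow_orderOf_eq_one, map_one, map_one])
    rw [← map_mul, ← map_mul, ← pow_add, map_eq_one_iff _ f.injective, map_eq_one_iff _ e.injective,
      show 2 * l + 2 * l = 4 * l by ring] at h3
    rw [h3, orderOf_one] at hz0
    omega
  have hnc : ∃ a b : G, a * b ≠ b * a := by
    by_contra h
    push Not at h
    exact hG ⟨⟨h⟩⟩
  rcases S0348.result hnc hcit with ⟨F, _, _, hF, ⟨e⟩⟩ | ⟨F, _, _, hF, ⟨e⟩⟩ | ⟨-, j, hj, h⟩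
  · have hc := H10.card_PSL_two (F := F)
    rw [← Nat.card_congr e.toEquiv] at hc
    rcases hF with h | ⟨j, h⟩ | ⟨hp, j, h | h⟩
    · rw [h, hcard] at hc
      norm_num at hc
      rcases hk with rfl | rfl <;> omega
    · exact (hev F j h ⟨e⟩).elim
    · rcases j with _ | _ | j
      · exact (hev F 1 h ⟨e⟩).elim
      · rw [h, hcard] at hc
        norm_num at hc
        rcases hk with rfl | rfl <;> omega
      · rw [h, add_tsub_cancel_right, Nat.gcd_eq_left (dvd_pow_self 2 (by omega))] at hc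
        have : k + 1 = j + 3 := two_pow_eq hm (n := (2 ^ (j + 2) + 1) * (2 ^ (j + 1) + 1))
          (((Nat.even_pow' (by omega)).2 even_two).add_one.mul ((Nat.even_pow' (by omega)).2 even_two).add_one)
          (by rw [pow_succ', mul_assoc, ← hcard, hc]; ring)
        rcases hk with rfl | rfl
        · obtain rfl : j = 2 := by omega
          exact ⟨fun _ => by omega, fun h => by omega⟩
        · obtain rfl : j = 5 := by omega
          rw [h] at hp; norm_num at hp
    · rcases j with _ | _ | j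
      · have := hp.pos; omega
      · have := hp.two_le; omega
      · obtain ⟨c, hc1⟩ : ∃ c, 2 ^ (j + 1) = c + 1 := ⟨2 ^ (j + 1) - 1, by have := Nat.one_le_two_pow (n := j + 1); omega⟩
        have hco : Odd c := by
          have : Even (c + 1) := hc1 ▸ (Nat.even_pow' (by omega)).2 even_two
          exact Nat.not_even_iff_odd.1 (Nat.even_add_one.1 this)
        have hq : Fintype.card F = 2 * c + 1 := by rw [pow_succ, hc1] at h; omega
        rw [h, hq, add_tsub_cancel_right, Nat.gcd_eq_left (Dvd.intro _ rfl)] at hc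
        have : k + 1 = j + 3 := two_pow_eq hm (n := (2 * c + 1) * c) ((odd_two_mul_add_one c).mul hco)
          (by rw [pow_succ', mul_assoc, ← hcard, hc]; ring)
        rcases hk with rfl | rfl
        · obtain rfl : j = 2 := by omega
          obtain rfl : c = 7 := by omega
          rw [hq] at hp; norm_num at hp
        · obtain rfl : j = 5 := by omega
          exact ⟨fun h => by omega, fun _ => ⟨F, _, _, by omega, ⟨e⟩⟩⟩
  · have := two_pow_eq (a := k) (b := 6) (n := 315) hm (by decide)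
      (by rw [← hcard, Nat.card_congr e.toEquiv, card_psl34 hF]; norm_num)
    omega
  · have h1 : Even (2 ^ (2 * j + 1)) := (Nat.even_pow' (by omega)).2 even_two
    have := two_pow_eq (a := k) (b := (2 * j + 1) * 2) (n := ((2 ^ (2 * j + 1)) ^ 2 + 1) * (2 ^ (2 * j + 1) - 1)) hm
      ((h1.pow_of_ne_zero two_ne_zero).add_one.mul (Nat.Even.sub_odd Nat.one_le_two_pow h1 odd_one))
      (by rw [← hcard, h, pow_mul, mul_assoc])
    omega

end Cfsg.Agent.H22.Ln
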