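import Cfsg.Agent.H22.Hol
import Cfsg.Agent.H2.Components
import Cfsg.Agent.H27.Real2
import Cfsg.Agent.H6.Frobenius

/-! The `P(G,V)`-theorem: best offenders normalise components. -/

set_option autoImplicit false
set_option linter.unusedSectionVars false

namespace Cfsg.Agent.P22

open Cfsg Subgroup Cfsg.Agent.FT
open scoped commutatorElement

universe u
variable {G : Type u} [Group G] [Finite G] {p q : ℕ} {A B D K U V W X Y : Subgroup G} {a b c d g r x y : G}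

theorem tsl (h1 : Y ≤ C(⁅W, D⁆)) (h2 : D ≤ C(Y)) : D ≤ C(⁅W, Y⁆) := by
  rw [← comm_eq_bot', commC W]
  exact three_subgroup (comm_eq_bot'.2 h1) (by rw [comm_eq_bot.2 h2, commutator_bot_left])

theorem tsl1 (h1 : y ∈ C(⁅W, ⟪d⟫⁆)) (h2 : d ∈ C[y]) : d ∈ C(⁅W, ⟪y⟫⁆) :=
  zpowers_le.1 (tsl (zpowers_le.2 h1) (by rw [cen_zpowers]; exact zpowers_le.2 h2))

theorem qs_comm (h : IsQuasisimple K) (hX : X ≤ N(K)) (hc : ¬ X ≤ C(K)) : ⁅K, X⁆ = K :=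
  (H2.commutator_eq_self_or_bot_of_isQuasisimple h hX).resolve_right fun e => hc (comm_eq_bot'.1 e)

theorem qs_le_cen (h : IsQuasisimple K) (hU : K ≤ N(U)) (hX : X ≤ N(K)) (hc : ¬ X ≤ C(K)) (hXU : X ≤ C(U)) :
    K ≤ C(U) := by
  rw [← qs_comm h hX hc]
  exact (commSS le_rfl hXU).trans (comm_le_right (norms_cent hU))

theorem qs_D (h : IsQuasisimple K) (hU : K ≤ N(U)) (hx : x ∈ K) (hx' : x ∉ C(K)) (hr : r ∈ C(K))
    (hy : x * r ∈ C(U)) : K ≤ C(U) :=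
  qs_le_cen h hU (zpowers_le.2 (mul_mem (le_nrm K hx) (cen_le_nrm K hr)))
    (fun e => hx' ((mul_mem_cancel_right hr).1 (e (mem_zpowers _)))) (zpowers_le.2 hy)

theorem qs_cj (h : IsQuasisimple K) (g : G) : IsQuasisimple (cj g K) :=
  (H2.isQuasisimple_map_iff_of_injective (cj_inj g)).2 h

theorem qs_exists (h : IsQuasisimple K) : ∃ x ∈ K, x ∉ C(K) :=
  SetLike.not_le_iff_exists.1 (H2.not_le_centralizer_of_isQuasisimple h)

theorem qs_not_sol (h : IsQuasisimple K) : ¬ Sol (bar K K) := fun hs => by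
  have h1 : bar K K ≤ ⁅bar K K, bar K K⁆ := by
    rw [← pmap_comm _ (le_nrm K) (le_nrm K), H2.commutator_eq_of_isQuasisimple h]
  exact H2.not_le_centralizer_of_isQuasisimple h ((bar_eq_bot (le_nrm K)).1 (hs.eq_bot_of_le_der h1))

/-- a noncentral element of prime power order, the prime being different from `p` and `3` -/
theorem qs_exists_q (h : IsQuasisimple K) (hp : p.Prime) :
    ∃ q, q.Prime ∧ q ≠ p ∧ q ≠ 3 ∧ ∃ x ∈ K, PiElt {q} x ∧ x ∉ C(K) := by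
  by_contra! hc
  refine qs_not_sol h (H6.isSolvable_of_card_dvd (a := (#(bar K K)).factorization p)
    (b := (#(bar K K)).factorization 3) hp Nat.prime_three ?_)
  refine (Nat.dvd_iff_prime_pow_dvd_dvd _ _).2 fun q k hq hd => ?_
  rcases k.eq_zero_or_pos with rfl | hk
  · simp
  by_cases e1 : q = p
  · exact Dvd.dvd.mul_right (e1 ▸ pow_dvd_pow _ ((hq.pow_dvd_iff_le_factorization (card_ne_zero _)).1 hd)) _
  by_cases e2 : q = 3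
  · exact Dvd.dvd.mul_left (e2 ▸ pow_dvd_pow _ ((hq.pow_dvd_iff_le_factorization (card_ne_zero _)).1 hd)) _
  exfalso
  obtain ⟨z, hz, oz⟩ := exists_elt_of_prime_dvd hq ((dvd_pow_self q hk.ne').trans hd)
  obtain ⟨x, hx, hx', rfl⟩ := mem_pmap.1 hz
  have h1 := hc q hq e1 e2 _ (constt_mem {q} hx) (piElt_constt _ x)
  rw [← pker_act, ← pfun_eq_one_iff ((le_nrm K) (constt_mem {q} hx)), pfun_constt _ _ hx',
    ((piElt_of_orderOf_prime (π := {q}) hq oz).2 rfl).constt_eq] at h1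
  rw [h1, orderOf_one] at oz
  exact hq.ne_one oz.symm

/-- a noncentral element of odd order inverted by `b` -/
theorem qs_exists_inv (h : IsQuasisimple K) (hb : b ∈ N(K)) (hb' : b ∉ C(K)) (h2 : b ^ 2 = 1) :
    ∃ x ∈ K, PiElt {2}ᶜ x ∧ x ∉ C(K) ∧ b * x * b⁻¹ = x⁻¹ := by
  have hB : ⟪b⟫ ≤ N(K) := zpowers_le.2 hb
  have hH : K ⊔ ⟪b⟫ ≤ N(K) := sup_le (le_nrm K) hB
  have hm : pfun (act K) b ∈ bar K (K ⊔ ⟪b⟫) := mem_pmap_of_mem _ hb (mem_sup_right (mem_zpowers b))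
  obtain ⟨z, z1, z2, z3⟩ := H27.exists_odd_inverted (s := (⟨_, hm⟩ : bar K (K ⊔ ⟪b⟫)))
    (Subtype.ext (by show pfun (act K) b ^ 2 = 1; rw [← pfun_pow _ hb, h2, pfun_one])) fun e => by
      have e' : pfun (act K) b ∈ O[{2}](bar K (K ⊔ ⟪b⟫)) := by
        rw [pcore_singleton Nat.prime_two]; exact ⟨_, e, rfl⟩
      refine qs_not_sol h (PiGrp.sol (p := 2) ((pcore_pi {2} (bar K (K ⊔ ⟪b⟫))).mono ?_))
      have : bar K K = ⁅bar K K, ⟪pfun (act K) b⟫⁆ := by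
        rw [← pmap_zpowers _ hb, ← pmap_comm _ (le_nrm K) hB, qs_comm h hB fun e => hb' (e (mem_zpowers b))]
      rw [this]
      exact (commSS le_rfl (zpowers_le.2 e')).trans
        (comm_le_right ((pmap_mono _ le_sup_left).trans (pcore_nrm _ _)))
  obtain ⟨g, hg, hg', e⟩ := mem_pmap.1 z.2
  have hbb : b⁻¹ = b := inv_eq_of_mul_eq_one_right (by rw [← sq, h2])
  have hw : ⁅g, b⁆ ∈ K := by
    have := der_sup_le hB (comm_mem hg (mem_sup_right (mem_zpowers b)))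
    rwa [ab_iff_der.1 (ab_zpowers b), sup_bot_eq] at this
  have z3' : pfun (act K) b * z * (pfun (act K) b)⁻¹ = (z : Hol K)⁻¹ := congrArg Subtype.val z3
  have e2 : pfun (act K) ⁅g, b⁆ = (z : Hol K) ^ 2 := by
    rw [pfun_comm _ hg' hb, e, commutatorElement_def, sq]
    calc _ = z * (pfun (act K) b * z * (pfun (act K) b)⁻¹)⁻¹ := by group
      _ = _ := by rw [z3', inv_inv]
  have oz : PiElt {2}ᶜ (z : Hol K) :=
    (p'elt_iff_coprime Nat.prime_two).2 (by rw [orderOf_coe]; exact Nat.coprime_two_right.2 z2)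
  refine ⟨constt {2}ᶜ ⁅g, b⁆, constt_mem _ hw, piElt_constt _ _, fun hc => z1 (Subtype.ext ?_), ?_⟩
  · rw [← pker_act, ← pfun_eq_one_iff ((le_nrm K) (constt_mem _ hw)), pfun_constt _ _ (le_nrm K hw), e2,
      (oz.pow 2).constt_eq] at hc
    exact (pElt_of_pow_eq_one Nat.prime_two hc).eq_one oz
  · rw [← constt_conj, ← constt_inv]
    congr 1
    rw [commutatorElement_def, mul_inv_rev, mul_inv_rev, mul_inv_rev, inv_inv, inv_inv, hbb]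
    calc _ = b * g * b * g⁻¹ * (b * b) := by group
      _ = _ := by rw [← sq, h2]; group

theorem exists_diag' (hY : ∀ y ∈ Y, y ≠ 1 → K ≤ C(cj y K)) : ∃ φ : K →* G, (∀ m, φ m ∈ C(Y)) ∧
    (∀ (R : Subgroup G) (m : K), (∀ y ∈ Y, y ≠ 1 → y * m * y⁻¹ ∈ R) → (m : G)⁻¹ * φ m ∈ R) ∧
    ∀ c ∈ C(Y), ∀ m m' : K, (m' : G) = c * m * c⁻¹ → φ m' = c * φ m * c⁻¹ := by
  classical
  haveI : Fintype Y := Fintype.ofFinite Y
  let ϕ : Y → K →* G := fun y => (MulAut.conj (y : G)).toMonoidHom.comp K.subtype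
  have hc : Pairwise fun i j : Y => ∀ x y : K, Commute (ϕ i x) (ϕ j y) := fun i j hij x y => by
    have h1 := mem_cen.1 (hY _ (mul_mem (inv_mem i.2) j.2) (fun e => hij (Subtype.ext (inv_mul_eq_one.1 e))) x.2) _
      (conj_mem_cj.2 y.2)
    show (i : G) * x * (i : G)⁻¹ * (j * y * (j : G)⁻¹) = j * y * (j : G)⁻¹ * (i * x * (i : G)⁻¹)
    calc (i : G) * x * (i : G)⁻¹ * (j * y * (j : G)⁻¹)
        = i * (x * ((i : G)⁻¹ * j * y * ((i : G)⁻¹ * j)⁻¹)) * (i : G)⁻¹ := by group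
      _ = _ := by rw [← h1]; group
  let φ : K →* G := (MonoidHom.noncommPiCoprod ϕ hc).comp (MonoidHom.pi fun _ => MonoidHom.id K)
  have hφ : ∀ m, φ m = Finset.univ.noncommProd (fun y => ϕ y m) fun i _ j _ hij => hc hij m m := fun m => rfl
  refine ⟨φ, fun m => mem_cen.2 fun y hy => ?_, fun R m hR => ?_, fun c hc' m m' e => ?_⟩
  · rw [← mul_inv_eq_iff_eq_mul]
    have h1 := Finset.map_noncommProd Finset.univ (fun y => ϕ y m) (fun i _ j _ hij => hc hij m m) (MulAut.conj y)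
    rw [hφ]
    refine h1.trans ?_
    have h2 : (Finset.univ.1.map fun i : Y => MulAut.conj y (ϕ i m)) = Finset.univ.1.map fun i : Y => ϕ i m := by
      conv_rhs => rw [← Finset.map_univ_equiv (Equiv.mulLeft (⟨y, hy⟩ : Y))]
      rw [Finset.map_val, Multiset.map_map]
      refine Multiset.map_congr rfl fun i _ => ?_
      show y * (i * m * (i : G)⁻¹) * y⁻¹ = y * i * m * (y * i)⁻¹
      group
    unfold Finset.noncommProd
    congr 1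
  · have h1 := Finset.mul_noncommProd_erase Finset.univ (Finset.mem_univ (1 : Y)) (fun y => ϕ y m)
      fun i _ j _ hij => hc hij m m
    have : ϕ 1 m = m := by simp [ϕ]
    rw [hφ, ← h1, this, inv_mul_cancel_left]
    exact noncommProd_mem R _ fun y hy => hR y y.2 fun e => Finset.ne_of_mem_erase hy (Subtype.ext e)
  · have h1 := Finset.map_noncommProd Finset.univ (fun y => ϕ y m) (fun i _ j _ hij => hc hij m m) (MulAut.conj c)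
    rw [hφ, hφ]
    refine Eq.trans ?_ h1.symm
    refine Finset.noncommProd_congr rfl (fun y _ => ?_) _
    show (y : G) * m' * (y : G)⁻¹ = c * (y * m * (y : G)⁻¹) * c⁻¹
    rw [e]
    calc _ = (y * c) * m * (y * c : G)⁻¹ := by group
      _ = _ := by rw [mem_cen.1 hc' _ y.2]; group

/-- the configuration of the `P(G,V)`-theorem -/
structure PG (p : ℕ) (W A K : Subgroup G) : Prop where
  prime : p.Prime
  hW : Abelem p W
  hA : Abelem p A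
  qs : IsQuasisimple K
  nA : A ≤ N(W)
  nK : K ≤ N(W)
  perm : ∀ a ∈ A, a ∈ N(K) ∨ cj a K ≤ C(K)
  nc : ¬ K ≤ C(W)

namespace PG

theorem cen (h : PG p W A K) (ha : a ∈ A) (hn : a ∉ N(K)) : cj a K ≤ C(K) := (h.perm a ha).resolve_left hn

theorem conj (h : PG p W A K) (ha : a ∈ A) (hn : a ∉ N(K)) (hx : x ∈ K) : a * x * a⁻¹ ∈ C(K) :=
  h.cen ha hn (conj_mem_cj.2 hx)

theorem nrm_cj (h : PG p W A K) (ha : a ∈ A) (hc : c ∈ A) : a ∈ N(cj c K) ↔ a ∈ N(K) := by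
  rw [← cj_nrm, mem_cj, mul_assoc, h.hA.ab.comm ha hc, inv_mul_cancel_left]

theorem cen_cj (h : PG p W A K) (ha : a ∈ A) (hc : c ∈ A) : a ∈ C(cj c K) ↔ a ∈ C(K) := by
  rw [← cj_cen, mem_cj, mul_assoc, h.hA.ab.comm ha hc, inv_mul_cancel_left]

theorem nKc (h : PG p W A K) (hc : c ∈ A) : cj c K ≤ N(W) := cj_le_of_mem (h.nA hc) h.nK

theorem cjK (h : PG p W A K) (hc : c ∈ A) : PG p W A (cj c K) :=
  ⟨h.prime, h.hW, h.hA, qs_cj h.qs c, h.nA, h.nKc hc, fun a ha => (h.perm a ha).imp (h.nrm_cj ha hc).2 fun e => by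
    rw [cj_cj, h.hA.ab.comm ha hc, ← cj_cj]; exact cj_cents.2 e,
    fun e => h.nc (by rwa [← cj_of_mem_nrm (h.nA hc), cj_cents] at e)⟩

theorem mono (h : PG p W A K) (hB : B ≤ A) : PG p W B K :=
  ⟨h.prime, h.hW, h.hA.mono hB, h.qs, hB.trans h.nA, h.nK, fun a ha => h.perm a (hB ha), h.nc⟩

theorem comm_not (h : PG p W A K) (ha : a ∈ A) (hn : a ∉ N(K)) (hx : x ∈ K) (hx' : x ∉ C(K)) : ⁅x, a⁆ ∉ C(W) :=
  fun e => h.nc (qs_D h.qs h.nK hx hx' (h.conj ha hn (inv_mem hx)) (by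
    rw [← mul_assoc, ← mul_assoc]; exact e))

theorem zp (h : PG p W A K) (ha : a ∈ A) (hn : a ∉ N(K)) (hy : y ∈ ⟪a⟫) (h1 : y ≠ 1) : y ∉ N(K) := fun e => by
  have a1 : a ≠ 1 := fun e => hn (e ▸ one_mem _)
  have := eq_zpowers_of_prime (by rw [h.hA.card_zpowers h.prime ha a1]; exact h.prime) hy h1
  exact hn (zpowers_le.2 e (this ▸ mem_zpowers a))

theorem M1 (h : PG p W A K) (hX : X ≤ A ⊓ N(K) ⊓ C(⁅W, A⁆)) (hX' : ¬ X ≤ C(K)) (ha : a ∈ A) (φ : K →* G)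
    (h1 : ∀ m, φ m ∈ C[a]) (h2 : ∀ m, φ m ∈ N(W))
    (h3 : ∀ c ∈ A, ∀ m m' : K, (m' : G) = c * m * c⁻¹ → φ m' = c * φ m * c⁻¹) (m : K) :
    φ m ∈ C(⁅W, ⟪a⟫⁆) ∧ a ∈ C(⁅W, ⟪φ m⟫⁆) := by
  have k : φ m ∈ C(⁅W, ⟪a⟫⁆) := by
    have : ⁅K, X⁆ ≤ (C(⁅W, ⟪a⟫⁆).comap φ).map K.subtype := comm_le_iff.2 fun k hk c hc => by
      have hc' := hX hc
      have m1 : c * k⁻¹ * c⁻¹ ∈ K := conj_mem hc'.1.2 (inv_mem hk)
      refine ⟨⟨k, hk⟩ * ⟨_, m1⟩, ?_, by simp [commutatorElement_def, mul_assoc]⟩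
      show φ _ ∈ C(⁅W, ⟪a⟫⁆)
      rw [map_mul, h3 c hc'.1.1 (⟨k, hk⟩ : K)⁻¹ ⟨_, m1⟩ rfl, map_inv, ← mul_assoc, ← mul_assoc]
      have c1 : c ∈ C(⁅W, ⟪a⟫⁆) := cen_anti (commSS le_rfl (zpowers_le.2 ha)) hc'.2
      refine mul_mem (conj_mem ?_ c1) (inv_mem c1)
      exact zpowers_le.1 (norms_cent (normsR (zpowers_le.2 (h2 _)) (norms_zpowers_of_cen1 (zpowers_le.2 (h1 _)))))
    rw [qs_comm h.qs (hX.trans (inf_le_left.trans inf_le_right)) hX'] at this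
    obtain ⟨m', hm, e⟩ := this m.2
    rwa [← (Subtype.ext e : m' = m)]
  exact ⟨k, tsl1 k (cen1_comm.1 (h1 m))⟩

theorem diag (h : PG p W A K) (hX : X ≤ A ⊓ N(K) ⊓ C(⁅W, A⁆)) (hX' : ¬ X ≤ C(K)) (ha : a ∈ A) (hn : a ∉ N(K))
    (hx : x ∈ K) : ∃ r, x * r ∈ C[a] ∧ a ∈ C(⁅W, ⟪x * r⟫⁆) ∧
      ∀ R : Subgroup G, (∀ y ∈ ⟪a⟫, y ≠ 1 → y * x * y⁻¹ ∈ R) → r ∈ R := by
  have hA : ⟪a⟫ ≤ A := zpowers_le.2 ha
  obtain ⟨φ, h1, h2, h3⟩ := exists_diag' (K := K) (Y := ⟪a⟫) fun y hy y1 => centsC (h.cen (hA hy) (h.zp ha hn hy y1))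
  rw [cen_zpowers] at h1 h3
  refine ⟨x⁻¹ * φ ⟨x, hx⟩, ?_, ?_, fun R => h2 R ⟨x, hx⟩⟩
  · rw [mul_inv_cancel_left]; exact h1 _
  · rw [mul_inv_cancel_left]
    refine (h.M1 hX hX' ha φ h1 (fun m => ?_) (fun c hc => h3 c (h.hA.ab.le_cen1 ha hc)) _).2
    exact (mul_mem_cancel_left (inv_mem (h.nK m.2))).1
      (h2 _ m fun y hy _ => conj_mem (le_nrm _ (h.nA (hA hy))) (h.nK m.2))

theorem M3 (h : PG p W A K) (hX : X ≤ A ⊓ N(K) ⊓ C(⁅W, A⁆)) (hX' : ¬ X ≤ C(K)) (ha : a ∈ A) (hn : a ∉ N(K))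
    (hc : c ∈ A) (h1 : ∀ y ∈ ⟪a⟫, y * c ∈ N(K) → y * c = 1) (h2 : c ∉ N(K)) (h3 : a⁻¹ * c ∉ N(K)) :
    K ≤ C(⁅W, cj c K⁆) := by
  obtain ⟨x, hx, hx'⟩ := qs_exists h.qs
  have hA : ⟪a⟫ ≤ A := zpowers_le.2 ha
  have h' := h.cjK hc
  have XA : X ≤ A := hX.trans (inf_le_left.trans inf_le_left)
  have hn' : a ∉ N(cj c K) := mt (h.nrm_cj ha hc).1 hn
  have kx : c * x * c⁻¹ ∈ cj c K := conj_mem_cj.2 hx
  obtain ⟨r, r1, r2, r3⟩ := h'.diag (X := X)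
    (fun z hz => ⟨⟨XA hz, (h.nrm_cj (XA hz) hc).2 (hX hz).1.2⟩, (hX hz).2⟩)
    (fun e => hX' fun z hz => (h.cen_cj (XA hz) hc).1 (e hz)) ha hn' kx
  have d1 : c * x * c⁻¹ * r ∈ C[x] := mul_mem (cen_le_cen1 hx (h.conj hc h2 hx)) (r3 _ fun y hy _ => by
    have e : y * (c * x * c⁻¹) * y⁻¹ = y * c * x * (y * c)⁻¹ := by group
    rw [e]
    by_cases hy' : y * c ∈ N(K)
    · rw [h1 y hy hy', one_mul, inv_one, mul_one]; exact self_mem_cen1 x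
    · exact cen_le_cen1 hx (h.conj (mul_mem (hA hy) hc) hy' hx))
  have d2 : r ∈ C(cj c K) := r3 _ fun y hy y1 => h'.conj (hA hy) (h'.zp ha hn' hy y1) kx
  have e0 : ⁅x, a⁆ = x * (a * x⁻¹ * a⁻¹) := by rw [commutatorElement_def]; group
  have y1 : ⁅x, a⁆ ∈ C(⁅W, ⟪c * x * c⁻¹ * r⟫⁆) := by
    rw [commutatorElement_def]
    refine mul_mem (conj_mem ?_ r2) (inv_mem r2)
    exact zpowers_le.1 (norms_cent (normsR (zpowers_le.2 (h.nK hx))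
      (norms_zpowers_of_cen1 (zpowers_le.2 (cen1_comm.1 d1)))))
  have y2 : c * x * c⁻¹ * r ∈ C[⁅x, a⁆] := by
    rw [cen1_comm] at d1 r1 ⊢
    exact mul_mem (mul_mem (mul_mem d1 r1) (inv_mem d1)) (inv_mem r1)
  have y3 : ⁅x, a⁆ ∈ C(cj c K) := by
    rw [e0]
    refine mul_mem (centsC (h.cen hc h2) hx) ?_
    have := centsC (h.cen (mul_mem (inv_mem ha) hc) h3)
    rw [← cj_cents (g := a), cj_cj, mul_inv_cancel_left] at this
    exact this (conj_mem_cj.2 (inv_mem hx))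
  have y4 : cj c K ≤ C(⁅W, ⟪⁅x, a⁆⟫⁆) :=
    qs_D h'.qs (normsR h'.nK (norms_zpowers_of_cen1 (le_cen1.2 y3))) kx
      (by rw [← cj_cen, conj_mem_cj]; exact hx') d2 (tsl1 y1 y2)
  have y5 := tsl y4 (zpowers_le.2 y3) (mem_zpowers _)
  exact qs_D h.qs (normsR h.nK (cents_norm (centsC (h.cen hc h2)))) hx hx' (h.conj ha hn (inv_mem hx)) (e0 ▸ y5)

theorem M4 (h : PG p W A K) (hX : X ≤ A ⊓ N(K) ⊓ C(⁅W, A⁆)) (hX' : ¬ X ≤ C(K)) (ha : a ∈ A) (hn : a ∉ N(K))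
    (hc : ∀ c ∈ A, c ∉ N(K) → K ≤ C(⁅W, cj c K⁆)) : False := by
  have hA : ⟪a⟫ ≤ A := zpowers_le.2 ha
  have hW : ⁅W, K⁆ ≤ W := comm_le_left h.nK
  have pf := H2.commutator_eq_of_isQuasisimple h.qs
  refine h.nc (comm_eq_bot'.1 (H2.commutator_eq_bot_of_perfect pf (H2.commutator_eq_bot_of_perfect pf
    (comm_eq_bot.2 (comm_le_iff.2 fun u hu x hx => ?_)))))
  obtain ⟨r, -, r2, r3⟩ := h.diag hX hX' ha hn hx
  have r4 : r ∈ C(⁅W, K⁆) := r3 _ fun y hy y1 =>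
    tsl (hc y (hA hy) (h.zp ha hn hy y1)) (h.cen (hA hy) (h.zp ha hn hy y1)) (conj_mem_cj.2 hx)
  have e : ⁅u, x * r⁆ = ⁅u, x⁆ := by
    have := mem_cen.1 r4 _ (inv_mem hu)
    calc _ = u * x * (r * u⁻¹) * r⁻¹ * x⁻¹ := by rw [commutatorElement_def]; group
      _ = _ := by rw [← this, commutatorElement_def]; group
  have e2 := mem_cen.1 r2 _ (comm_mem (hW hu) (mem_zpowers _))
  rw [e] at e2
  have m : ⁅u, x⁆ ∈ ⁅W, K⁆ := comm_le_left (norm_comm_right _ _) (comm_mem hu hx)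
  have m2 : a * ⁅u, x⁆ * a⁻¹ ∈ cj a ⁅W, K⁆ := conj_mem_cj.2 m
  rw [← e2, mul_inv_cancel_right, cj_comm, cj_of_mem_nrm (h.nA ha)] at m2
  exact centsC (hc a ha hn) m2

theorem T (h : PG p W A K) (hb : BO p W A) (h1 : A ⊓ N(K) ≤ C(W)) (h1' : A ⊓ N(K) ≤ C(K)) : A ≤ N(K) := by
  by_contra h2
  obtain ⟨q, hq, qp, q3, x, hx, px, hx'⟩ := qs_exists_q h.qs h.prime
  set X : Subgroup G := ⨆ a : A, ⟪(a : G) * x * (a : G)⁻¹⟫ with hX
  have m : ∀ a ∈ A, a * x * a⁻¹ ∈ X := fun a ha => le_iSup (fun a : A => ⟪(a : G) * x * (a : G)⁻¹⟫) ⟨a, ha⟩ (mem_zpowers _)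
  have xX : x ∈ X := by simpa using m 1 (one_mem _)
  have nX : A ≤ N(X) := fun c hc => mem_nrm_of_cj_le (cj_le_iff.2 (iSup_le fun a => zpowers_le.2 (by
    rw [mem_cj, inv_inv]
    have := m _ (mul_mem hc a.2)
    rwa [mul_inv_rev, mul_assoc c, mul_assoc c, ← mul_assoc _ _ c⁻¹, ← mul_assoc c] at this)))
  have c1 : ∀ a ∈ A, a * x * a⁻¹ ∈ C[x] := fun a ha => by
    by_cases e : a ∈ N(K)
    · rw [← mem_cen.1 (h1' (mem_inf.2 ⟨ha, e⟩)) x hx, mul_inv_cancel_right]; exact self_mem_cen1 x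
    · exact cen_le_cen1 hx (h.conj ha e hx)
  have c2 : X ≤ C[x] := iSup_le fun a => zpowers_le.2 (c1 a a.2)
  have ab : Ab X := ab_iff.2 (centsC (iSup_le fun a => zpowers_le.2 (le_cen1.1 (by
    rw [← cj_cen1, ← cj_of_mem_nrm (nX a.2)]; exact cj_mono _ c2))))
  have pX : PGrp q X := by
    have : X ≤ O[{q}](X) := iSup_le fun a => pcore_max (px.conj a).zpowers (ab.nml (zpowers_le.2 (m a a.2)))
    exact (pcore_pi _ _).mono this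
  have XW : X ≤ N(W) := iSup_le fun a => zpowers_le.2 (h.nKc a.2 (conj_mem_cj.2 hx))
  have HW : X ⊔ A ≤ N(W) := sup_le XW h.nA
  have ff : FFS p (til W W) (bar W (X ⊔ A)) (bar W X) := by
    refine ⟨h.prime, abelem_til h.hW, bar_norms _ _, bar_faithful HW, (nml_sup_left nX).pmap _,
      (pX.p' qp).pmap _, fun z hz => ?_⟩
    obtain ⟨g, hg, hg', rfl⟩ := mem_pmap.1 hz.1
    obtain ⟨u, hu, a, ha, rfl⟩ := (mem_sup_norm nX).1 hg
    have um := mem_pmap_of_mem (act W) (XW hu) hu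
    have hz2 := hz.2
    rw [pfun_mul _ (XW hu) (h.nA ha)] at hz2 ⊢
    have a1 := (mul_mem_cancel_left ((ab.pmap _).le_cen um)).1 hz2
    have a2 : a ∈ N(K) := by
      by_contra e
      refine h.comm_not ha e hx hx' ?_
      rw [← pker_act, ← pfun_eq_one_iff (x := ⁅x, a⁆) (mul_mem (mul_mem (mul_mem (XW xX) (h.nA ha)) (inv_mem (XW xX))) (inv_mem (h.nA ha))), pfun_comm _ (XW xX) (h.nA ha)]
      exact commutatorElement_eq_one_iff_mul_comm.2 (mem_cen.1 a1 _ (mem_pmap_of_mem _ (XW xX) xX))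
    have a3 := h1 (mem_inf.2 ⟨ha, a2⟩)
    rw [← pker_act, ← pfun_eq_one_iff (h.nA ha)] at a3
    rwa [a3, mul_one]
  have hA : bar W A ≤ bar W (X ⊔ A) := pmap_mono _ le_sup_right
  have k := ff.le_of_trv (L := ⊥) hA (hb.bar h.nA) fun B hB tB => by
    have hB' := hB.trans hA
    refine (ff.eq_bot_of_cen (tB.pGrp h.prime) hB' (comm_eq_bot'.1 ?_)).le
    rcases ff.comm_pGrp hB' tB with ⟨-, e⟩ | ⟨-, -, e⟩
    · exact e.eq_bot (((pX.p' q3).pmap _).mono (ff.comm_le_F hB'))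
    · exact (e ((ab.pmap _).mono (ff.comm_le_F hB'))).elim
  obtain ⟨a, ha, hn⟩ := SetLike.not_le_iff_exists.1 h2
  refine h.comm_not ha hn hx hx' ?_
  have := (bar_eq_bot h.nA).1 (le_bot_iff.1 k) ha
  exact mul_mem (conj_mem (norms_cent h.nK hx) this) (inv_mem this)

end PG

theorem half (hV : Ab V) (ha : a ∈ N(V)) (hx : x ∈ N(V)) (h2 : ⁅V, ⟪a⟫⁆ ≤ C[a]) (h : V ⊓ C[⁅x, a⁆] = ⊥) :
    V ⊓ C[a] = ⁅V, ⟪a⟫⁆ ∧ #(V ⊓ C[a]) * #(V ⊓ C[a]) ≤ #V := by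
  have h1 : #(V ⊓ C[a]) * #(V ⊓ C[a]) ≤ #V := by
    have := card_mul_le (M := V) (A := V ⊓ C[a]) (B := cj x (V ⊓ C[a])) inf_le_left (cj_le_of_nrm hx inf_le_left)
    rwa [card_cj, eq_bot_of_le (A := V ⊓ C[a] ⊓ cj x (V ⊓ C[a])) ?_ h, card_bot', mul_one] at this
    rw [cj_inf, cj_cen1]
    intro v hv
    exact ⟨hv.1.1, cen1_comm.1 (mul_mem (cen1_comm.1 hv.2.2) (inv_mem (cen1_comm.1 hv.1.2)))⟩
  refine ⟨(eq_of_card_le (le_inf (comm_le_left (zpowers_le.2 ha)) h2) ?_).symm, h1⟩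
  rw [← card_comm_zp hV ha] at h1
  exact Nat.le_of_mul_le_mul_right h1 (card_pos _)

theorem quad2 (hV : Abelem 2 V) (ha : a ∈ N(V)) (h2 : a ^ 2 = 1) : ⁅V, ⟪a⟫⁆ ≤ C[a] := by
  refine (comm_zp_le (W := V ⊓ C[a]) inf_le_left (hV.ab.norms inf_le_left) fun v hv => ?_).trans inf_le_right
  have m : ⁅v, a⁆ ∈ V := comm_le_left (zpowers_le.2 ha) (comm_mem hv (mem_zpowers a))
  refine ⟨m, mem_cen1.2 ?_⟩
  have e : ⁅v, a⁆⁻¹ = ⁅v, a⁆ := inv_eq_of_mul_eq_one_right (by rw [← sq, hV.pow m])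
  have hbb : a⁻¹ = a := inv_eq_of_mul_eq_one_right (by rw [← sq, h2])
  rw [← e, commutatorElement_inv]
  conv_rhs => rw [← commutatorElement_inv, e]
  rw [commutatorElement_def, commutatorElement_def, hbb]; group

theorem Best.sub (h : Best V A) (hW : W ≤ V) : Best W A := fun B hB => by
  have h1 := h B hB
  have h2 := card_mul_le (M := V ⊓ C(B)) (A := V ⊓ C(A)) (B := W ⊓ C(B)) (inf_le_inf_left _ (cen_anti hB))
    (inf_le_inf_right _ hW)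
  have h3 : V ⊓ C(A) ⊓ (W ⊓ C(B)) ≤ W ⊓ C(A) := fun v hv => ⟨hv.2.1, hv.1.2⟩
  replace h2 := h2.trans (Nat.mul_le_mul_left _ (FT.card_le h3))
  unfold ms at h1 ⊢
  refine Nat.le_of_mul_le_mul_left ?_ (card_pos (V ⊓ C(A)))
  calc _ = #B * (#(V ⊓ C(A)) * #(W ⊓ C(B))) := by ring
    _ ≤ #B * (#(V ⊓ C(B)) * #(W ⊓ C(A))) := Nat.mul_le_mul_left _ h2
    _ = #B * #(V ⊓ C(B)) * _ := (mul_assoc _ _ _).symm
    _ ≤ #A * #(V ⊓ C(A)) * _ := Nat.mul_le_mul_right _ h1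
    _ = _ := by ring

theorem cop2 (hW : Abelem 2 W) (hx : PiElt {2}ᶜ x) : Cop W ⟪x⟫ := (hW.pGrp Nat.prime_two).cop hx.zpowers

/-- the case of two conjugates -/
structure PG2 (W A K X : Subgroup G) (a : G) : Prop extends PG 2 W A K where
  ha : a ∈ A
  hn : a ∉ N(K)
  hI : ∀ c ∈ A, c ∈ N(K) ∨ a⁻¹ * c ∈ N(K)
  gen : ∀ U, U ≤ W → (∀ c ∈ A, ⁅W, cj c K⁆ ≤ U) → W ≤ U
  hX : X ≤ A ⊓ N(K) ⊓ C(⁅W, A⁆)
  hX' : ¬ X ≤ C(K)

namespace PG2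

theorem inv (h : PG2 W A K X a) (hc : c ∈ A) : c⁻¹ = c := inv_eq_of_mul_eq_one_right (by rw [← sq, h.hA.pow hc])

theorem cm (h : PG2 W A K X a) (hx : x ∈ K) (hy : y ∈ K) : x * (a * y * a⁻¹) = a * y * a⁻¹ * x :=
  mem_cen.1 (h.conj h.ha h.hn hy) x hx

theorem E0 (h : PG2 W A K X a) (hx : x ∈ K) : x * (a * x * a⁻¹) ∈ C[a] ∧ x * (a * x * a⁻¹) ∈ N(W) ∧
    x * (a * x * a⁻¹) ∈ C(⁅W, ⟪a⟫⁆) ∧ a ∈ C(⁅W, ⟪x * (a * x * a⁻¹)⟫⁆) := by
  let φ : K →* G := MonoidHom.mk' (fun k => k * (a * k * a⁻¹)) fun k l => by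
    show (k : G) * l * (a * (k * l) * a⁻¹) = _
    calc _ = k * (l * (a * k * a⁻¹)) * (a * l * a⁻¹) := by group
      _ = _ := by rw [h.cm l.2 k.2]; group
  have h1 : ∀ m, φ m ∈ C[a] := fun m => mem_cen1.2 (by
    show (m : G) * (a * m * a⁻¹) * a = a * (m * (a * m * a⁻¹))
    calc _ = m * (a * m * a⁻¹) * a⁻¹ := by rw [h.inv h.ha]
      _ = a * m * a⁻¹ * m * a⁻¹ := by rw [h.cm m.2 m.2]
      _ = _ := by nth_rewrite 1 [h.inv h.ha]; group)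
  have h2 : ∀ m, φ m ∈ N(W) := fun m => mul_mem (h.nK m.2) (h.nKc h.ha (conj_mem_cj.2 m.2))
  refine ⟨h1 ⟨x, hx⟩, h2 ⟨x, hx⟩, h.M1 h.hX h.hX' h.ha φ h1 h2 (fun c hc m m' e => ?_) ⟨x, hx⟩⟩
  show (m' : G) * (a * m' * a⁻¹) = c * (m * (a * m * a⁻¹)) * c⁻¹
  rw [e]
  calc _ = c * m * c⁻¹ * ((a * c) * m * (a * c)⁻¹) := by group
    _ = _ := by rw [h.hA.ab.comm h.ha hc]; group

theorem odd (h : PG2 W A K X a) (hx : x ∈ K) (ox : PiElt {2}ᶜ x) : PiElt {2}ᶜ (x * (a * x * a⁻¹)) :=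
  ox.mul (ox.conj a) (h.cm hx hx)

theorem dp (h : PG2 W A K X a) (hx : x ∈ K) (ox : PiElt {2}ᶜ x) :
    DP ⁅W, ⟪x * (a * x * a⁻¹)⟫⁆ (W ⊓ C(⟪x * (a * x * a⁻¹)⟫)) W :=
  coprime_abelian_cent_dprod (zpowers_le.2 (h.E0 hx).2.1) (cop2 h.hW (h.odd hx ox)) h.hW.ab

theorem xd (h : PG2 W A K X a) (hx : x ∈ K) : x ∈ N(⟪x * (a * x * a⁻¹)⟫) :=
  zpowers_le.1 (norms_zpowers_of_cen1 (zpowers_le.2 (mem_cen1.2 (by rw [mul_assoc x, ← h.cm hx hx]))))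

theorem E1 (h : PG2 W A K X a) (hx : x ∈ K) (ox : PiElt {2}ᶜ x) (hx' : x ∉ C(K)) : W ⊓ C[x] = ⊥ := by
  have xW : ⟪x⟫ ≤ N(W) := zpowers_le.2 (h.nK hx)
  have xd := zpowers_le.2 (h.xd hx)
  have n1 := zpowers_le.1 (normsR xW xd)
  have h1 : W ⊓ C[x] ≤ C[a * x * a⁻¹] := by
    rw [← ((h.dp hx ox).subcent1 n1 (zpowers_le.1 (norms_subcent xW xd))).mulEq.sup]
    refine sup_le (fun w hw => cen1_comm.1 ?_) fun w hw => cen1_comm.1 ?_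
    · have a1 := cen_le_cen1 hw.1 (h.E0 hx).2.2.2
      exact mul_mem (mul_mem a1 (cen1_comm.1 hw.2)) (inv_mem a1)
    · exact (mul_mem_cancel_left (cen1_comm.1 hw.2)).1 (cen1_comm.1 (cen_le_cen1 (mem_zpowers _) hw.1.2))
  have aW := cj_of_mem_nrm (h.nA h.ha)
  have h2 : cj a (W ⊓ C[x]) = W ⊓ C[x] := by
    refine (eq_of_card_eq ?_ (card_cj _ _).symm).symm
    rw [cj_inf, cj_cen1, aW]; exact le_inf inf_le_left h1
  have h3 : K ≤ C(W ⊓ C[x]) := by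
    refine qs_D h.qs ?_ hx hx' (one_mem _) (by rw [mul_one]; exact le_cen1.1 inf_le_right)
    rw [← h2, cj_inf, cj_cen1, aW]
    exact normsI h.nK (norms_cen1 (le_cen1.2 (h.conj h.ha h.hn hx)))
  have h4 : cj a K ≤ C(W ⊓ C[x]) := by rw [← h2]; exact cj_cents.2 h3
  have dx := coprime_abelian_cent_dprod xW (cop2 h.hW ox) h.hW.ab
  rw [cen_zpowers] at dx
  have h5 : ⁅W, cj a K⁆ ≤ ⁅W, ⟪x⟫⁆ := by
    rw [dx.mulEq.comm_eq_of_cents (centsC h4)]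
    exact comm_le_left (normsR (h.nKc h.ha) (norms_zpowers_of_cen1 ((h.cen h.ha h.hn).trans (cen_le_cen1 hx))))
  have h6 : ⁅W, K⁆ ≤ ⁅W, ⟪x⟫⁆ := by
    have := cj_mono a h5
    rw [cj_comm, cj_comm, aW, cj_cj, ← sq, h.hA.pow h.ha, cj_one, cj_zpowers] at this
    exact this.trans ((commSS le_rfl (zpowers_le.2 (conj_mem_cj.2 hx))).trans h5)
  have h7 := h.gen _ dx.left fun c hc => by
    rcases h.hI c hc with e | e
    · rwa [cj_of_mem_nrm e]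
    · rwa [cj_eq_cj_iff.2 e]
  exact eq_bot_of_le (le_inf (inf_le_left.trans h7) le_rfl) dx.inf

theorem E1' (h : PG2 W A K X a) (hx : x ∈ K) (ox : PiElt {2}ᶜ x) (hx' : x ∉ C(K)) : W ⊓ C[x ^ 2] = ⊥ :=
  h.E1 (pow_mem hx 2) (ox.pow 2) fun e =>
    hx' (ox.mem_of_pow_mem (by rw [compl_compl]; exact (piNat_prime Nat.prime_two).2 rfl) e)

theorem F1 (h : PG2 W A K X a) (hb : b ∈ X) (hb' : b ∉ C(K)) :
    W ⊓ C[b] ≤ ⁅W, A⁆ ∧ #(W ⊓ C[b]) * #(W ⊓ C[b]) ≤ #W := by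
  have bA := (h.hX hb).1.1
  obtain ⟨x, hx, ox, hx', e⟩ := qs_exists_inv h.qs (h.hX hb).1.2 hb' (h.hA.pow bA)
  have := half h.hW.ab (h.nA bA) (h.nK hx) (quad2 h.hW (h.nA bA) (h.hA.pow bA)) (by
    have : ⁅x, b⁆ = x ^ 2 := by
      calc _ = x * (b * x * b⁻¹)⁻¹ := by rw [commutatorElement_def]; group
        _ = _ := by rw [e, inv_inv, sq]
    rw [this, h.E1' hx ox hx'])
  exact ⟨this.1.le.trans (commSS le_rfl (zpowers_le.2 bA)), this.2⟩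

theorem binv (h : PG2 W A K X a) (hb : b ∈ A) (hx : x ∈ K) (e : b * x * b⁻¹ = x⁻¹) :
    b * (x * (a * x * a⁻¹)) * b⁻¹ = (x * (a * x * a⁻¹))⁻¹ := by
  calc _ = b * x * b⁻¹ * ((b * a) * x * (b * a)⁻¹) := by group
    _ = b * x * b⁻¹ * (a * (b * x * b⁻¹) * a⁻¹) := by rw [h.hA.ab.comm hb h.ha]; group
    _ = _ := by rw [e, h.cm (inv_mem hx) (inv_mem hx)]; group

theorem F2 (h : PG2 W A K X a) (hb : b ∈ X) (hb' : b ∉ C(K)) {v : G} (hv : v ∈ W ⊓ C[a])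
    (hc : ⁅v, b⁆ ∈ ⁅W, ⟪a⟫⁆) : v ∈ ⁅W, A⁆ := by
  have bA := (h.hX hb).1.1
  obtain ⟨x, hx, ox, hx', e⟩ := qs_exists_inv h.qs (h.hX hb).1.2 hb' (h.hA.pow bA)
  obtain ⟨d1, d2, d3, d4⟩ := h.E0 hx
  have dp := h.dp hx ox
  have xd := h.xd hx
  have bd : ⟪b⟫ ≤ N(⟪x * (a * x * a⁻¹)⟫) := zpowers_le.2 (cj_eq_self.1 (by rw [cj_zpowers, h.binv bA hx e, zpowers_inv]))
  have e0 : x * (a * x * a⁻¹) * ⁅x, a⁆ = x ^ 2 := by
    rw [mul_assoc, commutatorElement_def, sq]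
    calc _ = x * (a * x * a⁻¹ * x) * (a * x⁻¹ * a⁻¹) := by group
      _ = _ := by rw [← h.cm hx hx]; group
  set d := x * (a * x * a⁻¹)
  have bW : ⟪b⟫ ≤ N(W) := zpowers_le.2 (h.nA bA)
  have aW : ⟪a⟫ ≤ N(W) := zpowers_le.2 (h.nA h.ha)
  obtain ⟨u, hu, w, hw, rfl⟩ := (mem_sup_norm (dp.right.trans dp.nml_left.nrm)).1 (dp.mulEq.sup.ge hv.1)
  have u1 : ⁅u, b⁆ ∈ ⁅W, ⟪d⟫⁆ := comm_le_left (normsR bW bd) (comm_mem hu (mem_zpowers b))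
  have w1 : ⁅w, b⁆ ∈ W ⊓ C(⟪d⟫) := comm_le_left (norms_subcent bW bd) (comm_mem hw (mem_zpowers b))
  have e1 : ⁅u * w, b⁆ = ⁅w, b⁆ * ⁅u, b⁆ := by
    calc _ = (u * ⁅w, b⁆) * u⁻¹ * ⁅u, b⁆ := by simp only [commutatorElement_def]; group
      _ = _ := by rw [h.hW.ab.comm (dp.left hu) w1.1]; group
  have m : ⁅u * w, b⁆ ∈ W ⊓ C(⟪d⟫) := ⟨comm_le_left aW hc, centsC (zpowers_le.2 d3) hc⟩
  rw [e1, mul_mem_cancel_left w1] at m
  have u2 : u ∈ ⁅W, A⁆ := (h.F1 hb hb').1 ⟨dp.left hu,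
    mem_cen1.2 (commutatorElement_eq_one_iff_mul_comm.1 (eq_one_of_mem_inf dp.inf u1 m))⟩
  have w2 : w ∈ C[a] := (mul_mem_cancel_left (le_cen1.2 d4 hu)).1 hv.2
  have := half (V := W ⊓ C(⟪d⟫)) (a := a) (x := x) (h.hW.ab.mono inf_le_left)
    (zpowers_le.1 (norms_subcent aW (norms_zpowers_of_cen1 (zpowers_le.2 (cen1_comm.1 d1)))))
    (zpowers_le.1 (norms_subcent (zpowers_le.2 (h.nK hx)) (zpowers_le.2 xd)))
    ((commSS inf_le_left le_rfl).trans (quad2 h.hW (h.nA h.ha) (h.hA.pow h.ha)))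
    (eq_bot_of_le (B := W ⊓ C[x ^ 2]) (fun z hz => ⟨hz.1.1, by
      rw [← e0]
      exact cen1_comm.1 (mul_mem (cen1_comm.1 (cen_le_cen1 (mem_zpowers _) hz.1.2)) (cen1_comm.1 hz.2))⟩)
      (h.E1' hx ox hx'))
  exact mul_mem u2 (commSS inf_le_left (zpowers_le.2 h.ha) (this.1.le ⟨hw, w2⟩))

theorem F3 (h : PG2 W A K X a) : ∃ v ∈ W ⊓ C[a], v ∉ ⁅W, A⁆ := by
  obtain ⟨b, hb, hb'⟩ := SetLike.not_le_iff_exists.1 h.hX'
  have bA := (h.hX hb).1.1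
  obtain ⟨x, hx, ox, hx', e⟩ := qs_exists_inv h.qs (h.hX hb).1.2 hb' (h.hA.pow bA)
  obtain ⟨d1, d2, d3, d4⟩ := h.E0 hx
  by_contra! hc
  have h1 : b ∈ C(⁅W, ⟪x * (a * x * a⁻¹)⟫⁆) :=
    cen_anti (fun v hv => hc v ⟨(h.dp hx ox).left hv, le_cen1.2 d4 hv⟩) (h.hX hb).2
  have h2 := mul_mem (conj_mem (norms_cent (norm_comm_right W _) (mem_zpowers _)) h1) (inv_mem h1)
  have e2 : x * (a * x * a⁻¹) * b * (x * (a * x * a⁻¹))⁻¹ * b⁻¹ = (x * (a * x * a⁻¹)) ^ 2 := by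
    calc _ = x * (a * x * a⁻¹) * (b * (x * (a * x * a⁻¹)) * b⁻¹)⁻¹ := by group
      _ = _ := by rw [h.binv bA hx e, inv_inv, sq]
  rw [e2] at h2
  have h3 := (h.odd hx ox).mem_of_pow_mem (by rw [compl_compl]; exact (piNat_prime Nat.prime_two).2 rfl) h2
  exact h.nc (qs_D h.qs h.nK hx hx' (h.conj h.ha h.hn hx) (coprime_cents_of_comm_cents (zpowers_le.2 d2)
    (cop2 h.hW (h.odd hx ox)) (centsC (zpowers_le.2 h3)) (mem_zpowers _)))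

theorem E (h : PG2 W A K (A ⊓ C(⁅W, A⁆) ⊓ N(K)) a) (cenK : A ⊓ C(K) ≤ C(W)) (hb : Best W (A ⊓ C(⁅W, A⁆))) :
    False := by
  obtain ⟨v, hv, hv'⟩ := h.F3
  obtain ⟨b, hb1, hb'⟩ := SetLike.not_le_iff_exists.1 h.hX'
  set A₀ := A ⊓ C(⁅W, A⁆) with hA₀
  set X := A₀ ⊓ N(K) with hX
  have WA : ⁅W, A⁆ ≤ W ⊓ C(A₀) := le_inf (comm_le_left h.nA) (centsC inf_le_right)
  let ψ : X →* G := MonoidHom.mk' (fun c => ⁅v, (c : G)⁆) fun c e => by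
    show ⁅v, (c : G) * e⁆ = _
    calc _ = ⁅v, (c : G)⁆ * (c * ⁅v, (e : G)⁆) * (c : G)⁻¹ := by simp only [commutatorElement_def]; group
      _ = _ := by rw [← mem_cen.1 c.2.1.2 _ (comm_mem hv.1 e.2.1.1)]; group
  have h1 : (⁅W, ⟪a⟫⁆).comap ψ ≤ C(W).subgroupOf X := fun c hc => by
    by_contra e
    exact hv' (h.F2 c.2 (fun e' => e (cenK ⟨c.2.1.1, e'⟩)) hv hc)
  have h2 : C(W).relIndex X ≤ (⁅W, ⟪a⟫⁆).relIndex (W ⊓ C(A₀)) := by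
    refine (Nat.le_of_dvd (Nat.pos_of_ne_zero index_ne_zero_of_finite) (index_dvd_of_le h1)).trans ?_
    rw [index_comap]
    refine relIndex_le_of_le_right ?_ (relIndex_pos _ _).ne'
    rintro _ ⟨c, rfl⟩
    exact WA (comm_mem hv.1 c.2.1.1)
  have h3 := card_mul_relIndex ((commSS le_rfl (zpowers_le.2 h.ha)).trans WA)
  have h4 := hb (A₀ ⊓ C(W)) inf_le_left
  rw [ms, ms, inf_eq_left.2 (centsC inf_le_right)] at h4
  have a1 : a ≠ 1 := fun e => h.hn (e ▸ one_mem _)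
  have ca := h.hA.card_zpowers h.prime h.ha a1
  have h5 : N(K).relIndex A₀ ≤ 2 := by
    refine (relIndex_le_of_le_right (inf_le_left : A₀ ≤ A) (relIndex_pos _ _).ne').trans ?_
    have e : A = A ⊓ N(K) ⊔ ⟪a⟫ := le_antisymm (fun c hc => (h.hI c hc).elim
      (fun e => mem_sup_left (mem_inf.2 ⟨hc, e⟩)) fun e => by
        rw [← mul_inv_cancel_left a c]
        exact mul_mem (mem_sup_right (mem_zpowers a)) (mem_sup_left (mem_inf.2 ⟨mul_mem (inv_mem h.ha) hc, e⟩)))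
      (sup_le inf_le_left (zpowers_le.2 h.ha))
    rw [← inf_relIndex_right, inf_comm]
    nth_rewrite 2 [e]
    rw [relIndex_sup_norm ((zpowers_le.2 h.ha).trans (h.hA.ab.norms inf_le_left)), ← ca]
    exact Nat.le_of_dvd (card_pos _) (relIndex_dvd _ _)
  have h6 := card_inf_mul_relIndex N(K) A₀
  rw [inf_comm] at h6
  have h7 := card_inf_mul_relIndex C(W) X
  have h8 : #(C(W) ⊓ X) ≤ #(A₀ ⊓ C(W)) := card_le fun z hz => ⟨hz.2.1, hz.1⟩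
  have h9 : #(W ⊓ C(A₀)) * #(W ⊓ C(A₀)) ≤ #W := by
    have : #(W ⊓ C(A₀)) ≤ #(W ⊓ C[b]) := card_le (inf_le_inf_left _ (cen_le_cen1 hb1.1))
    exact (Nat.mul_le_mul this this).trans (h.F1 hb1 hb').2
  have h10 : #⁅W, ⟪a⟫⁆ ≤ 2 := by
    have p1 := card_pos (A₀ ⊓ C(W))
    have p2 := card_pos (W ⊓ C(A₀))
    have p3 := relIndex_pos C(W) X
    have k1 : #A₀ ≤ #(A₀ ⊓ C(W)) * (C(W).relIndex X * 2) := by
      rw [← h6, ← hX, ← h7, ← mul_assoc]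
      exact Nat.mul_le_mul (Nat.mul_le_mul_right _ h8) h5
    have k2 : #W ≤ C(W).relIndex X * 2 * #(W ⊓ C(A₀)) :=
      Nat.le_of_mul_le_mul_left (h4.trans (by rw [← mul_assoc]; exact Nat.mul_le_mul_right _ k1)) p1
    have k3 := Nat.le_of_mul_le_mul_right (h9.trans k2) p2
    rw [← h3, mul_comm] at k3
    exact Nat.le_of_mul_le_mul_left ((Nat.mul_le_mul_right _ h2).trans k3) p3
  have hi : ⟪a⟫ ⊓ N(K) = ⊥ := prime_inf_of_not_le (ca ▸ h.prime) fun e => h.hn (e (mem_zpowers a))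
  refine h.hn ((h.mono (zpowers_le.2 h.ha)).T ⟨fun B hB => ?_, by rw [ab_iff_der.1 (ab_zpowers a)]; exact bot_le,
    fun y hy => by rw [h.hA.pow (zpowers_le.2 h.ha hy)]; exact one_mem _⟩ (hi ▸ bot_le) (hi ▸ bot_le) (mem_zpowers a))
  by_cases e : B = ⊥
  · show ms W B ≤ ms W ⟪a⟫
    rw [e, ms_bot, ms, ca, cen_zpowers, ← card_comm_zp h.hW.ab (h.nA h.ha)]
    exact Nat.mul_le_mul_right _ h10
  · rw [eq_of_le_prime (ca ▸ h.prime) hB e]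

end PG2

theorem PG.norm (h₀ : PG p V A K) (hb : BO p V A) : A ≤ N(K) := by
  by_contra hc
  obtain ⟨a, ha, hn⟩ := SetLike.not_le_iff_exists.1 hc
  obtain ⟨W, hW, ⟨nA, nK, nc⟩, mn⟩ := exists_min (fun W => A ≤ N(W) ∧ K ≤ N(W) ∧ ¬ K ≤ C(W)) ⟨h₀.nA, h₀.nK, h₀.nc⟩
  have h : PG p W A K := ⟨h₀.prime, h₀.hW.mono hW, h₀.hA, h₀.qs, nA, nK, h₀.perm, nc⟩
  have gen : ∀ U, U ≤ W → (∀ c ∈ A, ⁅W, cj c K⁆ ≤ U) → W ≤ U := fun U hU hU' => by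
    have kL : K ≤ ⨆ c : A, cj (c : G) K := le_iSup_of_le 1 (cj_one K).ge
    have nL : A ≤ N(⨆ c : A, cj (c : G) K) := fun c hc => mem_nrm_of_cj_le (cj_le_iff.2 (iSup_le fun e => by
      rw [← cj_le_iff, cj_cj]; exact le_iSup (fun c : A => cj (c : G) K) ⟨_, mul_mem hc e.2⟩))
    rw [← mn _ ⟨normsR nA nL, kL.trans (norm_comm_right W _), fun e => nc (comm_eq_bot'.1
      (H2.commutator_eq_bot_of_perfect (H2.commutator_eq_of_isQuasisimple h.qs)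
        (comm_eq_bot'.2 (centsS (commSS le_rfl kL) e))))⟩ (comm_le_left (iSup_le fun c => h.nKc c.2))]
    exact comm_iSup_le hU fun c => hU' c c.2
  have cenK : A ⊓ C(K) ≤ C(W) := by
    have n1 : A ⊓ C(K) ≤ N(W) := inf_le_left.trans nA
    have n2 : A ≤ N(A ⊓ C(K)) := h.hA.ab.norms inf_le_left
    have h1 : K ≤ C(⁅W, A ⊓ C(K)⁆) := by
      by_contra e
      exact (comm_lt_of_pmod h.prime (h.hW.pGrp h.prime) n1
        (fun c hc => ⟨1, by rw [pow_one, h.hA.pow hc.1]; exact one_mem _⟩)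
        fun e' => nc (by rw [e', cen_bot]; exact le_top)).ne
        (mn _ ⟨normsR nA n2, normsR nK (cents_norm (centsC inf_le_right)), e⟩ (comm_le_left n1))
    refine centsC ((gen (W ⊓ C(A ⊓ C(K))) inf_le_left fun c hc => le_inf (comm_le_left (h.nKc hc)) ?_).trans inf_le_right)
    have := cj_cents (g := c).2 (tsl h1 inf_le_right)
    rw [cj_of_mem_nrm (n2 hc), cj_comm, cj_of_mem_nrm (nA hc)] at this
    exact centsC this
  obtain ⟨x, hx, hx'⟩ := qs_exists h.qs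
  have bW : BO p W A := ⟨hb.best.sub hW, hb.der.trans (cen_anti hW), fun a ha => cen_anti hW (hb.pow ha)⟩
  obtain ⟨b0, -, b1⟩ := bW.repl h.prime h.hW nA le_rfl
  replace b1 := b1 fun e => h.comm_not ha hn hx hx' (by
    have := comm_eq_bot'.1 e ha
    exact mul_mem (conj_mem (norms_cent nK hx) this) (inv_mem this))
  by_cases hX' : A ⊓ C(⁅W, A⁆) ⊓ N(K) ≤ C(K)
  · have k : A ⊓ C(⁅W, A⁆) ⊓ N(K) ≤ C(W) := (le_inf (inf_le_left.trans inf_le_left) hX').trans cenK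
    exact b1 (comm_eq_bot'.2 ((le_inf le_rfl ((h.mono inf_le_left).T b0 k hX')).trans k))
  have hX : A ⊓ C(⁅W, A⁆) ⊓ N(K) ≤ A ⊓ N(K) ⊓ C(⁅W, A⁆) := fun z hz => ⟨⟨hz.1.1, hz.2⟩, hz.1.2⟩
  by_cases p2 : p = 2
  · subst p2
    by_cases hI : ∀ c ∈ A, c ∈ N(K) ∨ a⁻¹ * c ∈ N(K)
    · exact PG2.E ⟨h, ha, hn, hI, gen, hX, hX'⟩ cenK b0.best
    push Not at hI
    obtain ⟨e, he, e1, e2⟩ := hI
    refine h.M4 hX hX' ha hn fun c hc c1 => ?_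
    have k : ∀ a ∈ A, a ∉ N(K) → a⁻¹ * c ∉ N(K) → K ≤ C(⁅W, cj c K⁆) := fun a ha hn h3 =>
      h.M3 hX hX' ha hn hc (fun y hy y1 => by
        classical
        have o := h.hA.orderOf h.prime ha fun e => hn (e ▸ one_mem _)
        rw [mem_zpowers_iff_mem_range_orderOf, o] at hy
        obtain ⟨i, hi, rfl⟩ := Finset.mem_image.1 hy
        rw [Finset.mem_range] at hi
        interval_cases i
        · exact (c1 (by simpa using y1)).elim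
        · exact (h3 (by rw [inv_eq_of_mul_eq_one_right (a := a) (b := a) (by rw [← sq, h.hA.pow ha])]; simpa using y1)).elim) c1 h3
    by_cases c2 : a⁻¹ * c ∈ N(K)
    · refine k e he e1 fun c3 => e2 ?_
      have := mul_mem c2 (inv_mem c3)
      rwa [mul_inv_rev, inv_inv, mul_assoc, mul_inv_cancel_left] at this
    · exact k a ha hn c2
  · refine h.M4 hX hX' ha hn fun c hc c1 => h.M3 hX hX' (inv_mem hc) (fun e => c1 (inv_mem_iff.1 e)) hc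
      (fun y hy y1 => ?_) c1 ?_
    · by_contra e
      exact h.zp hc c1 (mul_mem (zpowers_inv (g := c) ▸ hy) (mem_zpowers c)) e y1
    · rw [inv_inv]
      refine h.zp hc c1 (mul_mem (mem_zpowers c) (mem_zpowers c)) fun e => p2 ?_
      have o := h.hA.orderOf h.prime hc fun e => c1 (e ▸ one_mem _)
      exact (Nat.prime_dvd_prime_iff_eq h.prime Nat.prime_two).1 (o ▸ orderOf_dvd_of_pow_eq_one (by rw [sq, e]))

end Cfsg.Agent.P22
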