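import Mathlib
import Cfsg.Agent.H29.Pn0

/-! Pronormality of odd-index subgroups: direct products and transport (part A of S2509). -/

set_option autoImplicit false

open Cfsg

namespace Cfsg.Agent.H29.Pn

open Cfsg.Agent.H17

section tr
variable {G G' : Type*} [Group G] [Group G'] {S : Subgroup G}

theorem cjs_map (e : G ≃* G') (H : Subgroup G) (g : G) :
    (cjs H g).map e.toMonoidHom = cjs (H.map e.toMonoidHom) (e g) := by
  simp only [cjs, Subgroup.map_map]; congr 1; ext; simp

theorem nrm_symm (e : G ≃* G') {a : G'} (ha : a ∈ Subgroup.normalizer ((S.map e.toMonoidHom : Subgroup G') : Set G')) :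
    e.symm a ∈ Subgroup.normalizer (S : Set G) := by
  rw [Subgroup.mem_normalizer_iff] at ha ⊢
  intro x
  have h : ∀ y : G, e y ∈ S.map e.toMonoidHom ↔ y ∈ S := fun y =>
    Subgroup.mem_map_iff_mem (f := e.toMonoidHom) e.injective
  rw [← h, ← h, ha]; simp

theorem PPat.map (e : G ≃* G') (h : PPat S) : PPat (S.map e.toMonoidHom) := by
  refine ⟨fun a ha b hb => ⟨_, h.1 _ (nrm_symm e ha) _ (nrm_symm e hb), by simp⟩, fun H hH g hg ho => ?_⟩
  have e1 : (H.comap e.toMonoidHom).map e.toMonoidHom = H := Subgroup.map_comap_eq_self_of_surjective e.surjective H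
  rcases h.2 (H.comap e.toMonoidHom) (Subgroup.map_le_iff_le_comap.1 hH) _ (nrm_symm e hg)
    (by rwa [MulEquiv.orderOf_eq]) with k | k
  · left
    have := Subgroup.mem_map_of_mem e.toMonoidHom k
    rw [Subgroup.map_sup, cjs_map, e1] at this
    simpa using this
  · right
    have := congrArg (Subgroup.map e.toMonoidHom) k
    rw [cjs_map, e1] at this
    simpa using this

theorem PP.of_one [Finite G] (hS : H18.SylIn 2 S ⊤) (h : PPat S) : PP G := fun S' hS' => by
  obtain ⟨g, -, k⟩ := hS.exists_conj_iff hS'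
  have e : S' = S.map (MulAut.conj g).toMonoidHom := by
    ext y
    rw [H10.mem_map_conj, k]; simp [mul_assoc]
  rw [e]
  exact h.map (MulAut.conj g)

theorem PP.of_mulEquiv (e : G ≃* G') (h : PP G) : PP G' := fun S' hS' => by
  have h1 : H18.SylIn 2 (S'.comap e.toMonoidHom) ⊤ := by
    have := hS'.comap_of_injective e.toMonoidHom e.injective (by
      rw [MonoidHom.range_eq_top.2 e.surjective]; exact le_top)
    rwa [Subgroup.comap_top] at this
  have := (h _ h1).map e
  rwa [Subgroup.map_comap_eq_self_of_surjective e.surjective] at this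

end tr

section pi
variable {ι : Type*} [DecidableEq ι] {G : ι → Type*} [∀ i, Group (G i)]

theorem single_conj (g : Π i, G i) (i : ι) (x : G i) :
    Pi.mulSingle i (g i * x * (g i)⁻¹) = g * Pi.mulSingle i x * g⁻¹ := by
  ext j
  by_cases h : j = i
  · subst h; simp
  · simp [h]

theorem allPron_pi' [Finite ι] [∀ i, Finite (G i)] (h : ∀ i, PP (G i)) : AllPron (Π i, G i) := by
  classical
  refine allPron_of fun S H hS hSH g hg ho => ?_
  let P : ∀ i, Subgroup (G i) := fun i => S.map (Pi.evalMonoidHom G i)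
  have hP : ∀ i, H18.SylIn 2 (P i) ⊤ := fun i => by
    have := hS.map (Pi.evalMonoidHom G i)
    rwa [Subgroup.map_top_of_surjective _ (Function.surjective_eval i)] at this
  have hpi : Subgroup.pi Set.univ P = S := by
    refine hS.max _ le_top (fun x => ?_) fun x hx i _ => ⟨x, hx, rfl⟩
    choose k hk using fun i => (hP i).isP ⟨x.1 i, x.2 i trivial⟩
    obtain ⟨m, hm⟩ := (Set.finite_range k).bddAbove
    refine ⟨m, Subtype.ext (funext fun i => ?_)⟩
    have h1 : (x.1 i) ^ 2 ^ k i = 1 := congrArg Subtype.val (hk i)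
    obtain ⟨c, hc⟩ := Nat.exists_eq_add_of_le (hm ⟨i, rfl⟩)
    show (x.1 i) ^ 2 ^ m = 1
    rw [hc, pow_add, pow_mul, h1, one_pow]
  have memS : ∀ x, x ∈ S ↔ ∀ i, x i ∈ P i := fun x => by
    rw [← hpi]; exact ⟨fun k i => k i trivial, fun k i _ => k i⟩
  have nP : ∀ a ∈ Subgroup.normalizer (S : Set (Π i, G i)), ∀ i, a i ∈ Subgroup.normalizer (P i : Set (G i)) :=
    fun a ha i => H18.mem_normalizer_of_conj_mem (by
      rintro _ ⟨x, hx, rfl⟩
      exact ⟨a * x * a⁻¹, (Subgroup.mem_normalizer_iff.1 ha x).1 hx, rfl⟩)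
  let Hi : ∀ i, Subgroup (G i) := fun i => H.comap (MonoidHom.mulSingle G i)
  have hPH : ∀ i, P i ≤ Hi i := fun i x hx => hSH ((memS _).2 fun j => by
    by_cases e : j = i
    · subst e; simpa using hx
    · simp [e])
  let D : Subgroup (Π i, G i) := Subgroup.pi Set.univ Hi
  have hDH : D ≤ H := fun x hx => Subgroup.pi_mem_of_mulSingle_mem x fun i => hx i trivial
  have hSD : S ≤ D := fun x hx i _ => hPH i ((memS x).1 hx i)
  let x : Π i, G i := fun i => if g i ∈ Hi i ⊔ cjs (Hi i) (g i) then g i else 1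
  have hx : x ∈ H ⊔ cjs H g := Subgroup.pi_mem_of_mulSingle_mem x fun i => by
    by_cases e : g i ∈ Hi i ⊔ cjs (Hi i) (g i)
    · have e1 : x i = g i := if_pos e
      rw [e1]
      have : Hi i ⊔ cjs (Hi i) (g i) ≤ (H ⊔ cjs H g).comap (MonoidHom.mulSingle G i) := by
        refine sup_le (fun y hy => Subgroup.mem_sup_left hy) ?_
        rintro _ ⟨y, hy, rfl⟩
        refine Subgroup.mem_sup_right ⟨_, hy, ?_⟩
        exact (single_conj g i y).symm
      exact this e
    · have e1 : x i = 1 := if_neg e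
      rw [e1, Pi.mulSingle_one]; exact one_mem _
  have hy : ∀ i, (x⁻¹ * g) i ∈ Subgroup.normalizer (P i : Set (G i)) ∧
      ∀ d ∈ Hi i, (x⁻¹ * g) i * d * ((x⁻¹ * g) i)⁻¹ ∈ Hi i := fun i => by
    by_cases e : g i ∈ Hi i ⊔ cjs (Hi i) (g i)
    · have e1 : (x⁻¹ * g) i = 1 := by
        have : x i = g i := if_pos e
        simp [this]
      rw [e1]; exact ⟨one_mem _, fun d hd => by simpa using hd⟩
    · have e1 : (x⁻¹ * g) i = g i := by
        have : x i = 1 := if_neg e
        simp [this]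
      rw [e1]
      refine ⟨nP g hg i, fun d hd => ?_⟩
      have := ((h i _ (hP i)).2 (Hi i) (hPH i) (g i) (nP g hg i)
        (ho.of_dvd_nat (orderOf_map_dvd (Pi.evalMonoidHom G i) g))).resolve_left e
      rw [← this]; exact ⟨d, hd, rfl⟩
  refine ⟨x, hx, ?_⟩
  have k : cjs H (x⁻¹ * g) = H := cjs_eq_of_conj_mem fun a ha => by
    obtain ⟨n, hn, hna⟩ := (hS.mono hSD le_top).frattini (g := a) (H18.mem_normalizer_of_conj_mem fun d hd i _ => by
      show Pi.mulSingle i (a i * d i * (a i)⁻¹) ∈ H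
      rw [single_conj]
      exact H.mul_mem (H.mul_mem ha (hd i trivial)) (H.inv_mem ha))
    have k1 : (x⁻¹ * g) * (n * a) * (x⁻¹ * g)⁻¹ * (n * a)⁻¹ ∈ S := (memS _).2 fun i =>
      (h i _ (hP i)).1 _ (hy i).1 _ (nP _ hna i)
    have k2 : (x⁻¹ * g) * n⁻¹ * (x⁻¹ * g)⁻¹ ∈ D := fun i _ => (hy i).2 _ (D.inv_mem hn i trivial)
    have := H.mul_mem (hDH k2) (H.mul_mem (hSH k1) (H.mul_mem (hDH hn) ha))
    convert this using 1
    group
  conv_lhs => rw [show g = x * (x⁻¹ * g) by group, cjs_mul, k]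

end pi

theorem allPron_pi {t : ℕ} (G : Fin t → Type*) [∀ i, Group (G i)] [∀ i, Finite (G i)] (h : ∀ i, PP (G i)) :
    AllPron (Π i, G i) := allPron_pi' h

end Cfsg.Agent.H29.Pn
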