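import Mathlib
import Cfsg.Agent.H2.Fitting
import Cfsg.Agent.S1220
import Cfsg.Agent.S0157
import Cfsg.Agent.S0224

/-!
The permutation character on the cosets of a strongly embedded subgroup of a simple group.
-/

set_option autoImplicit false
set_option linter.unusedVariables false

namespace Cfsg.Agent.H22.TpH

open Cfsg Subgroup MulAction
open scoped MatrixGroups Pointwise

theorem fix_mod {G X : Type*} [Group G] [Finite G] [Finite X] [MulAction G X] {i : G}
    (hi : orderOf i = 2) : Nat.card X ≡ Nat.card (fixedBy X i) [MOD 2] := by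
  haveI : Fact (Nat.Prime 2) := ⟨Nat.prime_two⟩
  have hP : IsPGroup 2 (zpowers i) := IsPGroup.of_card (n := 1) (by rw [Nat.card_zpowers, hi, pow_one])
  have h := hP.card_modEq_card_fixedPoints X
  have e : fixedPoints (zpowers i) X = fixedBy X i := by
    ext c
    rw [mem_fixedPoints, mem_fixedBy]
    constructor
    · intro h
      exact h ⟨i, mem_zpowers i⟩
    · rintro h ⟨g, hg⟩
      exact (zpowers_le.2 (mem_stabilizer_iff.2 h) : zpowers i ≤ stabilizer G c) hg
  rwa [e] at h

theorem mem_of_fix {G : Type*} [Group G] (M : Subgroup G) {g a : G}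
    (h : g • (a : G ⧸ M) = a) : a⁻¹ * g * a ∈ M := by
  have h1 : ((g * a : G) : G ⧸ M) = a := h
  have := QuotientGroup.eq.1 h1.symm
  simpa [mul_assoc] using this

theorem tpH {G : Type*} [Group G] [Finite G] [IsSimpleGroup G] (hG : ¬ IsMulCommutative G) {p : ℕ} (hp : p.Prime) (M : Subgroup G) (hM : IsStronglyEmbedded M) (hd : ¬ p ∣ Nat.card M) : ∃ χ : G → ℂ, IsIrrCharacter G χ ∧ charDegree χ + 1 = M.index ∧ (∀ g, p ∣ orderOf g → χ g = -1) ∧ ∀ i, orderOf i = 2 → χ i = 0 := by
  haveI : Fact (Nat.Prime 2) := ⟨Nat.prime_two⟩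
  have hne : M ≠ ⊤ := hM.1
  have hev : Even (Nat.card M) := hM.2.1
  have hfix := (S0224.result M hne hev).1 hM
  have hfix' : ∀ t ∈ M, orderOf t = 2 → Nat.card (fixedBy (G ⧸ M) t) = 1 := hfix
  have hidx : 2 ≤ Nat.card (G ⧸ M) := by
    have h1 : M.index ≠ 1 := fun h => hne (index_eq_one.1 h)
    have h0 : M.index ≠ 0 := index_ne_zero_of_finite
    rw [← index_eq_card]
    omega
  have h2 : IsMultiplyPretransitive G (G ⧸ M) 2 := by
    rcases S1220.result M hM with h | ⟨-, h⟩
    · have key : ∀ a b : G ⧸ M, a ≠ b → ∃ g x : G, x ∉ M ∧ g • a = ((1 : G) : G ⧸ M) ∧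
          g • b = (x : G ⧸ M) := by
        intro a b hab
        obtain ⟨g, hg⟩ := exists_smul_eq G a ((1 : G) : G ⧸ M)
        obtain ⟨x, hx⟩ := QuotientGroup.mk_surjective (g • b)
        refine ⟨g, x, fun hxM => hab ?_, hg, hx.symm⟩
        have : (x : G ⧸ M) = ((1 : G) : G ⧸ M) := QuotientGroup.eq.2 (by simpa using hxM)
        rw [hx, ← hg] at this
        exact (smul_left_cancel g this).symm
      refine is_two_pretransitive_iff.2 fun {a b c d} hab hcd => ?_
      obtain ⟨g, x, hx, e1, e2⟩ := key a b hab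
      obtain ⟨k, y, hy, f1, f2⟩ := key c d hcd
      obtain ⟨m, hm, hm2⟩ := h x y hx hy
      refine ⟨k⁻¹ * m * g, ?_, ?_⟩
      · rw [mul_smul, mul_smul, e1, inv_smul_eq_iff, f1]
        show ((m * 1 : G) : G ⧸ M) = _
        exact QuotientGroup.eq.2 (by simpa using hm)
      · rw [mul_smul, mul_smul, e2, inv_smul_eq_iff, f2]
        show ((m * x : G) : G ⧸ M) = _
        exact (QuotientGroup.eq.2 hm2).symm
    · exfalso
      rcases (inferInstance : (oddCore G).Normal).eq_bot_or_eq_top with h0 | h0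
      · rw [h0, bot_sup_eq] at h
        exact hne h
      · have ho := H2.odd_card_oddCore (G := G)
        rw [h0, card_top] at ho
        exact (Nat.not_even_iff_odd.2 ho) (hev.two_dvd.trans (card_subgroup_dvd_card M) |> even_iff_two_dvd.2)
  obtain ⟨t, ht⟩ := exists_prime_orderOf_dvd_card' (G := M) 2 hev.two_dvd
  have ht' : orderOf (t : G) = 2 := by rw [orderOf_coe, ht]
  have hodd : Nat.card (G ⧸ M) ≡ 1 [MOD 2] := by
    have := fix_mod (X := G ⧸ M) ht'
    rwa [hfix' t t.2 ht'] at this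
  refine ⟨_, (S0157.result (G := G) (G ⧸ M) hidx).2 h2, ?_, fun g hg => ?_, fun i hi => ?_⟩
  · have e : Nat.card (fixedBy (G ⧸ M) (1 : G)) = M.index := by
      rw [fixedBy_one_eq_univ, Nat.card_univ, index_eq_card]
    rw [← index_eq_card] at hidx
    obtain ⟨n, hn⟩ : ∃ n, M.index = n + 1 := ⟨M.index - 1, by omega⟩
    simp only [charDegree, e, hn]
    simp
  · have : IsEmpty (fixedBy (G ⧸ M) g) := by
      refine ⟨fun ⟨c, hc⟩ => hd ?_⟩
      obtain ⟨a, rfl⟩ := QuotientGroup.mk_surjective c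
      have hm := mem_of_fix M (mem_fixedBy.1 hc)
      have h1 : orderOf (a⁻¹ * g * a) ∣ Nat.card M := orderOf_dvd_natCard M hm
      have h2 : orderOf (a⁻¹ * g * a) = orderOf g := by
        have := (MulAut.conj a⁻¹).orderOf_eq g
        simpa using this
      rw [h2] at h1
      exact hg.trans h1
    simp
  · have h1 := (fix_mod (X := G ⧸ M) hi).symm.trans hodd
    have h0 : Nat.card (fixedBy (G ⧸ M) i) ≠ 0 := by
      intro h
      rw [h] at h1
      exact absurd h1 (by decide)
    obtain ⟨⟨c, hc⟩⟩ := (Nat.card_ne_zero.1 h0).1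
    obtain ⟨a, rfl⟩ := QuotientGroup.mk_surjective c
    have hm := mem_of_fix M (mem_fixedBy.1 hc)
    have h2 : orderOf (a⁻¹ * i * a) = 2 := by
      have := (MulAut.conj a⁻¹).orderOf_eq i
      rw [hi] at this
      simpa using this
    have h3 := hfix' _ hm h2
    have h4 := smul_fixedBy (G ⧸ M) i a⁻¹
    rw [inv_inv] at h4
    rw [← h4, Set.natCard_smul_set] at h3
    simp [h3]

end Cfsg.Agent.H22.TpH
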