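import Cfsg.Agent.H22.Hol
import Cfsg.Agent.H28.Extra2

/-! Weight projections for a coprime subgroup, and the orbit lemma for non-fixed characters. -/

set_option autoImplicit false
set_option linter.unusedSectionVars false
set_option linter.style.haveILetI false

namespace Cfsg.Agent.TW

open Cfsg Subgroup Cfsg.Agent.FT Cfsg.Agent.H28
open scoped commutatorElement

universe u

variable {G : Type u} [Group G] [Finite G] {k : Type*} [Field k] {E : Type*} [AddCommGroup E] [Module k E]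
  {ρ : Representation k G E} {T P Z Y : Subgroup G} {ν ν' : G → k} {d g h s t x y z : G} {v w : E} {r : ℕ}
  {U : Submodule k E} {Ω : Set E}

noncomputable instance (priority := low) ftSub (T : Subgroup G) : Fintype T := Fintype.ofFinite T

def Ch (T : Subgroup G) (ν : G → k) : Prop := ν 1 = 1 ∧ ∀ a ∈ T, ∀ b ∈ T, ν (a * b) = ν a * ν b

noncomputable def pr (ρ : Representation k G E) (T : Subgroup G) (ν : G → k) : Module.End k E :=
  (#T : k)⁻¹ • ∑ t : T, ν (t : G)⁻¹ • ρ t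

def Wt (ρ : Representation k G E) (T : Subgroup G) (ν : G → k) : Submodule k E where
  carrier := {v | ∀ t ∈ T, ρ t v = ν t • v}
  zero_mem' := by intro t _; simp
  add_mem' := by intro a b ha hb t ht; rw [map_add, ha t ht, hb t ht, smul_add]
  smul_mem' := by intro c a ha t ht; rw [map_smul, ha t ht, smul_comm]

def cv (g : G) (ν : G → k) : G → k := fun t => ν (g⁻¹ * t * g)

def Same (T : Subgroup G) (ν ν' : G → k) : Prop := ∀ t ∈ T, ν t = ν' t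

theorem Same.symm (h : Same T ν ν') : Same T ν' ν := fun t ht => (h t ht).symm
theorem Same.trans {ν'' : G → k} (h : Same T ν ν') (h' : Same T ν' ν'') : Same T ν ν'' :=
  fun t ht => (h t ht).trans (h' t ht)

theorem cv_mul (g h : G) (ν : G → k) : cv (g * h) ν = cv g (cv h ν) := by
  funext t; simp only [cv, mul_inv_rev, mul_assoc]

theorem cv_one (ν : G → k) : cv 1 ν = ν := by funext t; simp [cv]

theorem Same.cv (h : Same T ν ν') (hg : g ∈ N(T)) : Same T (cv g ν) (cv g ν') :=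
  fun t ht => h _ (conj_mem' hg ht)

theorem Ch.cv (h : Ch T ν) (hg : g ∈ N(T)) : Ch T (cv g ν) := by
  refine ⟨by simp [TW.cv, h.1], fun a ha b hb => ?_⟩
  simp only [TW.cv]
  rw [← h.2 _ (conj_mem' hg ha) _ (conj_mem' hg hb)]
  congr 1; group

theorem Ch.inv_mul (h : Ch T ν) (ht : t ∈ T) : ν t⁻¹ * ν t = 1 := by
  rw [← h.2 _ (inv_mem ht) _ ht, inv_mul_cancel, h.1]

theorem Ch.ne_zero (h : Ch T ν) (ht : t ∈ T) : ν t ≠ 0 := right_ne_zero_of_mul_eq_one (h.inv_mul ht)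

theorem Ch.pow (h : Ch T ν) (ht : t ∈ T) (n : ℕ) : ν (t ^ n) = ν t ^ n := by
  induction n with
  | zero => simp [h.1]
  | succ n ih => rw [pow_succ, h.2 _ (pow_mem ht n) _ ht, ih, pow_succ]

theorem Ch.pow_card (h : Ch T ν) (ht : t ∈ T) : ν t ^ #T = 1 := by
  rw [← h.pow ht, ← h.1]
  congr 1
  have := pow_card_eq_one' (G := T) (x := ⟨t, ht⟩)
  exact congrArg Subtype.val this

/-- the stabiliser of a character -/
def St (T : Subgroup G) (ν : G → k) : Subgroup G where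
  carrier := {g | g ∈ N(T) ∧ Same T (cv g ν) ν}
  one_mem' := ⟨one_mem _, by rw [cv_one]; exact fun _ _ => rfl⟩
  mul_mem' := by
    rintro a b ⟨ha, ha'⟩ ⟨hb, hb'⟩
    refine ⟨mul_mem ha hb, ?_⟩
    rw [cv_mul]
    exact (hb'.cv ha).trans ha'
  inv_mem' := by
    rintro a ⟨ha, ha'⟩
    refine ⟨inv_mem ha, ?_⟩
    have := ha'.cv (inv_mem ha)
    rw [← cv_mul, inv_mul_cancel, cv_one] at this
    exact this.symm

theorem rho_mul (ρ : Representation k G E) (a b : G) (v : E) : ρ (a * b) v = ρ a (ρ b v) := by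
  rw [map_mul]; rfl

theorem rho_one (ρ : Representation k G E) (v : E) : ρ 1 v = v := by rw [map_one]; rfl

theorem rho_ne (hv : v ≠ 0) (g : G) : ρ g v ≠ 0 := fun h => hv (by
  rw [← rho_one ρ v, ← inv_mul_cancel g, rho_mul, h, map_zero])

theorem pr_apply (v : E) : pr ρ T ν v = (#T : k)⁻¹ • ∑ t : T, ν (t : G)⁻¹ • ρ t v := by
  simp [pr, LinearMap.sum_apply]

theorem pr_rho (hν : Ch T ν) (ht : t ∈ T) (v : E) : pr ρ T ν (ρ t v) = ν t • pr ρ T ν v := by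
  rw [pr_apply, pr_apply, smul_comm (ν t), Finset.smul_sum (r := ν t),
    ← sum_mul_right_subgroup T (fun a => ν t • ν a⁻¹ • ρ a v) ht]
  congr 1
  refine Finset.sum_congr rfl fun a _ => ?_
  rw [rho_mul, smul_smul, mul_inv_rev, hν.2 _ (inv_mem ht) _ (inv_mem a.2), ← mul_assoc, mul_comm (ν t),
    hν.inv_mul ht, one_mul]

theorem pr_mem (hν : Ch T ν) (v : E) : pr ρ T ν v ∈ Wt ρ T ν := by
  intro t ht
  rw [pr_apply, map_smul, smul_comm (ν t), map_sum, Finset.smul_sum (r := ν t),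
    ← sum_mul_left_subgroup T (fun a => ν t • ν a⁻¹ • ρ a v) ht]
  congr 1
  refine Finset.sum_congr rfl fun a _ => ?_
  rw [rho_mul, map_smul, smul_smul, mul_inv_rev, hν.2 _ (inv_mem a.2) _ (inv_mem ht), mul_left_comm,
    mul_comm (ν t), hν.inv_mul ht, mul_one]

theorem pr_of_mem (hc : (#T : k) ≠ 0) (hν : Ch T ν) (hv : v ∈ Wt ρ T ν) : pr ρ T ν v = v := by
  rw [pr_apply, Finset.sum_congr rfl (g := fun _ => v) (fun a _ => by
    rw [hv a a.2, smul_smul, hν.inv_mul a.2, one_smul]), Finset.sum_const, Finset.card_univ,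
    ← Nat.card_eq_fintype_card, ← Nat.cast_smul_eq_nsmul k, smul_smul, inv_mul_cancel₀ hc, one_smul]

theorem pr_of_ne (hν : Ch T ν) (hne : ¬ Same T ν ν') (hv : v ∈ Wt ρ T ν') : pr ρ T ν v = 0 := by
  by_contra h0
  refine hne fun t ht => ?_
  have h1 := pr_rho (ρ := ρ) hν ht v
  rw [hv t ht, map_smul] at h1
  exact (smul_left_injective k h0 h1).symm

theorem pr_congr (h : Same T ν ν') : pr ρ T ν = pr ρ T ν' := by
  unfold pr
  congr 1
  exact Finset.sum_congr rfl fun a _ => by rw [h _ (inv_mem a.2)]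

theorem Wt_congr (h : Same T ν ν') (hv : v ∈ Wt ρ T ν) : v ∈ Wt ρ T ν' :=
  fun t ht => by rw [hv t ht, h t ht]

theorem rho_Wt (hg : g ∈ N(T)) (hv : v ∈ Wt ρ T ν) : ρ g v ∈ Wt ρ T (cv g ν) := by
  intro t ht
  rw [← rho_mul, show t * g = g * (g⁻¹ * t * g) by group, rho_mul, hv _ (conj_mem' hg ht), map_smul]
  rfl

theorem rho_pr (hg : g ∈ N(T)) (v : E) : ρ g (pr ρ T ν v) = pr ρ T (cv g ν) (ρ g v) := by
  rw [pr_apply, pr_apply, map_smul, map_sum]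
  congr 1
  let e : T ≃ T :=
    { toFun := fun a => ⟨g * a * g⁻¹, conj_mem hg a.2⟩
      invFun := fun a => ⟨g⁻¹ * a * g, conj_mem' hg a.2⟩
      left_inv := fun a => Subtype.ext (by simp [mul_assoc])
      right_inv := fun a => Subtype.ext (by simp [mul_assoc]) }
  refine Fintype.sum_equiv e _ _ fun a => ?_
  simp only [e, Equiv.coe_fn_mk, cv, map_smul, ← rho_mul]
  congr 2 <;> group

theorem rho_pr_St (hg : g ∈ St T ν) (v : E) : ρ g (pr ρ T ν v) = pr ρ T ν (ρ g v) := by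
  rw [rho_pr hg.1, pr_congr hg.2]

theorem rho_Wt_St (hg : g ∈ St T ν) (hv : v ∈ Wt ρ T ν) : ρ g v ∈ Wt ρ T ν := Wt_congr hg.2 (rho_Wt hg.1 hv)

theorem pr_mem_of (F : Submodule k E) (h : ∀ t ∈ T, ν t⁻¹ • ρ t v ∈ F) : pr ρ T ν v ∈ F := by
  rw [pr_apply]
  exact F.smul_mem _ (F.sum_mem fun a _ => h a a.2)

theorem pr_mem_inv (hU : RInv ρ T U) (hv : v ∈ U) : pr ρ T ν v ∈ U :=
  pr_mem_of U fun t ht => U.smul_mem _ (hU t ht v hv)

/-- `T` acts on `U` through an abelian group -/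
def Com (ρ : Representation k G E) (T : Subgroup G) (U : Submodule k E) : Prop :=
  ∀ a ∈ T, ∀ b ∈ T, ∀ v ∈ U, ρ a (ρ b v) = ρ b (ρ a v)

theorem eq_zero_of_pr [IsAlgClosed k] [FiniteDimensional k E] (hc : (#T : k) ≠ 0) (hU : RInv ρ T U)
    (hT : Com ρ T U) (hv : v ∈ U) (h : ∀ ν, Ch T ν → pr ρ T ν v = 0) : v = 0 := by
  classical
  by_contra h0
  let U' : Submodule k E := U ⊓ ⨅ ν : {ν : G → k // Ch T ν}, LinearMap.ker (pr ρ T ν.1)
  have hm : ∀ w, w ∈ U' ↔ w ∈ U ∧ ∀ ν, Ch T ν → pr ρ T ν w = 0 := by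
    intro w; simp [U', Submodule.mem_iInf]
  have hU' : RInv ρ T U' := by
    intro t ht w hw
    rw [hm] at hw ⊢
    exact ⟨hU t ht w hw.1, fun ν hν => by rw [pr_rho hν ht, hw.2 ν hν, smul_zero]⟩
  obtain ⟨W, hWU, hW⟩ := exists_rSimple_le ρ T hU' (fun e => h0 (by
    have : v ∈ U' := (hm v).2 ⟨hv, h⟩
    rwa [e, Submodule.mem_bot] at this))
  have hs : ∀ t : G, ∃ c : k, t ∈ T → ∀ w ∈ W, ρ t w = c • w := by
    intro t
    by_cases ht : t ∈ T
    · obtain ⟨c, hc⟩ := hW.exists_smul (ρ t) (hW.2.1 t ht)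
        (fun g hg w hw => hT t ht g hg w ((hm w).1 (hWU hw)).1)
      exact ⟨c, fun _ => hc⟩
    · exact ⟨1, fun h => absurd h ht⟩
  choose c hcs using hs
  obtain ⟨w, hw, hw0⟩ := Submodule.exists_mem_ne_zero_of_ne_bot hW.1
  have hch : Ch T c := by
    refine ⟨smul_left_injective k hw0 ?_, fun a ha b hb => smul_left_injective k hw0 ?_⟩
    · simp only; rw [← hcs 1 (one_mem _) w hw, rho_one, one_smul]
    · simp only
      rw [← hcs _ (mul_mem ha hb) w hw, rho_mul, hcs b hb w hw, map_smul, hcs a ha w hw, smul_smul, mul_comm]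
  have := ((hm w).1 (hWU hw)).2 c hch
  rw [pr_of_mem hc hch (fun t ht => hcs t ht w hw)] at this
  exact hw0 this

theorem mem_of_pr [IsAlgClosed k] [FiniteDimensional k E] (hc : (#T : k) ≠ 0) (hU : RInv ρ T U)
    (hT : Com ρ T U) (hv : v ∈ U) (F : Submodule k E) (h : ∀ ν, Ch T ν → pr ρ T ν v ∈ F) : v ∈ F := by
  let S : Submodule k E := Submodule.span k {w | ∃ ν, Ch T ν ∧ w = pr ρ T ν v}
  have hSF : S ≤ F := Submodule.span_le.2 (by rintro _ ⟨ν, hν, rfl⟩; exact h ν hν)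
  have hSU : S ≤ U := Submodule.span_le.2 (by rintro _ ⟨ν, hν, rfl⟩; exact pr_mem_inv hU hv)
  have hS : RInv ρ T S := by
    intro t ht w hw
    have : S.map (ρ t) ≤ S := by
      rw [Submodule.map_span_le]
      rintro _ ⟨ν, hν, rfl⟩
      rw [pr_mem hν v t ht]
      exact S.smul_mem _ (Submodule.subset_span ⟨ν, hν, rfl⟩)
    exact this ⟨w, hw, rfl⟩
  obtain ⟨π, h1, h2, h3⟩ := exists_rProj ρ T hc hS
  have h4 : v - π v = 0 := by
    refine eq_zero_of_pr hc hU hT (U.sub_mem hv (hSU (h1 v))) fun ν hν => ?_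
    have : pr ρ T ν (π v) = π (pr ρ T ν v) := by
      rw [pr_apply, pr_apply, map_smul, map_sum]
      congr 1
      refine Finset.sum_congr rfl fun a _ => ?_
      rw [map_smul, ← Module.End.mul_apply, ← h3 a a.2]; rfl
    rw [map_sub, this, h2 _ (Submodule.subset_span ⟨ν, hν, rfl⟩), sub_self]
  rw [sub_eq_zero] at h4
  exact hSF (h4 ▸ h1 v)

/-- the norm map of `s` -/
noncomputable def nm (ρ : Representation k G E) (s : G) (r : ℕ) : Module.End k E :=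
  ∑ j ∈ Finset.range r, ρ (s ^ j)

theorem nm_apply (v : E) : nm ρ s r v = ∑ j ∈ Finset.range r, ρ (s ^ j) v := by
  simp [nm, LinearMap.sum_apply]

theorem rho_nm (hc : d * s = s * d) (v : E) : ρ d (nm ρ s r v) = nm ρ s r (ρ d v) := by
  rw [nm_apply, nm_apply, map_sum]
  refine Finset.sum_congr rfl fun j _ => ?_
  rw [← rho_mul, ← rho_mul, (Commute.pow_right hc j).eq]

theorem nm_fixed (hs : s ^ r = 1) (v : E) : ρ s (nm ρ s r v) = nm ρ s r v := by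
  rw [nm_apply, map_sum]
  have h1 := Finset.sum_range_succ (fun j => ρ (s ^ j) v) r
  rw [Finset.sum_range_succ', hs, pow_zero, add_left_inj] at h1
  rw [← h1]
  exact Finset.sum_congr rfl fun j _ => by rw [← rho_mul, pow_succ']

theorem rho_pow_fixed (h : ρ s v = v) (j : ℕ) : ρ (s ^ j) v = v := by
  induction j with
  | zero => rw [pow_zero, rho_one]
  | succ j ih => rw [pow_succ, rho_mul, h, ih]

theorem nm_of_fixed (h : ρ s v = v) : nm ρ s r v = (r : k) • v := by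
  rw [nm_apply, Finset.sum_congr rfl (fun j _ => rho_pow_fixed h j), Finset.sum_const, Finset.card_range,
    Nat.cast_smul_eq_nsmul]

theorem nm_pr (hs : s ∈ St T ν) (v : E) : nm ρ s r (pr ρ T ν v) = pr ρ T ν (nm ρ s r v) := by
  rw [nm_apply, nm_apply, map_sum]
  exact Finset.sum_congr rfl fun j _ => rho_pr_St (pow_mem hs j) v

theorem nm_mem (hU : ∀ v ∈ U, ρ s v ∈ U) (hv : v ∈ U) : nm ρ s r v ∈ U := by
  rw [nm_apply]
  exact U.sum_mem fun j _ => rInv_zpowers hU _ (pow_mem (mem_zpowers s) j) v hv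

theorem mem_of_pow_prime (hr : r.Prime) (hs : s ^ r = 1) {j : ℕ} (h0 : j ≠ 0) (hj : j < r) (h : s ^ j ∈ Y) :
    s ∈ Y :=
  mem_of_pow_mem h (Nat.Coprime.coprime_dvd_right (orderOf_dvd_of_pow_eq_one hs)
    (Nat.coprime_of_lt_prime h0 hj hr).symm)

theorem pr_nm (hc : (#T : k) ≠ 0) (hr : r.Prime) (hs : s ^ r = 1) (hsT : s ∈ N(T)) (hν : Ch T ν) (hn : s ∉ St T ν)
    (hv : v ∈ Wt ρ T ν) : pr ρ T ν (nm ρ s r v) = v := by
  rw [nm_apply, map_sum, Finset.sum_eq_single 0]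
  · rw [pow_zero, rho_one, pr_of_mem hc hν hv]
  · intro j hj h0
    refine pr_of_ne hν (fun e => hn ?_) (rho_Wt (pow_mem hsT j) hv)
    exact mem_of_pow_prime hr hs h0 (Finset.mem_range.1 hj) ⟨pow_mem hsT j, e.symm⟩
  · intro h; exact absurd (Finset.mem_range.2 hr.pos) h

theorem fin1 {ν₀ : G → k} {u u₀ : E} (hc : (#T : k) ≠ 0) (hr : r.Prime) (hs : s ^ r = 1) (hsT : s ∈ N(T))
    (hd : d ∈ N(T)) (hds : d * s = s * d) (hdr : (orderOf d).Coprime r) (hν : Ch T ν) (hn : s ∉ St T ν)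
    (h0 : s ∈ St T ν₀) (hu : u ∈ Wt ρ T ν) (hu0 : u₀ ∈ Wt ρ T ν₀)
    (h : ρ d (nm ρ s r u - u₀) = nm ρ s r u - u₀) : ρ d u = u := by
  by_cases hz : u = 0
  · rw [hz, map_zero]
  have key : ∀ g ∈ N(T), g * s = s * g → ¬ Same T (cv g ν) ν₀ := by
    intro g hg hgs e
    refine hn ⟨hsT, ?_⟩
    have h1 := ((e.cv hsT).trans h0.2).trans e.symm
    rw [← cv_mul, ← hgs, cv_mul] at h1
    have h2 := h1.cv (inv_mem hg)
    simpa only [← cv_mul, inv_mul_cancel_left, inv_mul_cancel, cv_one] using h2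
  have h1 : pr ρ T ν (nm ρ s r u - u₀) = u := by
    rw [map_sub, pr_nm hc hr hs hsT hν hn hu, pr_of_ne hν (by simpa [cv_one] using key 1 (one_mem _) (by simp)) hu0,
      sub_zero]
  have h2 : ρ d u = pr ρ T (cv d ν) (nm ρ s r u - u₀) := by rw [← h, ← rho_pr hd, h1]
  have h3 : ∃ j, Same T (cv d ν) (cv (s ^ j) ν) := by
    by_contra hne
    push Not at hne
    apply rho_ne (ρ := ρ) hz d
    rw [h2, map_sub, pr_of_ne (hν.cv hd) (key d hd hds) hu0, sub_zero, nm_apply, map_sum]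
    exact Finset.sum_eq_zero fun j _ => pr_of_ne (hν.cv hd) (hne j) (rho_Wt (pow_mem hsT j) hu)
  obtain ⟨j, hj⟩ := h3
  have h4 : (s ^ j)⁻¹ * d ∈ St T ν := by
    refine ⟨mul_mem (inv_mem (pow_mem hsT j)) hd, ?_⟩
    have := hj.cv (inv_mem (pow_mem hsT j))
    rwa [← cv_mul, ← cv_mul, inv_mul_cancel, cv_one] at this
  have h5 : d ∈ St T ν := by
    refine mem_of_pow_mem (n := r) ?_ hdr.symm
    have := pow_mem h4 r
    rwa [Commute.mul_pow (Commute.inv_left (Commute.pow_left (show Commute s d from hds.symm) j)), inv_pow,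
      ← pow_mul, mul_comm j, pow_mul, hs, one_pow, inv_one, one_mul] at this
  rw [h2, pr_congr h5.2, h1]

/-- `d` fixes the norms of the non-fixed members of `Ω` -/
def Lx (ρ : Representation k G E) (s : G) (r : ℕ) (Ω : Set E) (d : G) : Prop :=
  ∀ μ ∈ Ω, ρ s μ ≠ μ → ρ d (nm ρ s r μ) = nm ρ s r μ

/-- the vectors whose norm is fixed by `d` -/
noncomputable def Fx (ρ : Representation k G E) (s : G) (r : ℕ) (d : G) : Submodule k E :=
  LinearMap.ker ((ρ d - 1) ∘ₗ nm ρ s r)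

theorem mem_Fx : v ∈ Fx ρ s r d ↔ ρ d (nm ρ s r v) = nm ρ s r v := by simp [Fx, sub_eq_zero]

theorem lem0 {μ : E} (hr : r.Prime) (hs : s ^ r = 1) (hsT : s ∈ N(T)) (hTr : (#T).Coprime r)
    (hΩ : ∀ t ∈ T, ∀ μ ∈ Ω, ρ t μ ∈ Ω) (hμ : μ ∈ Ω) (hν : Ch T ν) (F : Submodule k E)
    (hL : ∀ μ ∈ Ω, ρ s μ ≠ μ → μ ∈ F) :
    ∃ ν₀ u₀, s ∈ St T ν₀ ∧ u₀ ∈ Wt ρ T ν₀ ∧ pr ρ T ν μ - u₀ ∈ F := by
  by_cases hA : ∀ t ∈ T, ρ s (ρ t μ) ≠ ρ t μ
  · refine ⟨fun _ => 1, 0, ⟨hsT, fun _ _ => rfl⟩, zero_mem _, ?_⟩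
    rw [sub_zero]
    exact pr_mem_of _ fun t ht => Submodule.smul_mem _ _ (hL _ (hΩ t ht μ hμ) (hA t ht))
  push Not at hA
  obtain ⟨t₀, ht₀, hf⟩ := hA
  suffices h : ∃ ν₀ u₀, s ∈ St T ν₀ ∧ u₀ ∈ Wt ρ T ν₀ ∧ pr ρ T ν (ρ t₀ μ) - u₀ ∈ F by
    obtain ⟨ν₀, u₀, h1, h2, h3⟩ := h
    refine ⟨ν₀, ν t₀⁻¹ • u₀, h1, Submodule.smul_mem _ _ h2, ?_⟩
    have := F.smul_mem (ν t₀⁻¹) h3
    rwa [pr_rho hν ht₀, smul_sub, smul_smul, hν.inv_mul ht₀, one_smul] at this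
  have hμ' := hΩ t₀ ht₀ μ hμ
  generalize ρ t₀ μ = m at hf hμ'
  by_cases hz : pr ρ T ν m = 0
  · exact ⟨fun _ => 1, 0, ⟨hsT, fun _ _ => rfl⟩, zero_mem _, by rw [hz, sub_zero]; exact zero_mem _⟩
  obtain ⟨n, hn1⟩ : ∃ n, r * n ≡ 1 [MOD #T] := Nat.exists_mul_mod_eq_of_coprime 1 hTr.symm Nat.card_pos.ne'
    |>.imp fun n h => h.2
  let ν₀ : G → k := fun t => (∏ j ∈ Finset.range r, cv (s ^ j) ν t) ^ n
  have hν₀ : Ch T ν₀ := by
    refine ⟨?_, fun a ha b hb => ?_⟩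
    · simp only [ν₀]
      rw [Finset.prod_eq_one fun j _ => (hν.cv (pow_mem hsT j)).1, one_pow]
    · simp only [ν₀]
      rw [← mul_pow, ← Finset.prod_mul_distrib]
      congr 1
      exact Finset.prod_congr rfl fun j _ => (hν.cv (pow_mem hsT j)).2 a ha b hb
  have h0 : s ∈ St T ν₀ := by
    refine ⟨hsT, fun t ht => ?_⟩
    have h1 := Finset.prod_range_succ (fun j => cv (s ^ j) ν t) r
    rw [Finset.prod_range_succ', hs, pow_zero] at h1
    have h2 := mul_right_cancel₀ ((hν.cv (one_mem _)).ne_zero ht) h1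
    change (∏ j ∈ Finset.range r, cv (s ^ j) ν (s⁻¹ * t * s)) ^ n = (∏ j ∈ Finset.range r, cv (s ^ j) ν t) ^ n
    rw [← h2]
    congr 1
    exact Finset.prod_congr rfl fun j _ => by rw [pow_succ', cv_mul]; rfl
  refine ⟨ν₀, pr ρ T ν₀ m, h0, pr_mem hν₀ _, ?_⟩
  rw [pr_apply, pr_apply, ← smul_sub, ← Finset.sum_sub_distrib]
  refine Submodule.smul_mem _ _ (Submodule.sum_mem _ fun t _ => ?_)
  rw [← sub_smul]
  by_cases ht : ρ s (ρ t m) = ρ t m
  · have h1 : ∀ j, cv (s ^ j) ν (t : G)⁻¹ = ν (t : G)⁻¹ := by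
      intro j
      have h2 : ρ ((s ^ j)⁻¹ * (t : G)⁻¹ * s ^ j * t) m = m := by
        rw [rho_mul, rho_mul, rho_pow_fixed ht, rho_mul, ← rho_mul ρ _ (t : G), inv_mul_cancel, rho_one]
        conv_lhs => rw [← rho_pow_fixed hf j, ← rho_mul, inv_mul_cancel, rho_one]
      have h3 := conj_mem' (pow_mem hsT j) (inv_mem t.2)
      have h4 := pr_rho (ρ := ρ) hν (mul_mem h3 t.2) m
      rw [h2, hν.2 _ h3 _ t.2] at h4
      have h5 : (1 : k) = ν ((s ^ j)⁻¹ * (t : G)⁻¹ * s ^ j) * ν t :=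
        smul_left_injective k hz (by simpa using h4)
      exact mul_right_cancel₀ (hν.ne_zero t.2) (h5.symm.trans (hν.inv_mul t.2).symm)
    have h2 : ν₀ (t : G)⁻¹ = ν (t : G)⁻¹ := by
      simp only [ν₀, h1, Finset.prod_const, Finset.card_range]
      rw [← pow_mul, pow_eq_pow_mod _ (hν.pow_card (inv_mem t.2)), hn1, ← pow_eq_pow_mod _ (hν.pow_card (inv_mem t.2)),
        pow_one]
    rw [h2, sub_self, zero_smul]; exact zero_mem _
  · exact Submodule.smul_mem _ _ (hL _ (hΩ t t.2 m hμ') ht)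

theorem nm_Wt (hs : s ∈ St T ν) (hv : v ∈ Wt ρ T ν) : nm ρ s r v ∈ Wt ρ T ν := nm_mem (fun _ h => rho_Wt_St hs h) hv

theorem lem1 {μ : E} (hc : (#T : k) ≠ 0) (hr : r.Prime) (hs : s ^ r = 1) (hsT : s ∈ N(T)) (hTr : (#T).Coprime r)
    (hd : d ∈ N(T)) (hds : d * s = s * d) (hdr : (orderOf d).Coprime r) (hΩ : ∀ t ∈ T, ∀ μ ∈ Ω, ρ t μ ∈ Ω)
    (hL : Lx ρ s r Ω d) (hμ : μ ∈ Ω) (hν : Ch T ν) (hn : s ∉ St T ν) : ρ d (pr ρ T ν μ) = pr ρ T ν μ := by
  obtain ⟨ν₀, u₀, h1, h2, h3⟩ := lem0 hr hs hsT hTr hΩ hμ hν (Fx ρ s r d) fun μ h h' => mem_Fx.2 (hL μ h h')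
  refine fin1 hc hr hs hsT hd hds hdr hν hn h1 (pr_mem hν μ) (nm_Wt (r := r) h1 h2) ?_
  rw [← map_sub, ← mem_Fx]; exact h3

theorem lem1z {μ : E} (hc : (#T : k) ≠ 0) (hr : r.Prime) (hs : s ^ r = 1) (hsT : s ∈ N(T)) (hTr : (#T).Coprime r)
    (hΩ : ∀ t ∈ T, ∀ μ ∈ Ω, ρ t μ ∈ Ω) (hL : ∀ μ ∈ Ω, ρ s μ ≠ μ → nm ρ s r μ = 0) (hμ : μ ∈ Ω) (hν : Ch T ν)
    (hn : s ∉ St T ν) : pr ρ T ν μ = 0 := by
  obtain ⟨ν₀, u₀, h1, h2, h3⟩ := lem0 hr hs hsT hTr hΩ hμ hν (LinearMap.ker (nm ρ s r)) hL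
  rw [LinearMap.mem_ker, map_sub, sub_eq_zero] at h3
  rw [← pr_nm hc hr hs hsT hν hn (pr_mem hν μ), h3]
  exact pr_of_ne hν (fun e => hn ⟨hsT, ((e.cv hsT).trans h1.2).trans e.symm⟩) (nm_Wt h1 h2)

end Cfsg.Agent.TW
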