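import Cfsg.Agent.H22.Tw9

/-! Towers and minimal towers. -/

set_option autoImplicit false
set_option linter.unusedSectionVars false
set_option linter.style.haveILetI false

namespace Cfsg.Agent.TW

open Cfsg Subgroup Cfsg.Agent.FT Cfsg.Agent.H28 Cfsg.Agent.P22 Module
open scoped commutatorElement

universe u

variable {G : Type u} [Group G] [Finite G] {A B K K' M X Y : Subgroup G} {s x y : G} {P : ℕ → Subgroup G}
  {p : ℕ → ℕ} {h i j r : ℕ}

/-- the kernels of a tower -/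
def Kf (K : Subgroup G) (P : ℕ → Subgroup G) : ℕ → Subgroup G
  | 0 => K
  | i + 1 => P (i + 1) ⊓ CM (P i) (Kf K P i)

theorem norms_Kf (hK : X ≤ N(K)) : ∀ i, (∀ j ≤ i, X ≤ N(P j)) → X ≤ N(Kf K P i)
  | 0, _ => hK
  | i + 1, h => normsI (h _ le_rfl) (norms_CM (h _ (by omega)) (norms_Kf hK i fun j hj => h j (by omega)))

/-- a tower without the nontriviality condition -/
structure Tw (M : Subgroup G) (s : G) (h : ℕ) (P : ℕ → Subgroup G) (p : ℕ → ℕ) : Prop where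
  le : ∀ i, P i ≤ M
  pg : ∀ i, PGrp (p i) (P i)
  sn : ∀ i, s ∈ N(P i)
  nm : ∀ i j, i ≤ j → P j ≤ N(P i)
  ne : ∀ i < h, p i ≠ p (i + 1)
  top : ∀ i, h < i → P i = ⊥

theorem Tw.nK (t : Tw M s h P p) (hij : i ≤ j) : P j ≤ N(Kf ⊥ P i) :=
  norms_Kf (norms_bot _) i fun l hl => t.nm l j (by omega)

theorem Tw.sK (t : Tw M s h P p) (i : ℕ) : ⟪s⟫ ≤ N(Kf ⊥ P i) :=
  norms_Kf (norms_bot _) i fun l _ => zpowers_le.2 (t.sn l)

theorem Kf_mono (hn : ∀ i j, i ≤ j → P j ≤ N(P i)) (hK : K ≤ K') (hK' : ∀ j, P j ≤ N(K')) : ∀ i, Kf K P i ≤ Kf K' P i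
  | 0 => hK
  | i + 1 => fun _ hx => ⟨hx.1, norms_Kf (hK' _) i (fun j hj => hn j _ (by omega)) hx.1,
      fun y hy => Kf_mono hn hK hK' i (hx.2.2 y hy)⟩

theorem Kf_le (P : ℕ → Subgroup G) : ∀ i, Kf ⊥ P i ≤ P i
  | 0 => bot_le
  | _ + 1 => inf_le_left

theorem Kf_comm (P : ℕ → Subgroup G) (i : ℕ) : ⁅Kf K P (i + 1), P i⁆ ≤ Kf K P i := comm_of_le_CM inf_le_right

/-- the elements centralised by the next level -/
def Df (h : ℕ) (P : ℕ → Subgroup G) (i : ℕ) : Subgroup G :=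
  if i < h then P i ⊓ CM (P (i + 1)) (Kf ⊥ P i) else Kf ⊥ P i

theorem Df_lt (hi : i < h) : Df h P i = P i ⊓ CM (P (i + 1)) (Kf ⊥ P i) := if_pos hi
theorem Df_ge (hi : h ≤ i) : Df h P i = Kf ⊥ P i := if_neg (by omega)

theorem Df_le (i : ℕ) : Df h P i ≤ P i := by
  unfold Df; split_ifs
  · exact inf_le_left
  · exact Kf_le P i

theorem norms_Df (hX : ∀ j ≤ i + 1, X ≤ N(P j)) : X ≤ N(Df h P i) := by
  have := norms_Kf (norms_bot X) i fun j hj => hX j (by omega)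
  unfold Df; split_ifs
  · exact normsI (hX _ (by omega)) (norms_CM (hX _ le_rfl) this)
  · exact this

theorem Tw.K_le_D (t : Tw M s h P p) (i : ℕ) : Kf ⊥ P i ≤ Df h P i := by
  unfold Df; split_ifs
  · exact le_inf (Kf_le P i) (le_CM (le_nrm _) (comm_le_left (t.nK (by omega))))
  · exact le_rfl

theorem Tw.D_comm (t : Tw M s h P p) (i : ℕ) : ⁅Df h P i, P (i + 1)⁆ ≤ Kf ⊥ P i := by
  unfold Df; split_ifs
  · exact comm_of_le_CM inf_le_right
  · exact comm_le_left (t.nK (by omega))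

theorem Tw.cop (t : Tw M s h P p) (hi : i < h) : Cop (P i) (P (i + 1)) := (t.pg i).cop_of_ne (t.pg _) (t.ne i hi)

theorem Tw.le_K (t : Tw M s h P p) (hA : A ≤ P (i + 1)) (h1 : ⁅P i, A⁆ ≤ Kf ⊥ P i) : A ≤ Kf ⊥ P (i + 1) :=
  le_inf hA (le_CM (hA.trans (t.nK (by omega))) (by rwa [commC]))

theorem Tw.le_K' (t : Tw M s h P p) (hi : i < h) (hA : A ≤ P (i + 1)) (h1 : ⁅P i, A⁆ ≤ Df h P i) :
    A ≤ Kf ⊥ P (i + 1) :=
  t.le_K hA ((coprime_comm_le (hA.trans (t.nm _ _ (by omega))) ((t.cop hi).mono_right hA) h1).trans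
    ((commSS le_rfl hA).trans (t.D_comm i)))

theorem Tw.not_le_D (t : Tw M s h P p) (nt : ∀ i ≤ h, ¬ P i ≤ Kf ⊥ P i) (hi : i ≤ h) : ¬ P i ≤ Df h P i := by
  intro e
  rcases hi.lt_or_eq with hi | hi
  · exact nt (i + 1) hi (t.le_K le_rfl ((commSS e le_rfl).trans (t.D_comm i)))
  · exact nt i hi.le (by rwa [Df_ge hi.ge] at e)

/-- minimality at level `i` -/
def Mn (s : G) (h : ℕ) (P : ℕ → Subgroup G) (i : ℕ) : Prop :=
  ∀ Y ≤ P i, s ∈ N(Y) → (∀ j, i < j → P j ≤ N(Y)) → P i ≤ Y ∨ Y ≤ Df h P i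

theorem Kf_congr {P' : ℕ → Subgroup G} : ∀ i, (∀ j ≤ i, P' j = P j) → Kf K P' i = Kf K P i
  | 0, _ => rfl
  | i + 1, h => by
    rw [Kf, Kf, h _ le_rfl, h i (by omega), Kf_congr i fun j hj => h j (by omega)]

theorem exists_minimal : ∀ (n : ℕ) (P : ℕ → Subgroup G), ∑ i ∈ Finset.range (h + 1), #(P i) = n → Tw M s h P p →
    (∀ i ≤ h, ¬ P i ≤ Kf ⊥ P i) →
    ∃ P, Tw M s h P p ∧ (∀ i ≤ h, ¬ P i ≤ Kf ⊥ P i) ∧ ∀ i ≤ h, Mn s h P i := by
  classical
  intro n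
  induction n using Nat.strong_induction_on with
  | _ n ih =>
  intro P hn t nt
  by_cases hall : ∀ i ≤ h, Mn s h P i
  · exact ⟨P, t, nt, hall⟩
  obtain ⟨i, ⟨hi, hm⟩, hmax⟩ : ∃ i, (i ≤ h ∧ ¬ Mn s h P i) ∧ ∀ j, j ≤ h ∧ ¬ Mn s h P j → j ≤ i := by
    push Not at hall
    obtain ⟨i, hi⟩ := hall
    exact ⟨Nat.findGreatest (fun j => j ≤ h ∧ ¬ Mn s h P j) h, Nat.findGreatest_spec (P := fun j => j ≤ h ∧ ¬ Mn s h P j) hi.1 hi,
      fun j hj => Nat.le_findGreatest hj.1 hj⟩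
  simp only [Mn, not_forall, not_or] at hm
  obtain ⟨Y, hY, hs, hY', h1, h2⟩ := hm
  set P' := Function.update P i Y with hP'
  have e0 : P' i = Y := Function.update_self ..
  have e1 : ∀ j, j ≠ i → P' j = P j := fun j hj => Function.update_of_ne hj ..
  have hle : ∀ j, P' j ≤ P j := fun j => by
    by_cases e : j = i
    · rw [e, e0]; exact hY
    · exact (e1 j e).le
  have t' : Tw M s h P' p := ⟨fun j => (hle j).trans (t.le j), fun j => (t.pg j).mono (hle j), fun j => by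
      by_cases e : j = i
      · rw [e, e0]; exact hs
      · rw [e1 j e]; exact t.sn j, fun j l hl => by
      by_cases e : j = i
      · subst e
        rcases hl.lt_or_eq with hl | rfl
        · rw [e0, e1 l hl.ne']; exact hY' l hl
        · exact le_nrm _
      · rw [e1 j e]; exact (hle l).trans (t.nm j l hl), t.ne, fun j hj => eq_bot_of_le (hle j) (t.top j hj)⟩
  have k0 : Kf ⊥ P' i ≤ Kf ⊥ P i := by
    cases i with
    | zero => exact le_rfl
    | succ i =>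
      rw [Kf, Kf, e1 i (by omega), Kf_congr i fun j hj => e1 j (by omega)]
      exact inf_le_inf_right _ (hle _)
  have k1 : ∀ j, i < j → j ≤ h → Kf ⊥ P' j ≤ Df h P j := by
    intro j hj
    induction j, hj using Nat.le_induction with
    | base =>
      intro hj
      have hm : Mn s h P (i + 1) := by by_contra e; have := hmax _ ⟨hj, e⟩; omega
      refine (hm _ ((Kf_le P' _).trans (hle _)) (t'.sK _ (mem_zpowers s)) fun l hl => by
        rw [← e1 l (by omega)]; exact t'.nK hl.le).resolve_left fun e => h2 ?_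
      rw [Df_lt hj]
      refine le_inf hY (le_CM (hY.trans (t.nK le_rfl)) ?_)
      rw [commC, ← e0]
      exact ((commSS e le_rfl).trans (Kf_comm P' i)).trans k0
    | succ j hj ih =>
      intro hj'
      refine (t.le_K' hj' ((Kf_le P' _).trans (hle _)) ?_).trans (t.K_le_D _)
      rw [commC, ← e1 j (by omega)]
      exact (Kf_comm P' j).trans (ih (by omega))
  refine ih _ ?_ P' rfl t' fun j hj e => ?_
  · rw [← hn]
    exact Finset.sum_lt_sum (fun j _ => card_le (hle j)) ⟨i, Finset.mem_range.2 (by omega), by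
      rw [e0]; exact card_lt (lt_of_le_not_ge hY h1)⟩
  · rcases lt_trichotomy j i with hji | rfl | hji
    · rw [e1 j hji.ne, Kf_congr j fun l hl => e1 l (by omega)] at e
      exact nt j hj e
    · exact h2 (e0.ge.trans (e.trans (k0.trans (t.K_le_D _))))
    · exact t.not_le_D nt hj ((e1 j hji.ne').ge.trans (e.trans (k1 j hji hj)))

/-- a minimal tower -/
structure MT (M : Subgroup G) (s : G) (h : ℕ) (P : ℕ → Subgroup G) (p : ℕ → ℕ) : Prop extends Tw M s h P p where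
  nt : ∀ i ≤ h, ¬ P i ≤ Kf ⊥ P i
  mn : ∀ i ≤ h, Mn s h P i

namespace MT

variable (t : MT M s h P p)
include t

theorem nD (hi : i ≤ h) : ¬ P i ≤ Df h P i := t.not_le_D t.nt hi

theorem ne_bot (hi : i ≤ h) : P i ≠ ⊥ := fun e => t.nt i hi (e.le.trans bot_le)

theorem prime (hi : i ≤ h) : (p i).Prime := (t.pg i).prime (t.ne_bot hi)

theorem sn' (i : ℕ) : ⟪s⟫ ≤ N(P i) := zpowers_le.2 (t.sn i)

theorem Phi_le (hi : i ≤ h) : Phi (P i) ≤ Df h P i :=
  (t.mn i hi _ (FT.Phi_le _) (norms_Phi (t.sn' i) (mem_zpowers s)) fun j hj => norms_Phi (t.nm i j hj.le)).resolve_left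
    (Phi_lt (t.ne_bot hi)).not_ge

theorem der (hi : i ≤ h) : ⁅P i, P i⁆ ≤ Df h P i := (t.pg i).der_le_Phi.trans (t.Phi_le hi)

theorem exp (hi : i ≤ h) : ∀ x ∈ P i, x ^ p i ∈ Df h P i := fun _ hx => t.Phi_le hi ((t.pg i).pow_mem_Phi hx)

theorem le_comm (hi : i < h) : P i ≤ ⁅P i, P (i + 1)⁆ :=
  (t.mn i hi.le _ (comm_le_left (t.nm _ _ (by omega))) (normsR (t.sn' _) (t.sn' _) (mem_zpowers s))
    fun j hj => normsR (t.nm i j hj.le) (t.nm _ j hj)).resolve_right fun e => t.nt _ hi (t.le_K' hi le_rfl e)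

theorem D_cen (hi : i ≤ h) : ⁅Df h P i, P i⁆ ≤ Kf ⊥ P i := by
  rcases hi.lt_or_eq with hi' | hi'
  · rw [commC]
    refine (commSS (t.le_comm hi') le_rfl).trans (three_mod (t.nK (by omega)) ((Df_le i).trans (t.nK le_rfl)) (t.nK le_rfl)
      ?_ ((commSS ((commSS (Df_le i) le_rfl).trans (t.der hi)) le_rfl).trans (t.D_comm i)))
    rw [commC (P (i + 1))]
    exact (commSS (t.D_comm i) le_rfl).trans (comm_le_left (t.nK le_rfl))
  · rw [Df_ge hi'.ge]; exact comm_le_left (t.nK le_rfl)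

theorem D_ab (hi : i ≤ h) (hab : ⁅P i, P i⁆ ≤ Kf ⊥ P i) : Df h P i = Kf ⊥ P i := by
  rcases hi.lt_or_eq with hi' | hi'
  · refine le_antisymm ?_ (t.K_le_D i)
    have h1 := (Df_le (h := h) i).trans (t.nK (le_refl i))
    have h2 : P (i + 1) ≤ N(Kf ⊥ P i) := t.nK (by omega)
    rw [← quo_eq_bot h1, eq_bot_iff, ← ab_iff_der.1 (ab_quo_of_der_le hab)]
    refine (le_inf ?_ ((quo_cents_iff h1 h2).2 (t.D_comm i))).trans
      (coprime_cent_comm_le_der (quo_norms _ (t.nm i (i + 1) (by omega))) ((t.cop hi').quo _))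
    rw [← quo_comm (t.nK le_rfl) h2]
    exact quo_mono _ ((Df_le i).trans (t.le_comm hi'))
  · exact Df_ge hi'.ge

theorem D_na (hi : i ≤ h) (hab : ¬ ⁅P i, P i⁆ ≤ Kf ⊥ P i) : Df h P i = P i ⊓ CM (P i) (Kf ⊥ P i) :=
  le_antisymm (le_inf (Df_le i) (le_CM ((Df_le i).trans (t.nK le_rfl)) (t.D_cen hi)))
    ((t.mn i hi _ inf_le_left (normsI (t.sn' i) (norms_CM (t.sn' i) (t.sK i)) (mem_zpowers s))
      fun j hj => normsI (t.nm i j hj.le) (norms_CM (t.nm i j hj.le) (t.nK hj.le))).resolve_left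
      fun e => hab (comm_of_le_CM (e.trans inf_le_right)))

theorem cen_Z (hi : i < h) : P i ⊓ C(P (i + 1) ⊓ CM (P (i + 1)) (Kf ⊥ P (i + 1))) ≤ Df h P i := by
  set Z := P (i + 1) ⊓ CM (P (i + 1)) (Kf ⊥ P (i + 1))
  have hn : ∀ {X : Subgroup G}, (∀ j ≤ i + 1, X ≤ N(P j)) → X ≤ N(P i ⊓ CM Z (Kf ⊥ P i)) := fun hX =>
    normsI (hX _ (by omega)) (norms_CM (normsI (hX _ le_rfl) (norms_CM (hX _ le_rfl) (norms_Kf (norms_bot _) _ hX)))
      (norms_Kf (norms_bot _) _ fun j hj => hX j (by omega)))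
  refine le_trans (le_inf inf_le_left (le_CM (inf_le_left.trans (t.nK le_rfl))
    ((comm_eq_bot.2 inf_le_right).le.trans bot_le))) ((t.mn i hi.le _ inf_le_left
      (hn (fun j _ => t.sn' j) (mem_zpowers s)) fun j hj => hn fun l hl => t.nm l j (by omega)).resolve_left fun e => ?_)
  obtain ⟨x, hx, hx', h1⟩ := (t.pg (i + 1)).nil.exists_comm_mem (Nml.refl _) (t.nt _ hi)
  exact hx' (t.le_K inf_le_left (comm_of_le_CM (e.trans inf_le_right)) ⟨hx, t.nK le_rfl hx, fun y hy => (h1 y hy).1⟩)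

theorem cen_above (hc : Cop M ⟪s⟫) (hm : ∀ j, i < j → j ≤ h → ⁅P j, ⟪s⟫⁆ ≤ Df h P j) : ∀ j, i < j → P j ≤ C[s] := by
  have key : ∀ d j, i < j → h < j + d → P j ≤ C[s] := by
    intro d
    induction d with
    | zero => intro j _ hj; rw [t.top j hj]; exact bot_le
    | succ d ih =>
      intro j hj hj'
      by_cases e : h < j
      · rw [t.top j e]; exact bot_le
      rw [← cen_zpowers]
      refine ((t.mn j (by omega) (P j ⊓ C(⟪s⟫)) inf_le_left (norms_subcent (t.sn' j) (le_nrm _) (mem_zpowers s))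
        fun l hl => norms_subcent (t.nm j l hl.le)
          (norms_zpowers_of_cen1 (ih l (by omega) (by omega)))).resolve_right fun e' => ?_).trans inf_le_right
      exact t.nD (by omega) ((coprime_cent_prod (t.sn' j) (hc.mono_left (t.le j)) (t.pg j).sol).sup.ge.trans
        (sup_le (hm j hj (by omega)) e'))
  exact fun j hj => key (h + 1) j hj (by omega)

end MT

end Cfsg.Agent.TW
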