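import Cfsg.Agent.H22.Tw10

/-! A tower is at most two levels higher than a nilpotent chain of the fixed points. -/

set_option autoImplicit false
set_option linter.unusedSectionVars false
set_option linter.style.haveILetI false

namespace Cfsg.Agent.TW

open Cfsg Subgroup Cfsg.Agent.FT Cfsg.Agent.H28 Cfsg.Agent.P22 Module
open scoped commutatorElement

universe u

variable {G : Type u} [Group G] [Finite G] {A B C K K' M X Y : Subgroup G} {d g s x y : G} {P F : ℕ → Subgroup G}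
  {p : ℕ → ℕ} {h i j n r a b : ℕ}

/-- a nilpotent chain of `C` -/
structure Chn (C : Subgroup G) (F : ℕ → Subgroup G) (n : ℕ) : Prop where
  bot : F 0 = ⊥
  le : ∀ t, F t ≤ C
  nrm : ∀ t, C ≤ N(F t)
  nil : ∀ t, Nil (F (t + 1) /ₛ F t)
  top : ∀ t, n ≤ t → C ≤ F t

theorem Chn.step (c : Chn C F n) (hA : A ≤ C) (hB : B ≤ F (i + 1)) (hc : Cop A B) (hn : B ≤ N(A)) : ⁅A, B⁆ ≤ F i := by
  have h1 : ⁅A, B⁆ ≤ F (i + 1) := (commSS le_rfl hB).trans (comm_le_right (hA.trans (c.nrm _)))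
  rw [← coprime_commGid hn hc]
  exact (quo_cents_iff (h1.trans ((c.le _).trans (c.nrm _))) (hB.trans ((c.le _).trans (c.nrm _)))).1
    ((c.nil i).cents_of_cop (quo_mono _ h1) (quo_mono _ hB) ((hc.mono_left (comm_le_left hn)).quo _))

/-- the normaliser of the first levels -/
def Hn (P : ℕ → Subgroup G) (i : ℕ) : Subgroup G := ⨅ j, ⨅ _ : j ≤ i + 1, N(P j)

theorem le_Hn : X ≤ Hn P i ↔ ∀ j ≤ i + 1, X ≤ N(P j) := by simp only [Hn, le_iInf_iff]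

theorem Hn_le (hj : j ≤ i + 1) : Hn P i ≤ N(P j) := le_Hn.1 le_rfl j hj

theorem Tw.PH (t : Tw M s h P p) (hj : i < j) : P j ≤ Hn P i := le_Hn.2 fun l hl => t.nm l j (by omega)

theorem Tw.sH (t : Tw M s h P p) (i : ℕ) : s ∈ Hn P i :=
  (le_Hn.2 fun l _ => zpowers_le.2 (t.sn l) : ⟪s⟫ ≤ Hn P i) (mem_zpowers s)

theorem CM_eq (hK : ∀ g ∈ A, g ∈ K ↔ g ∈ K') (h1 : A ≤ N(K)) (h2 : A ≤ N(K')) : A ⊓ CM A K = A ⊓ CM A K' := by
  ext x
  exact ⟨fun h => ⟨h.1, h2 h.1, fun y hy => (hK _ (der_le A (commutator_mem_commutator h.1 hy))).1 (h.2.2 y hy)⟩,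
    fun h => ⟨h.1, h1 h.1, fun y hy => (hK _ (der_le A (commutator_mem_commutator h.1 hy))).2 (h.2.2 y hy)⟩⟩

/-- the setting -/
structure Sg (M : Subgroup G) (s : G) (r h : ℕ) (P : ℕ → Subgroup G) (p : ℕ → ℕ) (F : ℕ → Subgroup G) (n : ℕ) : Prop
    extends MT M s h P p where
  hr : r.Prime
  hs : s ^ r = 1
  hM : ¬ r ∣ #M
  c : Chn (M ⊓ C[s]) F n

namespace Sg

variable (t : Sg M s r h P p F n)
include t

theorem pr (hi : i ≤ h) : p i ≠ r := fun e => t.hM (e ▸ (t.pg i).dvd_of_le (t.toMT.ne_bot hi) (t.le i))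

theorem copM : Cop M ⟪s⟫ := (p'grp_of_not_dvd t.hM).cop' (pElt_of_pow_eq_one t.hr t.hs).zpowers

theorem stepJ (hi : i < h) (hd : d ∈ P (i + 1) ⊓ C[s] ⊓ F (j + 1)) (hy : y ∈ P i ⊓ C[s]) : ⁅d⁻¹, y⁆ ∈ F j :=
  comm_swap (t.c.step (B := P (i + 1) ⊓ C[s] ⊓ F (j + 1)) (inf_le_inf_right _ (t.le i)) inf_le_right
    ((t.cop hi).mono inf_le_left (inf_le_left.trans inf_le_left))
    (inf_le_left.trans (normsI (inf_le_left.trans (t.nm _ _ (by omega))) (norms_cen1 inf_le_right)))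
    (commutator_mem_commutator hy (inv_mem hd)))

theorem lvl (hi : i < h) {𝓧 : Set (Subgroup G)} (f : Fam (P i) (Df h P i) (Hn P i) s (P i ⊓ C[s] ⊓ F i) 𝓧) :
    ∃ (k : Type) (_ : Field k) (_ : IsAlgClosed k) (ρ : Representation k G (G → k)) (Ω : Set (G → k)),
      Md ρ (Hn P i) s r Ω ∧ (p (i + 1) : k) ≠ 0 ∧
      (∀ g ∈ P (i + 1), g ∈ Kr ρ (Submodule.span k Ω) ↔ g ∈ Kf ⊥ P (i + 1)) ∧
      (∀ d ∈ Hn P i ⊓ C[s], (∀ y ∈ P i ⊓ C[s], ⁅d⁻¹, y⁆ ∈ F i) → Lx ρ s r Ω d) ∧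
      (n ≤ i → ∀ μ ∈ Ω, ρ s μ ≠ μ → nm ρ s r μ = 0) ∧
      (¬ ⁅P (i + 1), P (i + 1)⁆ ≤ Kf ⊥ P (i + 1) → NA ρ (Hn P i) s r Ω (P (i + 1)) (Df h P (i + 1))
        (P (i + 2) ⊓ CM (P (i + 2)) (Kf ⊥ P (i + 2))) (p (i + 1)) (p (i + 2))) := by
  obtain ⟨k, _, _, ρ, Ω, m, hq, hK, hL, h0⟩ := exists_md f (Hn_le (by omega)) (t.sH i) (t.pg i) (t.toMT.prime hi.le) t.hr
    t.hs (t.pr hi.le) (t.toMT.der hi.le) (t.toMT.exp hi.le)
  have hk := hq _ (t.toMT.prime hi) (t.ne i hi).symm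
  have hK' : ∀ g ∈ P (i + 1), g ∈ Kr ρ (Submodule.span k Ω) ↔ g ∈ Kf ⊥ P (i + 1) := fun g hg => by
    rw [hK g (t.nm _ _ (by omega) hg)]
    refine ⟨fun e => t.le_K' hi (A := P (i + 1) ⊓ CM (P i) (Df h P i)) inf_le_left
      (by rw [commC]; exact comm_of_le_CM inf_le_right)
      ⟨hg, norms_Df (fun j hj => t.nm j _ hj) hg, e⟩, fun e y hy => t.K_le_D i (e.2.2 y hy)⟩
  have hK'' : Kf ⊥ P (i + 1) ≤ Kr ρ (Submodule.span k Ω) := fun g hg => (hK' g hg.1).2 hg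
  refine ⟨k, inferInstance, inferInstance, ρ, Ω, m, hk, hK', fun d hd e => hL d ⟨Hn_le (by omega) hd.1, hd.2⟩
    fun y hy => ⟨⟨comm_swap (comm_mem_left hy.1 (Hn_le (by omega) (inv_mem hd.1))),
      comm_le_of_le le_rfl le_rfl (commutator_mem_commutator (inv_mem hd.2) hy.2)⟩, e y hy⟩,
    fun hn => h0 (le_inf le_rfl ((inf_le_inf_right _ (t.le i)).trans (t.c.top i hn))), fun hna => ?_⟩
  have hi' : i + 1 < h := by
    by_contra e
    exact hna ((t.toMT.der hi).trans (Df_ge (by omega)).le)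
  exact ⟨m, t.PH (by omega), t.pg _, t.toMT.prime hi, hk, t.pr hi, t.sn _,
    (t.toMT.D_na hi hna).trans (CM_eq hK' ((t.PH (by omega)).trans m.nK) (t.nK le_rfl)).symm, t.toMT.der hi,
    t.toMT.exp hi, inf_le_left.trans (t.PH (by omega)), (t.pg _).inf_left _, t.ne _ hi', t.pr hi',
    inf_le_left.trans (t.nm _ _ (by omega)),
    normsI (t.toMT.sn' _) (norms_CM (t.toMT.sn' _) (t.sK _)) (mem_zpowers s),
    ((commSS ((commSS le_rfl inf_le_left).trans (comm_of_le_CM inf_le_right)) le_rfl).trans (Kf_comm P _)).trans hK'',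
    by rw [commC]; exact ((commSS le_rfl inf_le_left).trans (t.D_comm _)).trans hK'', t.toMT.cen_Z hi'⟩

theorem fam : ∀ i ≤ h, ∃ 𝓧, Fam (P i) (Df h P i) (Hn P i) s (P i ⊓ C[s] ⊓ F i) 𝓧 := by
  intro i
  induction i with
  | zero =>
    refine fun _ => ⟨{Df h P 0}, fun X hX => hX.ge, fun g hg X hX => ⟨X, hX, fun y hy => ?_⟩, fun y _ e => e _ rfl,
      fun X _ _ => inf_le_right.trans (t.c.bot.le.trans bot_le)⟩
    rw [(hX : X = _)] at hy ⊢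
    exact conj_mem' (norms_Df (fun j hj => Hn_le hj) hg) hy
  | succ i ih =>
    intro hi
    obtain ⟨𝓧, f⟩ := ih (by omega)
    obtain ⟨k, _, _, ρ, Ω, m, hk, hK, hL, -, hna⟩ := t.lvl hi f
    have hH : Hn P (i + 1) ≤ Hn P i := le_Hn.2 fun j hj => Hn_le (by omega)
    have hL' : ∀ d ∈ P (i + 1) ⊓ C[s] ⊓ F (i + 1), Lx ρ s r Ω d := fun d hd =>
      hL d ⟨t.PH (by omega) hd.1.1, hd.1.2⟩ fun y hy => t.stepJ hi hd hy
    by_cases hab : ⁅P (i + 1), P (i + 1)⁆ ≤ Kf ⊥ P (i + 1)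
    · exact m.stepAb (t.PH (by omega)) (t.pg _) hk (t.pr hi) (t.sn _) hH (Hn_le (by omega))
        (fun g hg => (hK g (der_le _ hg)).2 (hab hg))
        ((t.toMT.D_ab hi hab).trans (le_antisymm (fun g hg => ⟨hg.1, (hK g hg.1).2 hg⟩) fun g hg => (hK g hg.1).1 hg.2))
        inf_le_left hL'
    · exact (hna hab).step hH (Hn_le (by omega)) inf_le_left hL'

theorem fin (hh : h = n + 2) : ∀ d j, j + 2 + d = h → (∀ l, j + 2 ≤ l → P l ≤ C[s]) → ¬ P (j + 2) ⊓ F j ≤ Df h P (j + 2) := by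
  intro d
  induction d with
  | zero =>
    intro j hj hc e
    exact t.toMT.nD (by omega) ((le_inf le_rfl ((le_inf (t.le _) (hc _ le_rfl)).trans (t.c.top j (by omega)))).trans e)
  | succ d ih =>
    intro j hj hc e
    refine ih (j + 1) (by omega) (fun l hl => hc l (by omega)) ((t.le_K' (i := j + 2) (by omega) inf_le_left
      (le_trans (le_inf (comm_le_left (inf_le_left.trans (t.nm _ _ (by omega)))) ?_) e)).trans (t.K_le_D _))
    exact t.c.step (le_inf (t.le _) (hc _ le_rfl)) inf_le_right ((t.cop (by omega)).mono_right inf_le_left)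
      (inf_le_left.trans (t.nm _ _ (by omega)))

theorem false (hh : h = n + 2) : False := by
  classical
  have fin' : ∀ j, j + 2 ≤ h → (∀ l, j + 2 ≤ l → P l ≤ C[s]) → ¬ P (j + 2) ⊓ F j ≤ Df h P (j + 2) := fun j hj =>
    t.fin hh (h - (j + 2)) j (by omega)
  by_cases hall : ∀ j, 1 < j → j ≤ h → ⁅P j, ⟪s⟫⁆ ≤ Df h P j
  · exact fin' 0 (by omega) (t.toMT.cen_above t.copM hall) (inf_le_right.trans (t.c.bot.le.trans bot_le))
  obtain ⟨m', ⟨hm1, hm2, hm⟩, hmax⟩ : ∃ m, (1 < m ∧ m ≤ h ∧ ¬ ⁅P m, ⟪s⟫⁆ ≤ Df h P m) ∧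
      ∀ j, 1 < j ∧ j ≤ h ∧ ¬ ⁅P j, ⟪s⟫⁆ ≤ Df h P j → j ≤ m := by
    push Not at hall
    obtain ⟨i, hi⟩ := hall
    exact ⟨Nat.findGreatest (fun j => 1 < j ∧ j ≤ h ∧ ¬ ⁅P j, ⟪s⟫⁆ ≤ Df h P j) h,
      Nat.findGreatest_spec (P := fun j => 1 < j ∧ j ≤ h ∧ ¬ ⁅P j, ⟪s⟫⁆ ≤ Df h P j) hi.2.1 hi,
      fun j hj => Nat.le_findGreatest hj.2.1 hj⟩
  obtain ⟨i, rfl⟩ : ∃ i, m' = i + 1 := ⟨m' - 1, by omega⟩
  have hc : ∀ j, i + 1 < j → P j ≤ C[s] := t.toMT.cen_above t.copM fun j h1 h2 => by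
    by_contra e
    have := hmax j ⟨by omega, h2, e⟩
    omega
  have hQs : P (i + 1) ≤ ⁅P (i + 1), ⟪s⟫⁆ :=
    (t.mn _ hm2 _ (comm_le_left (t.toMT.sn' _)) (norm_comm_right _ _ (mem_zpowers s))
      fun j hj => normsR (t.nm _ j hj.le) (norms_zpowers_of_cen1 (hc j hj))).resolve_right hm
  obtain ⟨𝓧, f⟩ := t.fam i (by omega)
  obtain ⟨k, _, _, ρ, Ω, m, hk, hK, hL, h0, hna⟩ := t.lvl hm2 f
  have hQK : ¬ P (i + 1) ≤ Kr ρ (Submodule.span k Ω) := fun e => t.nt _ hm2 fun g hg => (hK g hg).1 (e hg)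
  have hK' : Kf ⊥ P (i + 1) ≤ Kr ρ (Submodule.span k Ω) := fun g hg => (hK g hg.1).2 hg
  have hQH : P (i + 1) ≤ Hn P i := t.PH (by omega)
  rcases hm2.lt_or_eq with h2 | h2
  swap
  · exact hQK (m.top1 hQH (t.pg _) hk (t.pr hm2) (t.sn _) hQs
      (((t.toMT.der hm2).trans (Df_ge h2.ge).le).trans hK') (h0 (by omega)))
  have hnL : ∀ j, i + 1 < j → P j ≤ N(Kr ρ ((Nf ρ s Ω).map (nm ρ s r))) := fun j hj =>
    (le_inf (t.PH (by omega)) (hc j hj)).trans m.nL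
  rcases t.mn (i + 2) h2 (P (i + 2) ⊓ Kr ρ ((Nf ρ s Ω).map (nm ρ s r))) inf_le_left
    (normsI (t.toMT.sn' _) ((le_inf (zpowers_le.2 (t.sH i)) (zpowers_le_cen1 s)).trans m.nL) (mem_zpowers s))
    (fun j hj => normsI (t.nm _ j hj.le) (hnL j (by omega))) with hB | hB
  swap
  · refine fin' i h2 (fun l hl => hc l hl) (le_trans (le_inf inf_le_left fun d hd => Lx_iff.1 (hL d
      ⟨t.PH (by omega) hd.1, hc _ (by omega) hd.1⟩ fun y hy => ?_)) hB)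
    exact comm_mem_left (inv_mem hd.2) (t.c.nrm i ⟨t.le i hy.1, hy.2⟩)
  have l : BL ρ (Hn P i) s r Ω (P (i + 1)) (P (i + 2)) (p (i + 1)) (p (i + 2)) :=
    ⟨m, hQH, t.pg _, hk, t.pr hm2, t.sn _, t.PH (by omega), t.pg _, t.pr h2, t.nm _ _ (by omega), hc _ (by omega),
      fun b hb => Lx_iff.2 (hB hb).2, t.toMT.le_comm h2, hQs⟩
  have hab : ¬ ⁅P (i + 1), P (i + 1)⁆ ≤ Kr ρ (Submodule.span k Ω) := fun e =>
    hQK (hQs.trans ((commSS (le_inf le_rfl (le_CM (hQH.trans m.nK) e)) le_rfl).trans l.top2))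
  have na := hna fun e => hab (e.trans hK')
  have hDs := l.top2
  rw [← na.hD] at hDs
  rcases (show i + 2 ≤ h from h2).lt_or_eq with h3 | h3
  swap
  · exact hab fun z hz => na.top3 hQs hDs hz fun μ hμ hn => by rw [h0 (by omega) μ hμ hn, map_zero]
  have hcs : P (i + 1) ⊓ C[s] ≤ ⁅P (i + 1), P (i + 1)⁆ := by
    rw [← cen_zpowers]
    exact (inf_le_inf_right _ hQs).trans (coprime_cent_comm_le_der (t.toMT.sn' _) na.cop)
  have hn : ∀ {X : Subgroup G}, (∀ j ≤ i + 3, X ≤ N(P j)) → X ≤ C[s] →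
      X ≤ N(P (i + 3) ⊓ CM (P (i + 1) ⊓ C[s]) (Kf ⊥ P (i + 1))) := fun h1 h2 =>
    normsI (h1 _ le_rfl) (norms_CM (normsI (h1 _ (by omega)) (norms_cen1 h2))
      (norms_Kf (norms_bot _) _ fun j hj => h1 j (by omega)))
  rcases t.mn (i + 3) h3 _ inf_le_left (hn (fun j _ => t.toMT.sn' j) (zpowers_le_cen1 s) (mem_zpowers s))
    (fun j hj => hn (fun l hl => t.nm l j (by omega)) (hc j (by omega))) with hA | hA
  swap
  · refine fin' (i + 1) h3 (fun l hl => hc l (by omega)) (le_trans (le_inf inf_le_left fun d hd => ?_) hA)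
    refine ⟨t.nK (by omega) hd.1, fun y hy => ?_⟩
    have hz : ⁅d, y⁆ ∈ P (i + 1) ⊓ C[s] ⊓ F (i + 1) :=
      ⟨⟨comm_swap (comm_mem_left hy.1 (t.nm _ _ (by omega) hd.1)),
        comm_le_of_le le_rfl le_rfl (commutator_mem_commutator (hc _ (by omega) hd.1) hy.2)⟩,
        comm_mem_left hd.2 (t.c.nrm _ ⟨t.le _ hy.1, hy.2⟩)⟩
    exact (hK _ hz.1.1).1 (na.top3 hQs hDs (hcs hz.1) (hL _ ⟨hQH hz.1.1, hz.1.2⟩ fun y hy => t.stepJ hm2 hz hy))
  refine hab (na.top4 l (t.ne _ h2) hDs (by rw [commC]; exact (t.D_comm _).trans hK') (t.PH (by omega))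
    (t.nm _ _ (by omega)) (hc _ (by omega)) (t.toMT.le_comm h3) ?_)
  have e := (coprime_cent_prod (zpowers_le.2 na.sD) (na.cop.mono_left na.DP) (na.hP.mono na.DP).sol).sup
  have := comm_sup_le' (K := P (i + 3)) (e.le.trans (na.DH.trans m.nK))
    ((commSS le_rfl hDs).trans (comm_le_right ((t.PH (by omega)).trans m.nK)))
    ((commSS le_rfl (by rw [cen_zpowers]; exact inf_le_inf_right _ na.DP)).trans
      ((comm_of_le_CM (hA.trans inf_le_right)).trans hK'))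
  rwa [e] at this

end Sg

end Cfsg.Agent.TW
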