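import Cfsg.Agent.H22.Tw11

/-! Existence of towers; the bound on the Fitting height. -/

set_option autoImplicit false
set_option linter.unusedSectionVars false
set_option linter.style.haveILetI false

namespace Cfsg.Agent.TW

open Cfsg Subgroup Cfsg.Agent.FT Cfsg.Agent.H28 Cfsg.Agent.P22 Module
open scoped commutatorElement

universe u

variable {G : Type u} [Group G] [Finite G] {A B C K K' L M N N' X Y : Subgroup G} {s : G} {h n r : ℕ}

/-- `M / N` has a nilpotent chain of length `h` -/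
def Len (M : Subgroup G) : ℕ → Subgroup G → Prop
  | 0, N => M ≤ N
  | h + 1, N => ∃ F, N ≤ F ∧ F ⊴ M ∧ Nil (F /ₛ N) ∧ Len M h F

theorem Len.mono : ∀ {h : ℕ} {N N' : Subgroup G}, N ⊴ M → N' ⊴ M → N ≤ N' → Len M h N → Len M h N'
  | 0, _, _, _, _, hle, e => le_trans e hle
  | _ + 1, _, _, hN, hN', hle, ⟨F, _, h2, h3, h4⟩ => ⟨F ⊔ _, le_sup_right, h2.sup hN', by
      rw [quo_sup_right (h2.le.trans hN'.nrm)]
      exact h3.quo_mono (h2.le.trans hN.nrm) (h2.le.trans hN'.nrm) (inf_le_right.trans hle),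
      h4.mono h2 (h2.sup hN') le_sup_left⟩

theorem Len.inf : ∀ {h : ℕ} {N N' : Subgroup G}, N ⊴ M → N' ⊴ M → Len M h N → Len M h N' → Len M h (N ⊓ N')
  | 0, _, _, _, _, e, e' => le_inf e e'
  | _ + 1, _, _, hN, hN', ⟨F, h1, h2, h3, h4⟩, ⟨F', h1', h2', h3', h4'⟩ => ⟨F ⊓ F', inf_le_inf h1 h1', h2.inf h2',
      Nil.quo_inf (h3.mono (quo_mono _ inf_le_left)) (h3'.mono (quo_mono _ inf_le_right))
        ((h2.inf h2').le.trans hN.nrm) ((h2.inf h2').le.trans hN'.nrm), h4.inf h2 h2' h4'⟩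

theorem len_of_le (hN : N ⊴ M) (e : M ≤ N) : ∀ h, Len M h N
  | 0 => e
  | h + 1 => ⟨N, le_rfl, hN, by rw [quo_self]; exact nil_bot, len_of_le hN e h⟩

theorem Len.chain : ∀ {h : ℕ} {N : Subgroup G}, N ⊴ M → Len M h N → ∃ F : ℕ → Subgroup G, F 0 = N ∧ F h = M ∧
    (∀ i, F i ≤ F (i + 1)) ∧ (∀ i, F i ⊴ M) ∧ ∀ i < h, Nil (F (i + 1) /ₛ F i)
  | 0, N, hN, e => ⟨fun _ => N, rfl, le_antisymm hN.le e, fun _ => le_rfl, fun _ => hN, fun _ hi => absurd hi (by omega)⟩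
  | _ + 1, N, hN, ⟨F₁, h1, h2, h3, h4⟩ => by
    obtain ⟨F, e0, e1, e2, e3, e4⟩ := h4.chain h2
    refine ⟨fun i => Nat.casesOn i N F, rfl, e1, ?_, ?_, ?_⟩
    · rintro (_ | i)
      · exact h1.trans e0.ge
      · exact e2 i
    · rintro (_ | i)
      · exact hN
      · exact e3 i
    · rintro (_ | i) hi
      · change Nil (F 0 /ₛ N); rwa [e0]
      · exact e4 i (by omega)

theorem Kf_cons (K P₀ : Subgroup G) (P : ℕ → Subgroup G) :
    ∀ i, Kf K (fun i => Nat.casesOn i P₀ P) (i + 1) = Kf (P 0 ⊓ CM P₀ K) P i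
  | 0 => rfl
  | i + 1 => by rw [Kf, Kf_cons K P₀ P i]; rfl

theorem exists_tower (hM : Sol M) (hsM : s ∈ N(M)) (hc : Cop M ⟪s⟫) : ∀ (h : ℕ) (N L : Subgroup G) (p₀ : ℕ), N ⊴ M →
    s ∈ N(N) → L ≤ M → s ∈ N(L) → M ≤ N ⊔ L → ¬ Len M h N →
    (∀ N', N' ⊴ M → N ≤ N' → ¬ Len M h N' → ∃ q, q.Prime ∧ q ≠ p₀ ∧ O[{q}](M /ₛ N') ≠ ⊥) →
    ∃ P p, Tw L s h P p ∧ (∀ i ≤ h, ¬ P i ≤ Kf N P i) ∧ p 0 ≠ p₀ := by
  have hsM' : ⟪s⟫ ≤ N(M) := zpowers_le.2 hsM
  have key : ∀ (h : ℕ) (N L : Subgroup G) (p₀ : ℕ), N ⊴ M → s ∈ N(N) → L ≤ M → s ∈ N(L) → M ≤ N ⊔ L → ¬ Len M h N →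
      (∀ N', N' ⊴ M → N ≤ N' → ¬ Len M h N' → ∃ q, q.Prime ∧ q ≠ p₀ ∧ O[{q}](M /ₛ N') ≠ ⊥) →
      ∃ q W P₀, q ≠ p₀ ∧ W ⊴ M ∧ s ∈ N(W) ∧ Len M h W ∧ (∀ h', h = h' + 1 → ¬ Len M h' W) ∧ Syl q P₀ (W ⊓ L) ∧
        s ∈ N(P₀) ∧ ¬ P₀ ≤ N ∧ M ⊓ CM P₀ N ≤ W ∧ O[{q}](M /ₛ W) = ⊥ := by
    intro h N L p₀ hN hsN hL hsL hML hn hq
    obtain ⟨N', hNN, ⟨h1, h2, h3⟩, hmax⟩ := exists_max (fun X => X ⊴ M ∧ s ∈ N(X) ∧ ¬ Len M h X) ⟨hN, hsN, hn⟩
    obtain ⟨q, hq, hqp, hO⟩ := hq N' h1 hNN h3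
    have hW : ∀ t, qpre(N', O[{t}](M /ₛ N')) ⊴ M := fun t => qpre_nml h1 (pcore_nml _ _)
    have hsW : ∀ t, s ∈ N(qpre(N', O[{t}](M /ₛ N'))) := fun t =>
      (pcore_char _ _).qpre_norms (zpowers_le.2 h2) hsM' (mem_zpowers s)
    have hlen : ∀ t, O[{t}](M /ₛ N') ≠ ⊥ → Len M h qpre(N', O[{t}](M /ₛ N')) := fun t ht => by
      by_contra e
      exact (lt_qpre ht).ne' (hmax _ ⟨hW t, hsW t, e⟩ (le_qpre _))
    set W := qpre(N', O[{q}](M /ₛ N')) with hWd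
    have hWq : W /ₛ N' = O[{q}](M /ₛ N') := quo_qpre _
    obtain ⟨P₀, hP, hsP⟩ := coprime_Sylow_exists q (normsI (zpowers_le.2 (hsW q)) (zpowers_le.2 hsL))
      (hc.mono_left (inf_le_right.trans hL)) (Or.inr (sol_zpowers s))
    have hn' : W ⊓ L ≤ N(N') := (inf_le_right.trans hL).trans h1.nrm
    have hPq : P₀ /ₛ N' = O[{q}](M /ₛ N') := by
      refine ((hP.quo hn').eq_of_piGrp ((pcore_pi _ _).mono ((quo_mono _ inf_le_left).trans hWq.le))).trans
        (Eq.trans ?_ hWq)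
      change (W ⊓ L) /ₛ N' = _
      rw [← quo_sup_left hn', ← inf_sup_left (hL.trans h1.nrm) (le_qpre _),
        inf_eq_left.2 ((hW q).le.trans (hML.trans (sup_le_sup_right hNN _)))]
    refine ⟨q, W, P₀, hqp, hW q, hsW q, hlen q hO, ?_, hP, hsP (mem_zpowers s),
      fun e => hO (hPq ▸ quo_eq_bot_of_le (e.trans hNN)), ?_, ?_⟩
    · rintro h' rfl e
      exact h3 ⟨W, le_qpre _, hW q, hWq ▸ (pcore_pi _ _).nil, e⟩
    · have hF : F(M /ₛ N') ≤ O[{q}](M /ₛ N') := fitting_le_of_forall_pcore fun t _ => by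
        by_cases e : t = q
        · rw [e]
        by_contra e'
        have := (hlen t fun e'' => e' (e''.le.trans bot_le)).inf (hW t) (hW q) (hlen q hO)
        rw [← qpre_inf, ((pcore_pi _ _).cop_of_ne (pcore_pi _ _) e).inf, qpre_bot] at this
        exact h3 this
      have hX : M ⊓ CM P₀ N ≤ N(N') := inf_le_left.trans h1.nrm
      refine (quo_le_iff hX).1 (le_trans (le_inf (quo_mono _ inf_le_left) (centsS (hF.trans hPq.ge) ?_))
        ((cent_sub_Fitting (hM.quo N')).trans hF))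
      exact quo_cents_of_comm_le ((comm_of_le_CM inf_le_right).trans hNN)
    · have hV : qpre(W, O[{q}](M /ₛ W)) ⊴ M := qpre_nml (hW q) (pcore_nml _ _)
      rw [← qpre_inj, qpre_bot]
      refine le_antisymm ((quo_le_iff (hV.le.trans h1.nrm)).1 (pcore_max ?_ (hV.quo _))) (le_qpre _)
      rw [piGrp_quo_iff (hV.le.trans h1.nrm), ← FT.relIndex_mul (le_qpre _ : N' ≤ W) (le_qpre _), relIndex_qpre_self,
        relIndex_qpre_self]
      exact (pcore_pi _ _).piNat.mul (pcore_pi _ _).piNat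
  intro h
  induction h with
  | zero =>
    intro N L p₀ hN hsN hL hsL hML hn hq
    obtain ⟨q, W, P₀, h1, -, -, -, -, h2, h3, h4, -⟩ := key 0 N L p₀ hN hsN hL hsL hML hn hq
    refine ⟨fun i => Nat.casesOn i P₀ fun _ => ⊥, fun _ => q, ⟨?_, ?_, ?_, ?_, fun _ hi => absurd hi (by omega), ?_⟩, ?_, h1⟩
    · rintro (_ | i)
      · exact h2.le.trans inf_le_right
      · exact bot_le
    · rintro (_ | i)
      · exact h2.pi
      · exact piGrp_bot _
    · rintro (_ | i)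
      · exact h3
      · exact norms_bot ⊤ (mem_top s)
    · rintro (_ | i) (_ | j) hj
      · exact le_nrm _
      · exact bot_le
      · exact norms_bot _
      · exact bot_le
    · rintro (_ | i) hi
      · omega
      · rfl
    · rintro (_ | i) hi
      · exact h4
      · omega
  | succ h ih =>
    intro N L p₀ hN hsN hL hsL hML hn hq
    obtain ⟨q, W, P₀, h1, hW, hsW, ⟨F₁, f1, f2, f3, f4⟩, hn', h2, h3, h4, h5, h6⟩ := key _ N L p₀ hN hsN hL hsL hML hn hq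
    have hNW : N ≤ W := (le_inf hN.le (le_CM (le_nrm N) (comm_le_left
      ((h2.le.trans (inf_le_right.trans hL)).trans hN.nrm)))).trans h5
    obtain ⟨P, p, t, nt, hp⟩ := ih W (L ⊓ N(P₀)) q hW hsW (inf_le_left.trans hL)
      (normsI (zpowers_le.2 hsL) (norms_norm (zpowers_le.2 h3)) (mem_zpowers s))
      (hML.trans (sup_le (hNW.trans le_sup_left) ((h2.frattini (nml_inf_of_norms' (hL.trans hW.nrm))).sup.ge.trans
        (sup_le_sup_right inf_le_left _)))) (hn' h rfl) fun N' g1 g2 g3 => by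
          have hFN : F₁ ≤ N(N') := f2.le.trans g1.nrm
          have hFW : F₁ ≤ N(W) := f2.le.trans hW.nrm
          have e1 : PiGrp {q}ᶜ (F₁ /ₛ N') := PiGrp.quo_mono ((f3.pcore_hall {q}).eq_bot_iff.1
            (eq_bot_of_le (pcore_max (pcore_pi _ _) ((f2.quo W).pcore _)) h6)) hFW hFN (inf_le_right.trans g2)
          obtain ⟨t, ht, ht'⟩ := (f3.quo_mono hFW hFN (inf_le_right.trans g2)).sol.exists_pcore_ne_bot
            (quo_ne_bot hFN fun e => g3 (f4.mono f2 g1 e))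
          exact ⟨t, ht, e1.mem_of_pgrp (pcore_pi _ _) ht' (pcore_le _ _),
            ne_bot_of_le (pcore_max (pcore_pi _ _) ((f2.quo N').pcore _)) ht'⟩
    refine ⟨fun i => Nat.casesOn i P₀ P, fun i => Nat.casesOn i q p, ⟨?_, ?_, ?_, ?_, ?_, ?_⟩, ?_, h1⟩
    · rintro (_ | i)
      · exact h2.le.trans inf_le_right
      · exact (t.le i).trans inf_le_left
    · rintro (_ | i)
      · exact h2.pi
      · exact t.pg i
    · rintro (_ | i)
      · exact h3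
      · exact t.sn i
    · rintro (_ | i) (_ | j) hj
      · exact le_nrm _
      · exact (t.le j).trans inf_le_right
      · omega
      · exact t.nm i j (by omega)
    · rintro (_ | i) hi
      · exact hp.symm
      · exact t.ne i (by omega)
    · rintro (_ | i) hi
      · omega
      · exact t.top i (by omega)
    · rintro (_ | i) hi
      · exact h4
      · rw [Kf_cons]
        exact fun e => nt i (by omega) (le_trans e (Kf_mono t.nm
          ((inf_le_inf_right _ ((t.le 0).trans (inf_le_left.trans hL))).trans h5)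
          (fun j => ((t.le j).trans (inf_le_left.trans hL)).trans hW.nrm) i))

theorem turull {F : ℕ → Subgroup G} (hM : Sol M) (hsM : s ∈ N(M)) (hr : r.Prime) (hs : s ^ r = 1) (hc : ¬ r ∣ #M)
    (c : Chn (M ⊓ C[s]) F n) : Len M (n + 2) ⊥ := by
  by_contra hn
  obtain ⟨P, p, t, nt, -⟩ := exists_tower hM hsM ((p'grp_of_not_dvd hc).cop' (pElt_of_pow_eq_one hr hs).zpowers) _ ⊥ M 1
    (nml_bot M) (norms_bot ⊤ (mem_top s)) le_rfl hsM le_sup_right hn fun N' h1 _ h3 => by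
      obtain ⟨q, hq, h⟩ := (hM.quo N').exists_pcore_ne_bot (quo_ne_bot h1.nrm fun e => h3 (len_of_le h1 e _))
      exact ⟨q, hq, hq.ne_one, h⟩
  obtain ⟨P, t, nt, mn⟩ := exists_minimal _ P rfl t nt
  exact Sg.false ⟨⟨t, nt, mn⟩, hr, hs, hc, c⟩ rfl

end Cfsg.Agent.TW
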