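import Cfsg.Agent.H22.Tw1

/-! The orbit lemmas for a fixed central character. -/

set_option autoImplicit false
set_option linter.unusedSectionVars false
set_option linter.style.haveILetI false

namespace Cfsg.Agent.TW

open Cfsg Subgroup Cfsg.Agent.FT Cfsg.Agent.H28
open scoped commutatorElement

universe u

variable {G : Type u} [Group G] [Finite G] {k : Type*} [Field k] {E : Type*} [AddCommGroup E] [Module k E]
  {ρ : Representation k G E} {T P Z Y : Subgroup G} {ν ν' : G → k} {b d g h s t x y z : G} {v w μ : E} {r : ℕ}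
  {U : Submodule k E} {Ω : Set E}

/-- the stabiliser of the coset `y Y` under conjugation -/
def Sy (Y : Subgroup G) (y : G) : Subgroup G where
  carrier := {g | g ∈ N(Y) ∧ y⁻¹ * (g * y * g⁻¹) ∈ Y}
  one_mem' := ⟨one_mem _, by simp⟩
  mul_mem' := by
    rintro a b ⟨ha, ha'⟩ ⟨hb, hb'⟩
    refine ⟨mul_mem ha hb, ?_⟩
    have := mul_mem ha' (conj_mem ha hb')
    convert this using 1; group
  inv_mem' := by
    rintro a ⟨ha, ha'⟩
    refine ⟨inv_mem ha, ?_⟩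
    have := inv_mem (conj_mem' ha ha')
    convert this using 1; group

theorem fpf (hs : s ∈ N(P)) (hc : (#P).Coprime (orderOf s)) (hn : P ≤ N(Y)) (h1 : P ⊓ C[s] ≤ Y) (hy : y ∈ P)
    (h : s ∈ Sy Y y) : y ∈ Y := by
  have h2 : coset(Y, y) ∈ (P /ₛ Y) ⊓ C[coset(Y, s)] := by
    refine ⟨mem_quo_of_mem (hn hy) hy, ?_⟩
    have h3 := (coset_eq_iff (hn hy) (mul_mem (mul_mem h.1 (hn hy)) (inv_mem h.1))).2 h.2
    rw [coset_conj h.1 (hn hy)] at h3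
    refine mem_cen1.2 ?_
    conv_lhs => rw [h3]
    group
  rw [← strong_coprime_quotient_cent1 hs h.1 hc, quo_eq_bot_of_le h1, mem_bot, coset_eq_one_iff (hn hy)] at h2
  exact h2

/-- the stabiliser in `P` of the line through `v` -/
def Ln (ρ : Representation k G E) (P : Subgroup G) (v : E) : Subgroup G where
  carrier := {y | y ∈ P ∧ ∃ c : k, c ≠ 0 ∧ ρ y v = c • v}
  one_mem' := ⟨one_mem _, 1, one_ne_zero, by simp⟩
  mul_mem' := by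
    rintro a b ⟨ha, c, hc, ha'⟩ ⟨hb, c', hc', hb'⟩
    exact ⟨mul_mem ha hb, c' * c, mul_ne_zero hc' hc, by rw [rho_mul, hb', map_smul, ha', smul_smul]⟩
  inv_mem' := by
    rintro a ⟨ha, c, hc, ha'⟩
    refine ⟨inv_mem ha, c⁻¹, inv_ne_zero hc, ?_⟩
    have := congrArg (ρ a⁻¹) ha'
    rw [← rho_mul, inv_mul_cancel, rho_one, map_smul] at this
    conv_rhs => rw [this, smul_smul, inv_mul_cancel₀ hc, one_smul]

theorem Ln_comm {a : G} (ha : a ∈ Ln ρ P v) (hb : b ∈ Ln ρ P v) : ρ ⁅a, b⁆ v = v := by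
  obtain ⟨-, c, hc, h1⟩ := ha
  obtain ⟨-, c', hc', h2⟩ := hb
  have h3 : ρ (b * a) v = (c * c') • v := by rw [rho_mul, h1, map_smul, h2, smul_smul]
  have h4 : ρ (a * b) v = (c * c') • v := by rw [rho_mul, h2, map_smul, h1, smul_smul, mul_comm]
  have h5 : ρ ⁅a, b⁆ (ρ (b * a) v) = ρ (a * b) v := by
    rw [← rho_mul, commutatorElement_def]; congr 2; group
  rw [h3, h4, map_smul] at h5
  exact smul_right_injective E (mul_ne_zero hc hc') h5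

theorem conj_Ln (hg : g ∈ N(P)) (hy : y ∈ Ln ρ P v) : g * y * g⁻¹ ∈ Ln ρ P (ρ g v) := by
  obtain ⟨h1, c, hc, h2⟩ := hy
  refine ⟨conj_mem hg h1, c, hc, ?_⟩
  rw [← rho_mul, inv_mul_cancel_right, rho_mul, h2, map_smul]

theorem nrm_Ln (hs : s ∈ N(P)) (h : ρ s v = v) : s ∈ N(Ln ρ P v) :=
  mem_nrm.2 fun y hy => by have := conj_Ln hs hy; rwa [h] at this

/-- the span of the non-fixed members of `Ω` -/
def Nf (ρ : Representation k G E) (s : G) (Ω : Set E) : Submodule k E := Submodule.span k {μ | μ ∈ Ω ∧ ρ s μ ≠ μ}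

theorem Lx.nf (h : Lx ρ s r Ω d) (hv : v ∈ Nf ρ s Ω) : ρ d (nm ρ s r v) = nm ρ s r v :=
  mem_Fx.1 ((Submodule.span_le.2 fun _ hμ => mem_Fx.2 (h _ hμ.1 hμ.2) : Nf ρ s Ω ≤ Fx ρ s r d) hv)

/-- the setting of a fixed central character -/
structure Fc (ρ : Representation k G E) (P Z : Subgroup G) (ν : G → k) (s : G) (r : ℕ) (Ω : Set E) : Prop where
  ch : Ch Z ν
  hr : r.Prime
  hs : s ^ r = 1
  sP : s ∈ N(P)
  sZ : s ∈ St Z ν
  PZ : P ≤ St Z ν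
  cop : (#P).Coprime r
  der : ⁅P, P⁆ ≤ Z
  cen : P ⊓ C[s] ≤ Z
  om : ∀ y ∈ P, ∀ μ ∈ Ω, ρ y μ ∈ Ω

theorem Fc.inf_le (h : Fc ρ P Z ν s r Ω) (hy : y ∈ P) (hz : y ∈ Z) (μ : E) : y ∈ Ln ρ P (pr ρ Z ν μ) :=
  ⟨hy, ν y, h.ch.ne_zero hz, pr_mem h.ch μ y hz⟩

theorem Fc.nrm (h : Fc ρ P Z ν s r Ω) (μ : E) : P ≤ N(Ln ρ P (pr ρ Z ν μ)) :=
  (nml_of_der_le (fun _ hx => h.inf_le (der_le P hx) (h.der hx) μ) (fun _ hx => hx.1)).nrm

theorem Fc.fpf (h : Fc ρ P Z ν s r Ω) {j : ℕ} (h0 : j ≠ 0) (hj : j < r) (hy : y ∈ P)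
    (h1 : s ^ j ∈ Sy (Ln ρ P (pr ρ Z ν μ)) y) : y ∈ Ln ρ P (pr ρ Z ν μ) :=
  TW.fpf h.sP (h.cop.coprime_dvd_right (orderOf_dvd_of_pow_eq_one h.hs)) (h.nrm μ)
    (fun _ hx => h.inf_le hx.1 (h.cen hx) μ) hy (mem_of_pow_prime h.hr h.hs h0 hj h1)

theorem Fc.fix (h : Fc ρ P Z ν s r Ω) (hf : ρ s μ = μ) : ρ s (pr ρ Z ν μ) = pr ρ Z ν μ := by
  rw [rho_pr_St h.sZ, hf]

theorem Fc.lineN (h : Fc ρ P Z ν s r Ω) (hμ : μ ∈ Ω) (hf : ρ s μ = μ) (hy : y ∈ P) (hn : y ∉ Ln ρ P (pr ρ Z ν μ)) :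
    ρ y (pr ρ Z ν μ) ∈ (Nf ρ s Ω).map (pr ρ Z ν) := by
  rw [rho_pr_St (h.PZ hy)]
  refine ⟨_, Submodule.subset_span ⟨h.om y hy μ hμ, fun e => hn ?_⟩, rfl⟩
  refine h.fpf (j := 1) one_ne_zero h.hr.one_lt hy ?_
  rw [pow_one]
  have h1 := mul_mem (inv_mem hy) (conj_mem h.sP hy)
  refine ⟨nrm_Ln h.sP (h.fix hf), h1, 1, one_ne_zero, ?_⟩
  rw [rho_pr_St (h.PZ h1), one_smul, rho_mul, rho_mul, rho_mul]
  congr 1
  have : ρ s⁻¹ μ = μ := by conv_lhs => rw [← hf, ← rho_mul, inv_mul_cancel, rho_one]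
  rw [this, e, ← rho_mul, inv_mul_cancel, rho_one]

theorem rho_nm_conj (hf : ρ s v = v) (u y : G) :
    ρ u (nm ρ s r (ρ y v)) = ∑ j ∈ Finset.range r, ρ (u * (s ^ j * y * (s ^ j)⁻¹)) v := by
  rw [nm_apply, map_sum]
  refine Finset.sum_congr rfl fun j _ => ?_
  conv_rhs => rw [← rho_pow_fixed hf j]
  rw [← rho_mul, ← rho_mul, ← rho_mul]
  congr 2; group

theorem Fc.phi (h : Fc ρ P Z ν s r Ω) (hμ : μ ∈ Ω) (hf : ρ s μ = μ) (φ : E →ₗ[k] k)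
    (h1 : ∀ n ∈ (Nf ρ s Ω).map (pr ρ Z ν), φ n = 0) (h2 : φ (pr ρ Z ν μ) ≠ 0) (hy : y ∈ P)
    (hn : y ∉ Ln ρ P (pr ρ Z ν μ)) (ht : t ∈ Ln ρ P (pr ρ Z ν μ)) :
    φ (ρ (t * y⁻¹) (nm ρ s r (ρ y (pr ρ Z ν μ)))) ≠ 0 := by
  rw [rho_nm_conj (h.fix hf), map_sum, Finset.sum_eq_single 0]
  · obtain ⟨-, c, hc, e⟩ := ht
    simp only [pow_zero, one_mul, inv_one, mul_one, inv_mul_cancel_right]
    rw [e, map_smul]
    exact smul_ne_zero hc h2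
  · intro j hj h0
    have h3 := conj_mem (pow_mem h.sP j) hy
    refine h1 _ (h.lineN hμ hf (mul_mem (mul_mem ht.1 (inv_mem hy)) h3) fun e => hn ?_)
    refine h.fpf h0 (Finset.mem_range.1 hj) hy ⟨pow_mem (nrm_Ln h.sP (h.fix hf)) j, ?_⟩
    have := mul_mem (inv_mem ht) e
    rwa [mul_assoc t, inv_mul_cancel_left] at this
  · intro e; exact absurd (Finset.mem_range.2 h.hr.pos) e

theorem fixed_of_not_mem (hμ : μ ∈ Ω) (hn : pr ρ Z ν μ ∉ (Nf ρ s Ω).map (pr ρ Z ν)) : ρ s μ = μ := by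
  by_contra e
  exact hn ⟨μ, Submodule.subset_span ⟨hμ, e⟩, rfl⟩

theorem exists_phi (F : Submodule k E) (hv : v ∉ F) : ∃ φ : E →ₗ[k] k, (∀ n ∈ F, φ n = 0) ∧ φ v ≠ 0 := by
  obtain ⟨φ, h1, h2⟩ := F.exists_dual_map_eq_bot_of_notMem hv inferInstance
  exact ⟨φ, fun n hn => by have : φ n ∈ F.map φ := ⟨n, hn, rfl⟩; rwa [h2, Submodule.mem_bot] at this, h1⟩

theorem Fc.nu_comm (h : Fc ρ P Z ν s r Ω) (h0 : pr ρ Z ν μ ≠ 0) {a : G} (ha : a ∈ Ln ρ P (pr ρ Z ν μ))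
    (hb : b ∈ Ln ρ P (pr ρ Z ν μ)) : ν ⁅a, b⁆ = 1 := by
  have h1 := Ln_comm ha hb
  rw [pr_mem h.ch μ _ (h.der (commutator_mem_commutator ha.1 hb.1))] at h1
  exact smul_left_injective k h0 (by simpa using h1)

theorem Fc.lem2 (h : Fc ρ P Z ν s r Ω) {a : G} (ha : a ∈ P) (hb : b ∈ P) (hab : ν ⁅a, b⁆ ≠ 1)
    (h0 : ∀ n ∈ (Nf ρ s Ω).map (pr ρ Z ν), nm ρ s r n = 0) (hμ : μ ∈ Ω) :
    pr ρ Z ν μ ∈ (Nf ρ s Ω).map (pr ρ Z ν) := by
  by_contra hn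
  have hf := fixed_of_not_mem hμ hn
  have hz : pr ρ Z ν μ ≠ 0 := fun e => hn (e ▸ zero_mem _)
  obtain ⟨φ, h1, h2⟩ := exists_phi _ hn
  have : ∃ y ∈ P, y ∉ Ln ρ P (pr ρ Z ν μ) := by
    by_contra hc
    push Not at hc
    exact hab (h.nu_comm hz (hc a ha) (hc b hb))
  obtain ⟨y, hy, hy'⟩ := this
  have := h.phi hμ hf φ h1 h2 hy hy' (one_mem _)
  rw [h0 _ (h.lineN hμ hf hy hy'), map_zero, map_zero] at this
  exact this rfl

theorem Fc.lem2b (h : Fc ρ P Z ν s r Ω) (hbZ : b ∈ St Z ν) (hbP : b ∈ N(P)) (hbs : b * s = s * b)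
    (hbr : (orderOf b).Coprime r) (hbΩ : ∀ μ ∈ Ω, ρ b μ ∈ Ω) (hL : Lx ρ s r Ω b) (hμ : μ ∈ Ω)
    (hn : pr ρ Z ν μ ∉ (Nf ρ s Ω).map (pr ρ Z ν)) (hy : y ∈ P) : ⁅b, y⁆ ∈ Ln ρ P (pr ρ Z ν μ) := by
  classical
  have hf := fixed_of_not_mem hμ hn
  obtain ⟨φ, h1, h2⟩ := exists_phi _ hn
  have hf' : ρ s (ρ b μ) = ρ b μ := by rw [← rho_mul, ← hbs, rho_mul, hf]
  have hv' : ρ b (pr ρ Z ν μ) = pr ρ Z ν (ρ b μ) := rho_pr_St hbZ μ
  have hsT := nrm_Ln h.sP (h.fix hf)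
  have hsT' := nrm_Ln h.sP (h.fix hf')
  have key : ∀ y ∈ P, y ∉ Ln ρ P (pr ρ Z ν μ) → ∀ t ∈ Ln ρ P (pr ρ Z ν μ), ∃ j ∈ Finset.range r,
      t * y⁻¹ * (s ^ j * (b * y * b⁻¹) * (s ^ j)⁻¹) ∈ Ln ρ P (pr ρ Z ν (ρ b μ)) := by
    intro y hy hy' t ht
    have h3 := h.phi hμ hf φ h1 h2 hy hy' ht
    obtain ⟨m, hm, e⟩ := h.lineN hμ hf hy hy'
    have h4 : nm ρ s r (ρ y (pr ρ Z ν μ)) = nm ρ s r (ρ (b * y * b⁻¹) (pr ρ Z ν (ρ b μ))) := by
      rw [← hv', ← rho_mul, inv_mul_cancel_right, rho_mul, ← rho_nm hbs, ← e, nm_pr h.sZ, rho_pr_St hbZ, hL.nf hm]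
    rw [h4, rho_nm_conj (h.fix hf'), map_sum] at h3
    obtain ⟨j, hj, h5⟩ := Finset.exists_ne_zero_of_sum_ne_zero h3
    refine ⟨j, hj, ?_⟩
    by_contra h6
    exact h5 (h1 _ (h.lineN (hbΩ μ hμ) hf' (mul_mem (mul_mem ht.1 (inv_mem hy))
      (conj_mem (pow_mem h.sP j) (conj_mem hbP hy))) h6))
  have hmem : ⁅b, y⁆ ∈ P := by
    rw [commutatorElement_def]; exact mul_mem (conj_mem hbP hy) (inv_mem hy)
  by_cases hall : ∀ y ∈ P, y ∈ Ln ρ P (pr ρ Z ν μ)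
  · exact hall _ hmem
  push Not at hall
  obtain ⟨y₀, hy₀, hy₀'⟩ := hall
  have hTT : Ln ρ P (pr ρ Z ν μ) ≤ Ln ρ P (pr ρ Z ν (ρ b μ)) := by
    intro t ht
    let el : ℕ → G := fun i => if i = r then 1 else s ^ i * t * (s ^ i)⁻¹
    have hel : ∀ i, el i ∈ Ln ρ P (pr ρ Z ν μ) := fun i => by
      simp only [el]; split_ifs
      · exact one_mem _
      · exact conj_mem (pow_mem hsT i) ht
    choose J hJ hJ' using fun i => key y₀ hy₀ hy₀' (el i) (hel i)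
    obtain ⟨i, hi, i', hi', hne, e⟩ := Finset.exists_ne_map_eq_of_card_lt_of_maps_to
      (s := Finset.range (r + 1)) (t := Finset.range r) (by simp) (f := J) (fun i _ => hJ i)
    have h3 : ∀ i i', J i = J i' → el i * (el i')⁻¹ ∈ Ln ρ P (pr ρ Z ν (ρ b μ)) := by
      intro i i' e
      have := mul_mem (hJ' i) (inv_mem (hJ' i'))
      rw [e] at this
      convert this using 1; group
    wlog hlt : i < i' generalizing i i'
    · exact this i' hi' i hi hne.symm e.symm (by omega)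
    have h4 := h3 i i' e
    rw [Finset.mem_range] at hi hi'
    have h5 : el i = s ^ i * t * (s ^ i)⁻¹ := if_neg (by omega)
    by_cases hr : i' = r
    · have h6 : el i' = 1 := if_pos hr
      rw [h5, h6, inv_one, mul_one] at h4
      have := conj_mem' (pow_mem hsT' i) h4
      convert this using 1; group
    · have h6 : el i' = s ^ i' * t * (s ^ i')⁻¹ := if_neg hr
      obtain ⟨m, rfl⟩ : ∃ m, i' = i + m := ⟨i' - i, by omega⟩
      rw [h5, h6] at h4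
      refine (inv_mem_iff).1 (h.fpf (j := m) (by omega) (by omega) (inv_mem ht.1) ⟨pow_mem hsT' m, ?_⟩)
      have := conj_mem' (pow_mem hsT' i) h4
      convert this using 1; rw [pow_add]; group
  have hbT : b ∈ N(Ln ρ P (pr ρ Z ν μ)) := by
    refine (inv_mem_iff).1 (mem_nrm.2 fun t ht => ?_)
    have := conj_Ln (inv_mem hbP) (hTT ht)
    rwa [← hv', ← rho_mul, inv_mul_cancel, rho_one] at this
  have hT'T : Ln ρ P (pr ρ Z ν (ρ b μ)) ≤ Ln ρ P (pr ρ Z ν μ) := by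
    intro t ht
    have := conj_Ln (inv_mem hbP) ht
    rw [← hv', ← rho_mul, inv_mul_cancel, rho_one] at this
    have := conj_mem hbT this
    convert this using 1; group
  have h7 : b ∈ Sy (Ln ρ P (pr ρ Z ν μ)) y := by
    by_cases hy' : y ∈ Ln ρ P (pr ρ Z ν μ)
    · exact ⟨hbT, mul_mem (inv_mem hy') (conj_mem hbT hy')⟩
    obtain ⟨j, -, hj⟩ := key y hy hy' 1 (one_mem _)
    have h8 : s ^ j * b ∈ Sy (Ln ρ P (pr ρ Z ν μ)) y :=
      ⟨mul_mem (pow_mem hsT j) hbT, by convert hT'T hj using 1; group⟩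
    refine mem_of_pow_mem (n := r) ?_ hbr.symm
    have := pow_mem h8 r
    rwa [Commute.mul_pow (Commute.pow_left (show Commute s b from hbs.symm) j), ← pow_mul, mul_comm j, pow_mul,
      h.hs, one_pow, one_mul] at this
  have := conj_mem (h.nrm μ hy) h7.2
  convert this using 1
  rw [commutatorElement_def]; group

end Cfsg.Agent.TW
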