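import Cfsg.Agent.H22.Tw2

/-! Hall–Higman type counts for class two groups with scalar centre. -/

set_option autoImplicit false
set_option linter.unusedSectionVars false
set_option linter.style.haveILetI false

namespace Cfsg.Agent.TW

open Cfsg Subgroup Cfsg.Agent.FT Cfsg.Agent.H28 Module
open scoped commutatorElement

universe u

section LA

variable {k : Type*} [Field k] {W : Type*} [AddCommGroup W] [Module k W] [FiniteDimensional k W]

theorem ker_comp_le (f g : Module.End k W) :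
    finrank k (LinearMap.ker (g * f)) ≤ finrank k (LinearMap.ker f) +
      finrank k ↥(LinearMap.ker g ⊓ LinearMap.range f) := by
  have h1 := LinearMap.finrank_range_add_finrank_ker (f.domRestrict (LinearMap.ker (g * f)))
  have h2 : finrank k (LinearMap.range (f.domRestrict (LinearMap.ker (g * f)))) ≤
      finrank k ↥(LinearMap.ker g ⊓ LinearMap.range f) :=
    Submodule.finrank_mono (by rintro _ ⟨v, rfl⟩; exact ⟨v.2, v, rfl⟩)
  have h3 : finrank k (LinearMap.ker (f.domRestrict (LinearMap.ker (g * f)))) ≤ finrank k (LinearMap.ker f) := by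
    rw [← Submodule.finrank_map_subtype_eq]
    exact Submodule.finrank_mono (by rintro _ ⟨v, hv, rfl⟩; exact hv)
  omega

theorem nilp_bound (N : Module.End k W) {n : ℕ} (hN : N ^ (n + 1) = 0) (U₀ : Submodule k W)
    (h1 : U₀ ≤ LinearMap.ker N) (h2 : ∀ u ∈ U₀, u ∈ LinearMap.range N → u = 0) :
    finrank k W + n * finrank k U₀ ≤ (n + 1) * finrank k (LinearMap.ker N) := by
  have h3 : ∀ m, finrank k (LinearMap.ker (N ^ (m + 1))) ≤
      finrank k (LinearMap.ker N) + m * finrank k ↥(LinearMap.ker N ⊓ LinearMap.range N) := by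
    intro m
    induction m with
    | zero => rw [zero_add, pow_one]; simp
    | succ m ih =>
      have := ker_comp_le (N ^ (m + 1)) N
      rw [← pow_succ'] at this
      have h4 : finrank k ↥(LinearMap.ker N ⊓ LinearMap.range (N ^ (m + 1))) ≤
          finrank k ↥(LinearMap.ker N ⊓ LinearMap.range N) :=
        Submodule.finrank_mono (inf_le_inf_left _ (by rintro _ ⟨v, rfl⟩; exact ⟨(N ^ m) v, by rw [pow_succ']; rfl⟩))
      nlinarith
  have h4 := h3 n
  rw [hN, LinearMap.ker_zero, finrank_top] at h4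
  have h5 := Submodule.finrank_sup_add_finrank_inf_eq U₀ (LinearMap.ker N ⊓ LinearMap.range N)
  have h6 : U₀ ⊓ (LinearMap.ker N ⊓ LinearMap.range N) = ⊥ := by
    rw [eq_bot_iff]; intro u hu; exact h2 u hu.1 hu.2.2
  rw [h6, finrank_bot] at h5
  have h7 : finrank k ↥(U₀ ⊔ LinearMap.ker N ⊓ LinearMap.range N) ≤ finrank k (LinearMap.ker N) :=
    Submodule.finrank_mono (sup_le h1 inf_le_left)
  nlinarith

theorem sub_one_pow [Nontrivial W] (L : Module.End k W) {a : ℕ} (ha : a.Prime) (hak : (a : k) = 0) (h : L ^ a = 1) :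
    (L - 1) ^ a = 0 := by
  haveI : Fact a.Prime := ⟨ha⟩
  haveI : CharP k a := (CharP.charP_iff_prime_eq_zero ha).2 hak
  haveI : CharP (Module.End k W) a := charP_of_injective_algebraMap (algebraMap k _).injective a
  rw [sub_pow_char_of_commute _ (Commute.one_right L), one_pow, h, sub_self]

/-- the commutant of an operator -/
def Cm (S : Module.End k W) : Submodule k (Module.End k W) where
  carrier := {u | S * u = u * S}
  zero_mem' := by simp
  add_mem' := by intro a b ha hb; simp only [Set.mem_ofPred_eq, mul_add, add_mul] at *; rw [ha, hb]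
  smul_mem' := by intro c a ha; simp only [Set.mem_ofPred_eq, mul_smul_comm, smul_mul_assoc] at *; rw [ha]

theorem eig_count [IsAlgClosed k] (S : Module.End k W) {n : ℕ} (hn : (n : k) ≠ 0) (hS : S ^ n = 1) :
    ∃ (s : Finset k) (m : k → ℕ), s.card = n ∧ (∀ ζ : k, ζ ^ n = 1 → ζ ∈ s) ∧ ∑ ζ ∈ s, m ζ = finrank k W ∧
      finrank k (Cm S) = ∑ ζ ∈ s, m ζ ^ 2 ∧ (∀ ζ, (∀ v, S v = ζ • v → v = 0) → m ζ = 0) ∧
      ((∀ v w, S v = v → S w = w → ∀ φ : W →ₗ[k] k, φ v = 1 → φ w = 0 → w = 0) → m 1 ≤ 1) := by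
  classical
  obtain ⟨b, θ, hθ, hb⟩ := H6.exists_eigenbasis_of_pow_eq_one S hn hS
  have hpos : 0 < n := Nat.pos_of_ne_zero (by rintro rfl; simp at hn)
  obtain ⟨s, hs1, hs2⟩ := Infinite.exists_superset_card_eq (Polynomial.nthRootsFinset n (1 : k)) n
    ((Multiset.toFinset_card_le _).trans (Polynomial.card_nthRoots _ _))
  have hmem : ∀ ζ : k, ζ ^ n = 1 → ζ ∈ s := fun ζ h => hs1 ((Polynomial.mem_nthRootsFinset hpos 1).2 h)
  refine ⟨s, fun ζ => (Finset.univ.filter fun i => θ i = ζ).card, hs2, hmem, ?_,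
    finrank_commutant_of_eigenbasis b θ S hb _ (fun _ => Iff.rfl) s (fun i => hmem _ (hθ i)), fun ζ h => ?_,
    fun h => ?_⟩
  · rw [← Finset.card_eq_sum_card_fiberwise (fun i _ => hmem _ (hθ i))]; simp
  · rw [Finset.card_eq_zero, Finset.filter_eq_empty_iff]
    intro i _ hi
    exact b.ne_zero i (h _ (by rw [hb, hi]))
  · rw [Finset.card_le_one]
    intro i hi j hj
    rw [Finset.mem_filter] at hi hj
    by_contra hne
    exact b.ne_zero j (h (b i) (b j) (by rw [hb, hi.2, one_smul]) (by rw [hb, hj.2, one_smul]) (b.coord i)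
      (by simp) (by simp [Finsupp.single_apply, Ne.symm hne]))

theorem la1 [IsAlgClosed k] (S : Module.End k W) {r : ℕ} (hr : 1 < r) (hn : (r : k) ≠ 0) (hS : S ^ r = 1)
    (hf : r + finrank k W ^ 2 = r * finrank k (Cm S) + 1)
    (h : ∀ v w, S v = v → S w = w → ∀ φ : W →ₗ[k] k, φ v = 1 → φ w = 0 → w = 0) : finrank k W + 1 ≤ 2 * r := by
  classical
  obtain ⟨s, m, h1, h2, h3, h4, -, h5⟩ := eig_count S hn hS
  have h6 := h5 h
  have h7 := h2 1 (one_pow _)
  have h8 := sq_sum_le_card_mul_sum_sq (s := s.erase 1) (f := m)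
  rw [h4, ← Finset.add_sum_erase s _ h7] at hf
  rw [← Finset.add_sum_erase s _ h7] at h3
  rw [Finset.card_erase_of_mem h7, h1] at h8
  obtain ⟨r, rfl⟩ : ∃ r', r = r' + 1 := ⟨r - 1, by omega⟩
  rw [← h3] at hf ⊢
  simp only [Nat.add_sub_cancel, Nat.cast_id] at h8
  generalize ∑ i ∈ s.erase 1, m i = A at *
  generalize ∑ i ∈ s.erase 1, m i ^ 2 = B at *
  by_contra hlt
  rcases Nat.le_one_iff_eq_zero_or_eq_one.1 h6 with e | e <;> rw [e] at hf hlt <;> nlinarith

theorem la2 (S X X' e : Module.End k W) {a r : ℕ} (ha : a.Prime) (hak : (a : k) = 0) (hr : 0 < r) (hX : X ^ a = 1)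
    (hXX : X * X' = 1) (hXX' : X' * X = 1) (hc : X * S = S * X) (he : ∀ u, S * u = u * S → e * u = u * e)
    (he1 : ∀ v, S v = v → e v = v) (heS : e * S = e) (heX : e * X = e) (hXe : X * e = e)
    (h1 : r + finrank k W ^ 2 = r * finrank k (Cm S) + 1)
    (h2 : a * r + finrank k W ^ 2 = a * r * finrank k (Cm (X * S)) + 1) (v w : W) (hv : S v = v) (hw : S w = w)
    (φ : W →ₗ[k] k) (hφv : φ v = 1) (hφw : φ w = 0) : w = 0 := by
  by_contra hw0
  have hc' : X' * S = S * X' := by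
    calc X' * S = X' * (S * X) * X' := by rw [mul_assoc, mul_assoc, hXX, mul_one]
      _ = _ := by rw [← hc, ← mul_assoc, hXX', one_mul]
  have heX' : e * X' = e := by conv_lhs => rw [← heX, mul_assoc, hXX, mul_one]
  let L : Module.End k (Cm S) := ((LinearMap.mulLeft k X) ∘ₗ (LinearMap.mulRight k X')).restrict (fun u hu => by
    change S * (X * (u * X')) = X * (u * X') * S
    rw [← mul_assoc, ← hc, mul_assoc, ← mul_assoc S, (show S * u = u * S from hu), mul_assoc, ← hc', mul_assoc,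
      mul_assoc])
  have hL : ∀ u : Cm S, ((L u : Cm S) : Module.End k W) = X * (u * X') := fun u => rfl
  have hLn : ∀ n (u : Cm S), (((L ^ n) u : Cm S) : Module.End k W) = X ^ n * (u * X' ^ n) := by
    intro n
    induction n with
    | zero => simp
    | succ n ih => intro u; rw [pow_succ', Module.End.mul_apply, hL, ih, pow_succ', pow_succ X']; simp only [mul_assoc]
  have hX' : X' ^ a = 1 := by
    have := (Commute.mul_pow (show Commute X X' from hXX.trans hXX'.symm) a)
    rwa [hXX, one_pow, hX, one_mul, eq_comm] at this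
  haveI : Nontrivial W := ⟨⟨w, 0, hw0⟩⟩
  haveI : Nontrivial (Cm S) := ⟨⟨⟨1, by change S * 1 = 1 * S; simp⟩, 0, fun h => one_ne_zero (congrArg Subtype.val h)⟩⟩
  obtain ⟨n, rfl⟩ : ∃ n, a = n + 1 := ⟨a - 1, by have := ha.pos; omega⟩
  have hN : (L - 1) ^ (n + 1) = 0 := by
    refine sub_one_pow L ha hak ?_
    ext1 u; apply Subtype.ext; rw [hLn, hX, hX']; simp
  let U₀ : Submodule k (Cm S) := LinearMap.ker ((LinearMap.mulLeft k e - 1) ∘ₗ (Cm S).subtype)
  have hU₀ : ∀ u : Cm S, u ∈ U₀ ↔ e * u = u := fun u => by simp [U₀, sub_eq_zero]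
  have h3 := nilp_bound (L - 1) hN U₀ (fun u hu => by
    rw [hU₀] at hu
    rw [LinearMap.mem_ker, LinearMap.sub_apply, sub_eq_zero]
    apply Subtype.ext
    rw [hL, ← hu, he _ u.2, mul_assoc, heX', ← he _ u.2, ← mul_assoc, hXe]; exact hu) (by
    rintro _ hu ⟨u, rfl⟩
    rw [hU₀] at hu
    apply Subtype.ext
    rw [← hu]
    change e * (X * (u * X') - u) = 0
    rw [mul_sub, ← mul_assoc, heX, ← mul_assoc, he _ u.2, mul_assoc, heX', sub_self])
  have h4 : finrank k (LinearMap.ker (L - 1)) ≤ finrank k (Cm (X * S)) := by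
    rw [← Submodule.finrank_map_subtype_eq]
    refine Submodule.finrank_mono ?_
    rintro _ ⟨u, hu, rfl⟩
    have h5 : X * (u * X') = u := congrArg Subtype.val (sub_eq_zero.1 (show L u - u = 0 from hu))
    change X * S * u = u * (X * S)
    rw [mul_assoc, (show S * u = u * S from u.2), ← mul_assoc, ← mul_assoc]
    congr 1
    conv_rhs => rw [← h5, mul_assoc, mul_assoc, hXX', mul_one]
  have hm : ∀ y, S y = y → (φ ∘ₗ e).smulRight y ∈ Cm S := fun y hy => by
    change S * _ = _ * S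
    ext z
    simp only [Module.End.mul_apply, LinearMap.smulRight_apply, map_smul, hy, LinearMap.comp_apply]
    rw [← Module.End.mul_apply e, heS]
  have hm' : ∀ y (hy : S y = y), (⟨_, hm y hy⟩ : Cm S) ∈ U₀ := fun y hy => by
    rw [hU₀]; ext z; simp [he1 y hy]
  have h5 : LinearIndependent k ![(⟨_, hm' v hv⟩ : U₀), ⟨_, hm' w hw⟩] := by
    refine LinearIndependent.of_comp ((Cm S).subtype ∘ₗ U₀.subtype) ?_
    have e : ⇑((Cm S).subtype ∘ₗ U₀.subtype) ∘ ![(⟨_, hm' v hv⟩ : U₀), ⟨_, hm' w hw⟩] =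
        ![(φ ∘ₗ e).smulRight v, (φ ∘ₗ e).smulRight w] := by
      funext i; fin_cases i <;> rfl
    rw [e, LinearIndependent.pair_iff]
    intro c c' h
    have h6 := congrArg (fun u : Module.End k W => u v) h
    simp [he1 v hv, hφv] at h6
    have h7 := congrArg φ h6
    simp [hφv, hφw] at h7
    subst h7
    simpa [hw0] using h6
  have h6 := h5.fintype_card_le_finrank
  simp only [Fintype.card_fin] at h6
  have h7 := ha.two_le
  nlinarith [Nat.mul_le_mul_left r h3, Nat.mul_le_mul_left (r * (n + 1)) h4, Nat.mul_le_mul_left (r * n) h6,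
    Nat.mul_le_mul_left r (show 1 ≤ n by omega)]

theorem la3 [IsAlgClosed k] (g : Module.End k W) {a r : ℕ} (ha : a.Prime) (hr : 0 < r) (hak : (a : k) ≠ 0)
    (hrk : (r : k) ≠ 0) (hg : g ^ (a * r) = 1)
    (h2 : a * r + finrank k W ^ 2 = a * r * finrank k (Cm g) + 1)
    (h : ∀ η : k, η ^ a = 1 → η ≠ 1 → ∀ v, g v = η • v → v = 0) :
    finrank k W = 1 ∨ (a = 2 ∧ finrank k W + 1 = 2 * r) := by
  classical
  obtain ⟨s, m, h1, h3, h4, h5, h6, -⟩ := eig_count g (n := a * r) (by push_cast; exact mul_ne_zero hak hrk) hg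
  haveI : NeZero (a : k) := ⟨hak⟩
  haveI : NeZero a := ⟨ha.ne_zero⟩
  obtain ⟨η, hη⟩ := HasEnoughRootsOfUnity.exists_primitiveRoot k a
  have hm : ∀ ζ : k, ζ ^ a = 1 → ζ ∈ s := fun ζ e => h3 ζ (by rw [pow_mul, e, one_pow])
  have e1 := h6 η (h η hη.pow_eq_one (hη.ne_one ha.one_lt))
  rw [h5] at h2
  obtain ⟨h7, h8⟩ := (arith_mult s m h1 h4 h2 (Nat.mul_pos ha.pos hr)).2 η (hm η hη.pow_eq_one) e1
  refine h7.imp_right fun h7 => ?_
  suffices a = 2 by subst this; exact ⟨rfl, h7⟩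
  by_contra hne
  have h9 : 2 < a := lt_of_le_of_ne ha.two_le (Ne.symm hne)
  have e2 : (η ^ 2) ^ a = 1 := by rw [← pow_mul, mul_comm, pow_mul, hη.pow_eq_one, one_pow]
  have e3 := h6 _ (h _ e2 (hη.pow_ne_one_of_pos_of_lt two_ne_zero h9))
  have e4 : η ^ 2 ≠ η := fun e => by
    have := hη.pow_inj h9 ha.one_lt (by rw [e, pow_one]); omega
  have h10 : η ^ 2 ∈ s.erase η := Finset.mem_erase.2 ⟨e4, hm _ e2⟩
  rw [← Finset.add_sum_erase s _ (hm η hη.pow_eq_one), ← Finset.add_sum_erase _ _ h10, e1, e3] at h4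
  have h11 := Finset.sum_le_card_nsmul ((s.erase η).erase (η ^ 2)) m 1
    (fun j hj => h8 j (Finset.mem_of_mem_erase (Finset.mem_of_mem_erase hj)))
  rw [Finset.card_erase_of_mem h10, Finset.card_erase_of_mem (hm η hη.pow_eq_one), h1, smul_eq_mul] at h11
  have : 2 ≤ a * r := by nlinarith
  generalize a * r = n at *
  change 0 + (0 + ((s.erase η).erase (η ^ 2)).sum m) = _ at h4
  omega

end LA

end Cfsg.Agent.TW
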