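import Cfsg.Agent.H22.Tw3

/-! Hall–Higman type theorems in a faithful representation. -/

set_option autoImplicit false
set_option linter.unusedSectionVars false
set_option linter.style.haveILetI false

namespace Cfsg.Agent.TW

open Cfsg Subgroup Cfsg.Agent.FT Cfsg.Agent.H28 Module
open scoped commutatorElement

universe u

variable {G : Type u} [Group G] [Finite G] {k : Type*} [Field k] {E : Type*} [AddCommGroup E] [Module k E]
  {ρ : Representation k G E} {A B H T P Q X Z Y V : Subgroup G} {b d g h s t x y z : G} {v w : E} {a p q r : ℕ}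
  {U : Submodule k E}

/-- the scalars -/
def Sc (ρ : Representation k G E) : Subgroup G where
  carrier := {y | ∃ c : k, c ≠ 0 ∧ ∀ v, ρ y v = c • v}
  one_mem' := ⟨1, one_ne_zero, by simp⟩
  mul_mem' := by
    rintro a b ⟨c, hc, ha'⟩ ⟨c', hc', hb'⟩
    exact ⟨c' * c, mul_ne_zero hc' hc, fun v => by rw [rho_mul, hb', map_smul, ha', smul_smul]⟩
  inv_mem' := by
    rintro a ⟨c, hc, ha'⟩
    refine ⟨c⁻¹, inv_ne_zero hc, fun v => ?_⟩
    have := congrArg (ρ a⁻¹) (ha' v)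
    rw [← rho_mul, inv_mul_cancel, rho_one, map_smul] at this
    conv_rhs => rw [this, smul_smul, inv_mul_cancel₀ hc, one_smul]

theorem eq_one_of_fix (hf : Function.Injective ρ) (h : ∀ v, ρ x v = v) : x = 1 :=
  hf (by rw [map_one]; exact LinearMap.ext h)

theorem Sc_le (hf : Function.Injective ρ) (X : Subgroup G) : Sc ρ ≤ C(X) := by
  rintro z ⟨c, -, hc⟩
  refine mem_cen.2 fun x _ => hf (LinearMap.ext fun v => ?_)
  rw [rho_mul, rho_mul, hc, hc, map_smul]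

theorem hsc_of (hf : Function.Injective ρ) (hZ : Z(P) ≤ Sc ρ) (U : Submodule k E) :
    ∀ z ∈ Z(P), z ≠ 1 → ∃ c : k, c ≠ 1 ∧ ∀ v ∈ U, ρ z v = c • v := by
  intro z hz h1
  obtain ⟨c, -, hc⟩ := hZ hz
  exact ⟨c, fun e => h1 (eq_one_of_fix hf fun v => by rw [hc, e, one_smul]), fun v _ => hc v⟩

theorem card_eq_prime [Nontrivial E] (hf : Function.Injective ρ) (hp : p.Prime) (hT : T ≤ Sc ρ) (h1 : T ≠ ⊥)
    (h : ∀ t ∈ T, t ^ p = 1) : #T = p := by
  choose c hc0 hc using fun t : T => hT t.2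
  obtain ⟨v, hv⟩ := exists_ne (0 : E)
  let f : T →* k :=
    { toFun := c
      map_one' := smul_left_injective k hv (by simp only; rw [← hc, coe_one, rho_one, one_smul])
      map_mul' := fun a b => smul_left_injective k hv (by
        simp only; rw [← hc, coe_mul, rho_mul, hc b, map_smul, hc a, smul_smul, mul_comm]) }
  have hi : Function.Injective f := fun a b e => Subtype.ext (hf (LinearMap.ext fun w => by
    rw [hc, hc]; exact congrArg (· • w) e))
  obtain ⟨x, rfl⟩ := cyc_iff.1 (isCyclic_of_injective_ringHom f hi)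
  rw [Nat.card_zpowers]
  exact orderOf_eq_prime_iff (hp := ⟨hp⟩).2 ⟨h x (mem_zpowers x), fun e => h1 (by rw [e, zpowers_one_eq_bot])⟩

theorem comm_pow' (c : ⁅s, y⁆ * s = s * ⁅s, y⁆) (n : ℕ) : ⁅s ^ n, y⁆ = ⁅s, y⁆ ^ n := by
  induction n with
  | zero => simp
  | succ n ih =>
    have h1 : ⁅s ^ (n + 1), y⁆ = s * ⁅s ^ n, y⁆ * s⁻¹ * ⁅s, y⁆ := by
      simp only [commutatorElement_def, pow_succ']; group
    rw [h1, ih, ← (Commute.pow_left c n).eq, mul_inv_cancel_right, pow_succ]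

theorem der_pow (hder : ⁅P, P⁆ ≤ C(P)) (h : ∀ x ∈ P, x ^ p ∈ C(P)) (hz : z ∈ ⁅P, P⁆) : z ^ p = 1 := by
  let Y : Subgroup G :=
    { carrier := {z | z ∈ Z(P) ∧ z ^ p = 1}
      one_mem' := ⟨one_mem _, one_pow _⟩
      mul_mem' := fun {a b} ha hb => ⟨mul_mem ha.1 hb.1, by
        rw [Commute.mul_pow ((ab_center P).comm ha.1 hb.1), ha.2, hb.2, one_mul]⟩
      inv_mem' := fun {a} ha => ⟨inv_mem ha.1, by rw [inv_pow, ha.2, inv_one]⟩ }
  have : ⁅P, P⁆ ≤ Y := commutator_le.2 fun a ha b hb => by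
    have h1 := commutator_mem_commutator ha hb
    refine ⟨⟨der_le P h1, hder h1⟩, ?_⟩
    rw [← comm_pow' (mem_cen.1 (hder h1) a ha).symm, commutatorElement_eq_one_iff_mul_comm]
    exact (mem_cen.1 (h a ha) b hb).symm
  exact (this hz).2

theorem reg_of (hy : y ∈ N(P)) (hc : (#P).Coprime (orderOf y)) (hder : ⁅P, P⁆ ≤ C(P)) (h1 : P ⊓ C[y] ≤ C(P))
    (hx : x ∈ P) (h : ⁅x, y⁆ ∈ C(P)) : x ∈ C(P) := by
  have := fpf (Y := C(P)) hy hc (norms_cent (le_nrm P)) h1 (inv_mem hx)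
    ⟨norms_cent (le_refl N(P)) hy, by convert h using 1; rw [commutatorElement_def]; group⟩
  exact (inv_mem_iff).1 this

theorem cen1_of_prime (hr : r.Prime) (hs : orderOf s = r) (hy : y ∈ ⟪s⟫) (h1 : y ≠ 1) : C[y] = C[s] := by
  rw [centralizer_eq_of_prime_card (by rwa [Nat.card_zpowers, hs]) hy h1, cen_zpowers]

theorem center_index (P : Subgroup G) : (center P).index = C(P).relIndex P := by
  rw [relIndex]; congr 1; ext x; exact mem_center_coe_iff

theorem cast_card (hP : PGrp p P) (hpk : (p : k) ≠ 0) : (#P : k) ≠ 0 := by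
  obtain ⟨n, h⟩ := hP.card
  rw [h]; push_cast; exact pow_ne_zero _ hpk

theorem cop_prime (hP : PGrp p P) (hr : r.Prime) (hpr : p ≠ r) : (#P).Coprime r :=
  (p'grp_iff_coprime hr).1 (hP.p' hpr)

theorem hhF [IsAlgClosed k] [FiniteDimensional k E] (hf : Function.Injective ρ) (hP : PGrp p P) (hpk : (p : k) ≠ 0)
    (hr : r.Prime) (hrk : (r : k) ≠ 0) (hs : orderOf s = r) (hpr : p ≠ r) (hsP : s ∈ N(P))
    (hder : ⁅P, P⁆ ≤ C(P)) (hZ : Z(P) ≤ Sc ρ) (hc : P ⊓ C[s] ≤ C(P)) (hU0 : U ≠ ⊥) (hU : RInv ρ (P ⊔ ⟪s⟫) U)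
    (h0 : U ⊓ rfix ρ ⟪s⟫ = ⊥) : ∃ d : ℕ, d ^ 2 = C(P).relIndex P ∧ (d = 1 ∨ d + 1 = r) := by
  have hcop := cop_prime hP hr hpr
  obtain ⟨d, h1, -, h2⟩ := class_two_cyclic ρ hU0 hU (cyc_zpowers s) (zpowers_le.2 hsP)
    (Cop.inf (by rwa [Cop, Nat.card_zpowers, hs])) hder
    (fun y hy z hz => mem_cen.1 (Sc_le hf ⊤ (hZ hz)) y trivial)
    (fun y hy h1 x hx h => reg_of (zpowers_le.2 hsP hy)
      (hcop.coprime_dvd_right (hs ▸ orderOf_dvd_of_mem_zpowers hy)) hder (by rwa [cen1_of_prime hr hs hy h1]) hx h)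
    (hsc_of hf hZ U) (cast_card hP hpk) (by rwa [Nat.card_zpowers, hs])
  rw [Nat.card_zpowers, hs] at h2
  exact ⟨d, by rwa [← center_index], h2 h0⟩

theorem dvdF {d : ℕ} (hZ : (#Z(P)).Prime) (hH : Cyc H) (hn : H ≤ N(P)) (hcop : Cop P H) (hder : ⁅P, P⁆ ≤ C(P))
    (hcen : ∀ y ∈ H, y ≠ 1 → P ⊓ C[y] = Z(P)) (hd : d ^ 2 = C(P).relIndex P) : #H ∣ d + 1 ∨ #H ∣ d - 1 := by
  obtain ⟨d', h1, h2, -⟩ := extraspecial_cyclic_aux (Representation.leftRegular ℂ G) hZ hH hn hcop hder hcen (by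
      intro h
      have : Z(P) = ⊥ := by
        rw [eq_bot_iff]
        intro z hz
        have h1 := congrArg (fun f : Module.End ℂ (MonoidAlgebra ℂ G) =>
          f (MonoidAlgebra.single 1 1)) (MonoidHom.mem_ker.1 (h hz))
        simp only [Representation.ofMulAction_single, smul_eq_mul, mul_one,
          Module.End.one_apply] at h1
        exact MonoidAlgebra.single_left_injective one_ne_zero h1
      exact ne_bot_of_prime_card hZ this)
    (Nat.cast_ne_zero.2 Nat.card_pos.ne') (Nat.cast_ne_zero.2 Nat.card_pos.ne')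
  rw [center_index, ← hd] at h1
  rwa [Nat.pow_left_injective two_ne_zero h1] at h2

theorem comm_formula [IsAlgClosed k] [FiniteDimensional k E] {W : Submodule k E} (hf : Function.Injective ρ)
    {L : Subgroup G} (hPL : P ≤ L) (hW : RSimple ρ P W) (hWL : RInv ρ L W) (hc : (#P : k) ≠ 0) (hZ : Z(P) ≤ Sc ρ)
    (hh : h ∈ L) (hn : h ∈ N(P)) (hi : P ⊓ ⟪h⟫ = ⊥)
    (hreg : ∀ y ∈ ⟪h⟫, y ≠ 1 → ∀ x ∈ P, ⁅x, y⁆ ∈ C(P) → x ∈ C(P)) :
    orderOf h + finrank k W ^ 2 = orderOf h * finrank k (Cm (subRep ρ L W hWL ⟨h, hh⟩)) + 1 := by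
  have hHL : ⟪h⟫ ≤ L := zpowers_le.2 hh
  have hz : ⟪(⟨h, hh⟩ : L)⟫ = ⟪h⟫.subgroupOf L := by
    apply Subgroup.map_injective L.subtype_injective
    rw [MonoidHom.map_zpowers, subgroupOf_map_subtype, inf_eq_left.2 hHL]; rfl
  have h3 := finrank_commutant_eq (subRep ρ L W hWL) (P := P.subgroupOf L) (H := ⟪(⟨h, hh⟩ : L)⟫)
    (Z := Z(P).subgroupOf L)
    (fun z hz => mem_center_coe_iff.2 (Sc_le hf L (hZ hz))) (fun _ h => h.1)
    (by
      refine ⟨?_, rInv_top _ _, fun X _ hX => ?_⟩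
      · haveI : Nontrivial W := Submodule.nontrivial_iff_ne_bot.2 hW.1
        exact top_ne_bot
      · have hi : RInv ρ P (X.map W.subtype) := by
          rintro g hg _ ⟨w, hw, rfl⟩
          exact ⟨_, hX ⟨g, hPL hg⟩ hg w hw, rfl⟩
        rcases hW.2.2 _ (Submodule.map_subtype_le W _) hi with h | h
        · left
          apply Submodule.map_injective_of_injective W.injective_subtype
          rw [h, Submodule.map_bot]
        · right
          apply Submodule.map_injective_of_injective W.injective_subtype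
          rw [h, Submodule.map_subtype_top])
    (hz ▸ subgroupOf_le_normalizer (zpowers_le.2 hn))
    (by
      rw [hz]
      intro y hy h1 a ha hc
      exact ⟨ha, hreg y hy (fun e => h1 (Subtype.ext e)) a ha hc.2⟩)
    (by
      rw [hz, eq_bot_iff]
      intro y hy
      have : (y : G) ∈ P ⊓ ⟪h⟫ := ⟨hy.2.1, hy.1⟩
      rw [hi] at this
      exact Subtype.ext this)
    (by rwa [card_subgroupOf_of_le hPL])
  have e : rfix ((subRep ρ L W hWL).linHom (subRep ρ L W hWL)) ⟪(⟨h, hh⟩ : L)⟫ = Cm (subRep ρ L W hWL ⟨h, hh⟩) := by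
    ext S
    rw [mem_rfix_linHom]
    refine ⟨fun h => h _ (mem_zpowers _), fun h g hg => ?_⟩
    obtain ⟨n, rfl⟩ := (mem_powers_iff_mem_zpowers.2 hg : g ∈ Submonoid.powers _)
    simp only [map_pow]
    exact Commute.pow_left h n
  rwa [e, Nat.card_zpowers, ← Subgroup.orderOf_coe] at h3

theorem hh2 [IsAlgClosed k] [FiniteDimensional k E] [Nontrivial E] (hf : Function.Injective ρ) (hP : PGrp p P)
    (hpk : (p : k) ≠ 0) (hr : r.Prime) (hrk : (r : k) ≠ 0) (hs : orderOf s = r) (ha : a.Prime) (hx : orderOf x = a)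
    (har : a ≠ r) (hpa : p ≠ a) (hpr : p ≠ r) (hsP : s ∈ N(P)) (hxP : x ∈ N(P)) (hxs : x * s = s * x)
    (hder : ⁅P, P⁆ ≤ C(P)) (hZ : Z(P) ≤ Sc ρ) (hcs : P ⊓ C[s] ≤ C(P)) (hcx : P ⊓ C[x] ≤ C(P))
    (hZp : (#Z(P)).Prime) (hne : ¬ P ≤ C(P)) (hfix : ∀ v, ρ s v = v → ρ x v = v) :
    a = 2 ∧ (2 * r - 1) ^ 2 = C(P).relIndex P := by
  have hcop : a.Coprime r := (Nat.coprime_primes ha hr).2 har
  have hc : Commute x s := hxs
  have hg : orderOf (x * s) = a * r := by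
    rw [hc.orderOf_mul_eq_mul_orderOf_of_coprime (by rwa [hx, hs]), hx, hs]
  have hgP := mul_mem hxP hsP
  have hxa : x ^ a = 1 := hx ▸ pow_orderOf_eq_one x
  have hsr : s ^ r = 1 := hs ▸ pow_orderOf_eq_one s
  have hPg : (#P).Coprime (a * r) := (cop_prime hP ha hpa).mul_right (cop_prime hP hr hpr)
  have hsg : s ∈ ⟪x * s⟫ := mem_of_pow_mem (n := a) (by
    have := pow_mem (mem_zpowers (x * s)) a
    rwa [hc.mul_pow, hxa, one_mul] at this) (by rwa [hs])
  have hxg : x ∈ ⟪x * s⟫ := by simpa using mul_mem (mem_zpowers (x * s)) (inv_mem hsg)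
  have hcen : ∀ y ∈ ⟪x * s⟫, y ≠ 1 → P ⊓ C[y] ≤ C(P) := by
    intro y hy h1
    obtain ⟨n, rfl⟩ := (mem_powers_iff_mem_zpowers.2 hy : y ∈ Submonoid.powers _)
    have e1 : ((x * s) ^ n) ^ r = x ^ (n * r) := by
      rw [← pow_mul, hc.mul_pow, mul_comm n, pow_mul s, hsr, one_pow, mul_one]
    have e2 : ((x * s) ^ n) ^ a = s ^ (n * a) := by
      rw [← pow_mul, hc.mul_pow, mul_comm n, pow_mul x, hxa, one_pow, one_mul]
    by_cases h2 : ((x * s) ^ n) ^ r = 1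
    · by_cases h3 : ((x * s) ^ n) ^ a = 1
      · exact absurd (orderOf_eq_one_iff.1 (Nat.eq_one_of_dvd_coprimes hcop (orderOf_dvd_of_pow_eq_one h3)
          (orderOf_dvd_of_pow_eq_one h2))) h1
      · refine (inf_le_inf_left _ ((cen1_le_cen1_pow _ a).trans ?_)).trans hcs
        rw [cen1_of_prime hr hs (e2 ▸ pow_mem (mem_zpowers s) _) h3]
    · refine (inf_le_inf_left _ ((cen1_le_cen1_pow _ r).trans ?_)).trans hcx
      rw [cen1_of_prime ha hx (e1 ▸ pow_mem (mem_zpowers x) _) h2]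
  have hreg : ∀ y ∈ ⟪x * s⟫, y ≠ 1 → ∀ z ∈ P, ⁅z, y⁆ ∈ C(P) → z ∈ C(P) := fun y hy h1 z hz h =>
    reg_of (zpowers_le.2 hgP hy) (hPg.coprime_dvd_right (hg ▸ orderOf_dvd_of_mem_zpowers hy)) hder
      (hcen y hy h1) hz h
  have hPH : Cop P ⟪x * s⟫ := by rwa [Cop, Nat.card_zpowers, hg]
  obtain ⟨W, -, hW, hWx⟩ := exists_rSimple_invariant ρ (U := ⊤) top_ne_bot (rInv_top _ _) hgP hder
    (fun z hz => mem_cen.1 (Sc_le hf ⊤ (hZ hz)) _ trivial) (hreg _ (mem_zpowers _)) (hsc_of hf hZ ⊤)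
    (cast_card hP hpk)
  haveI := hW.isIrreducible
  obtain ⟨h1, h2⟩ := class_two_aux hder (hsc_of hf hZ ⊤) hW.2.1 le_top
  have hd := finrank_sq_eq_index (subRep ρ P W hW.2.1) h1 h2
  rw [center_index] at hd
  have hd1 : finrank k W ≠ 1 := fun e => by
    have := one_lt_relIndex hne
    rw [← hd, e] at this; simp at this
  have hWL : RInv ρ (P ⊔ ⟪x * s⟫) W := hW.2.1.sup (rInv_zpowers hWx)
  have mS : s ∈ P ⊔ ⟪x * s⟫ := mem_sup_right hsg
  have mX : x ∈ P ⊔ ⟪x * s⟫ := mem_sup_right hxg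
  have f1 := comm_formula hf le_sup_left hW hWL (cast_card hP hpk) hZ mS hsP
    (hPH.mono_right (zpowers_le.2 hsg)).inf (fun y hy => hreg y (zpowers_le.2 hsg hy))
  have f2 := comm_formula hf le_sup_left hW hWL (cast_card hP hpk) hZ (mul_mem mX mS) hgP hPH.inf hreg
  rw [hs] at f1
  rw [hg] at f2
  set σ := subRep ρ _ W hWL with hσ
  have hσS : σ ⟨s, mS⟩ ^ r = 1 := by rw [← map_pow, ← map_one σ]; congr 1; exact Subtype.ext hsr
  have hfix' : ∀ v : W, σ ⟨s, mS⟩ v = v → σ ⟨x, mX⟩ v = v := fun v hv =>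
    Subtype.ext (hfix v (congrArg Subtype.val hv))
  have hXS : σ ⟨x * s, mul_mem mX mS⟩ = σ ⟨x, mX⟩ * σ ⟨s, mS⟩ := by rw [← map_mul]; rfl
  have hfin : a = 2 ∧ finrank k W + 1 = 2 * r → a = 2 ∧ (2 * r - 1) ^ 2 = C(P).relIndex P := fun h =>
    ⟨h.1, by rw [← hd, ← h.2, Nat.add_sub_cancel]⟩
  apply hfin
  by_cases hak : (a : k) = 0
  · have h3 : finrank k W + 1 ≤ 2 * r := by
      refine la1 _ hr.one_lt hrk hσS f1 ?_
      have hcm : σ ⟨x, mX⟩ * σ ⟨s, mS⟩ = σ ⟨s, mS⟩ * σ ⟨x, mX⟩ := by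
        rw [← map_mul, ← map_mul]; congr 1; exact Subtype.ext hxs
      have hsr' : (⟨s, mS⟩ : ↥(P ⊔ ⟪x * s⟫)) ^ r = 1 := Subtype.ext hsr
      have hXe : σ ⟨x, mX⟩ * ((r : k)⁻¹ • nm σ ⟨s, mS⟩ r) = (r : k)⁻¹ • nm σ ⟨s, mS⟩ r := by
        ext1 v
        rw [Module.End.mul_apply, LinearMap.smul_apply, map_smul, hfix' _ (nm_fixed hsr' v)]
      have he : ∀ u, σ ⟨s, mS⟩ * u = u * σ ⟨s, mS⟩ →
          ((r : k)⁻¹ • nm σ ⟨s, mS⟩ r) * u = u * ((r : k)⁻¹ • nm σ ⟨s, mS⟩ r) := by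
        intro u hu
        rw [smul_mul_assoc, mul_smul_comm, nm, Finset.sum_mul, Finset.mul_sum]
        congr 1
        exact Finset.sum_congr rfl fun j _ => by rw [map_pow]; exact Commute.pow_left hu j
      refine la2 _ (σ ⟨x, mX⟩) (σ ⟨x, mX⟩⁻¹) ((r : k)⁻¹ • nm σ ⟨s, mS⟩ r) ha hak hr.pos
        (by rw [← map_pow, ← map_one σ]; congr 1; exact Subtype.ext hxa) (by rw [← map_mul, mul_inv_cancel, map_one])
        (by rw [← map_mul, inv_mul_cancel, map_one]) hcm he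
        (fun v hv => by rw [LinearMap.smul_apply, nm_of_fixed hv, smul_smul, inv_mul_cancel₀ hrk, one_smul])
        ?_ (by rw [he _ hcm.symm, hXe]) hXe f1 (hXS ▸ f2)
      rw [he _ rfl]
      ext1 v
      rw [Module.End.mul_apply, LinearMap.smul_apply, map_smul, nm_fixed hsr']
    have h4 := dvdF hZp (cyc_zpowers _) (zpowers_le.2 hgP) hPH hder (fun y hy h1 => le_antisymm
      (le_inf inf_le_left (hcen y hy h1)) (le_inf inf_le_left ((hZ.trans (Sc_le hf ⟪y⟫)).trans (cen_zpowers y).le))) hd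
    rw [Nat.card_zpowers, hg] at h4
    have h5 := ha.two_le
    have h6 : 0 < finrank k W := by
      haveI : Nontrivial W := Submodule.nontrivial_iff_ne_bot.2 hW.1
      exact finrank_pos
    rcases h4 with h4 | h4
    · have := Nat.le_of_dvd (by omega) h4
      have h7 : a = 2 := by nlinarith [hr.pos]
      subst h7; exact ⟨rfl, by omega⟩
    · have := Nat.le_of_dvd (by omega) h4
      have h7 : 2 * r ≤ a * r := Nat.mul_le_mul_right r h5
      omega
  · refine (la3 _ ha hr.pos hak hrk (by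
      rw [← map_pow, ← map_one σ]; congr 1; exact Subtype.ext (hg ▸ pow_orderOf_eq_one (x * s))) f2 ?_).resolve_left hd1
    intro η hη h1 v hv
    have h3 : ρ (x * s) v = η • (v : E) := congrArg Subtype.val hv
    have h4 : ∀ n, ρ ((x * s) ^ n) v = η ^ n • (v : E) := by
      intro n
      induction n with
      | zero => simp
      | succ n ih => rw [pow_succ, rho_mul, h3, map_smul, ih, smul_smul, pow_succ']
    have h5 := h4 a
    rw [hc.mul_pow, hxa, one_mul, hη, one_smul, ← mem_rfix_zpowers] at h5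
    have h6 : ρ s v = v := h5 s (by rw [zpowers_pow_of_coprime (by rwa [hs])]; exact mem_zpowers s)
    rw [rho_mul, h6, hfix _ h6] at h3
    by_contra h0
    exact h1 (smul_left_injective k (fun e => h0 (Subtype.ext e)) (by simpa using h3.symm))

end Cfsg.Agent.TW
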