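import Cfsg.Agent.H22.Tw4

/-! The two exceptional configurations do not occur. -/

set_option autoImplicit false
set_option linter.unusedSectionVars false
set_option linter.style.haveILetI false

namespace Cfsg.Agent.TW

open Cfsg Subgroup Cfsg.Agent.FT Cfsg.Agent.H28 Cfsg.Agent.P22 Module
open scoped commutatorElement

universe u

variable {G : Type u} [Group G] [Finite G] {k : Type*} [Field k] {E : Type*} [AddCommGroup E] [Module k E]
  {ρ : Representation k G E} {A B H T P Q X Z Y V : Subgroup G} {b d g h s t x y z : G} {v w : E} {a p q r : ℕ}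
  {U : Submodule k E}

theorem orth (hder : ⁅P, P⁆ ≤ C(A)) : ⁅P, A⁆ ≤ C(P ⊓ C(A)) :=
  comm_eq_bot.1 (three_subgroup (by rw [comm_eq_bot'.2 inf_le_right, commutator_bot_left])
    (comm_eq_bot.2 ((commSS inf_le_left le_rfl).trans hder)))

theorem zc (hA : A ≤ N(P)) (hc : Cop P A) (hs : Sol P) (hder : ⁅P, P⁆ ≤ C(A)) : Z(⁅P, A⁆) ≤ C(P) := by
  rw [← (coprime_cent_prod hA hc hs).sup, (coprime_cent_prod hA hc hs).sup]
  conv_rhs => rw [← (coprime_cent_prod hA hc hs).sup]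
  exact centsY inf_le_right (inf_le_left.trans (orth hder))

theorem zc' (hA : A ≤ N(P)) (hc : Cop P A) (hs : Sol P) (hder : ⁅P, P⁆ ≤ C(A)) : Z(P ⊓ C(A)) ≤ C(P) := by
  have := centsY (X := Z(P ⊓ C(A))) (inf_le_left.trans (centsC (orth hder))) inf_le_right
  rwa [(coprime_cent_prod hA hc hs).sup] at this

theorem pgrp_zp (hr : r.Prime) (hs : orderOf s = r) : PGrp r ⟪s⟫ :=
  pGrp_of_card_prime hr (by rw [Nat.card_zpowers, hs])

theorem idx_mod (hr : r.Prime) (hs : orderOf s = r) (hc : (#T).Coprime r) (hT : T ≤ Y) (hn : s ∈ N(Y))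
    (h1 : Y ⊓ C[s] ≤ T) (h2 : T ≤ C[s]) : T.relIndex Y ≡ 1 [MOD r] := by
  have h := card_modEq_cen hr (pgrp_zp hr hs) (zpowers_le.2 hn)
  rw [cen_zpowers, le_antisymm h1 (le_inf hT h2), ← card_mul_relIndex hT] at h
  exact Nat.ModEq.cancel_left_of_coprime (by rw [Nat.gcd_comm]; exact hc) (by simpa using h)

theorem irr (hr : r.Prime) (hs : orderOf s = r) (hc : (#T).Coprime r) (hT : T ≤ Y) (hY : Y ≤ P) (hn : s ∈ N(Y))
    (hnP : s ∈ N(P)) (h1 : P ⊓ C[s] ≤ T) (h2 : T ≤ C[s])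
    (hD : ∀ i j, (r * i + 1) * (r * j + 1) = T.relIndex P → i = 0 ∨ j = 0) : Y = T ∨ Y = P := by
  have e1 := idx_mod hr hs hc hT hn ((inf_le_inf_right _ hY).trans h1) h2
  have e2 := idx_mod hr hs hc (hT.trans hY) hnP h1 h2
  rw [← relIndex_mul hT hY] at e2
  have e3 : Y.relIndex P ≡ 1 [MOD r] := by
    have := (e1.mul_right (Y.relIndex P)).symm.trans e2
    rwa [one_mul] at this
  have f : ∀ n, n ≡ 1 [MOD r] → n = r * (n / r) + 1 := fun n h => by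
    rw [Nat.ModEq, Nat.mod_eq_of_lt hr.one_lt] at h
    conv_lhs => rw [← Nat.div_add_mod n r, h]
  rcases hD (T.relIndex Y / r) (Y.relIndex P / r) (by rw [← f _ e1, ← f _ e3, relIndex_mul hT hY]) with h | h
  · left; have := f _ e1; rw [h] at this
    exact le_antisymm (relIndex_eq_one.1 (by simpa using this)) hT
  · right; have := f _ e3; rw [h] at this
    exact le_antisymm hY (relIndex_eq_one.1 (by simpa using this))

theorem cmt {α β : G} (hV : Ab V) (hs : s ∈ N(V)) (hi : ∀ Y ≤ V, s ∈ N(Y) → Y = ⊥ ∨ Y = V) (hα : α ∈ N(V))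
    (hβ : β ∈ N(V)) (hαs : α * s = s * α) (hβs : β * s = s * β) : ⁅α, β⁆ ∈ C(V) := by
  by_cases h0 : V = ⊥
  · rw [h0, cen_bot]; trivial
  obtain ⟨w, hw, hw1⟩ := exists_ne_one h0
  let Good : (G → G) → Prop := fun f => (∀ v ∈ V, f v ∈ V) ∧ (∀ u ∈ V, ∀ v ∈ V, f (u * v) = f u * f v) ∧
    (∀ v ∈ V, f (s * v * s⁻¹) = s * f v * s⁻¹) ∧ ∀ v ∈ V, f (β * v * β⁻¹) = β * f v * β⁻¹
  let Y : Subgroup G :=
    { carrier := {y | ∃ f, Good f ∧ f w = y}
      one_mem' := ⟨fun _ => 1, ⟨fun _ _ => one_mem _, by simp, by simp, by simp⟩, rfl⟩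
      mul_mem' := by
        rintro _ _ ⟨f, hf, rfl⟩ ⟨g, hg, rfl⟩
        refine ⟨fun v => f v * g v, ⟨fun v hv => mul_mem (hf.1 v hv) (hg.1 v hv), fun u hu v hv => ?_,
          fun v hv => ?_, fun v hv => ?_⟩, rfl⟩
        · simp only
          rw [hf.2.1 u hu v hv, hg.2.1 u hu v hv, mul_assoc, mul_assoc, ← mul_assoc (f v),
            hV.comm (hf.1 v hv) (hg.1 u hu), mul_assoc]
        · simp only; rw [hf.2.2.1 v hv, hg.2.2.1 v hv]; group
        · simp only; rw [hf.2.2.2 v hv, hg.2.2.2 v hv]; group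
      inv_mem' := by
        rintro _ ⟨f, hf, rfl⟩
        refine ⟨fun v => (f v)⁻¹, ⟨fun v hv => inv_mem (hf.1 v hv), fun u hu v hv => ?_,
          fun v hv => ?_, fun v hv => ?_⟩, rfl⟩
        · simp only; rw [hf.2.1 u hu v hv, hV.comm (hf.1 u hu) (hf.1 v hv), mul_inv_rev]
        · simp only; rw [hf.2.2.1 v hv]; group
        · simp only; rw [hf.2.2.2 v hv]; group }
  have hY : Y = V := by
    refine (hi Y (by rintro _ ⟨f, hf, rfl⟩; exact hf.1 w hw) (mem_nrm.2 ?_)).resolve_left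
      (ne_bot_of_mem (x := w) ⟨id, ⟨fun _ h => h, by simp, by simp, by simp⟩, rfl⟩ hw1)
    rintro _ ⟨f, hf, rfl⟩
    refine ⟨fun v => s * f v * s⁻¹, ⟨fun v hv => conj_mem hs (hf.1 v hv), fun u hu v hv => ?_,
      fun v hv => ?_, fun v hv => ?_⟩, rfl⟩
    · simp only; rw [hf.2.1 u hu v hv]; group
    · simp only; rw [hf.2.2.1 v hv]
    · simp only; rw [hf.2.2.2 v hv]
      calc _ = (s * β) * f v * (s * β)⁻¹ := by group
        _ = _ := by rw [← hβs]; group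
  obtain ⟨f, hf, hfw⟩ : α * w * α⁻¹ ∈ Y := hY ▸ conj_mem hα hw
  have hf1 : f 1 = 1 := by have := hf.2.1 1 (one_mem _) 1 (one_mem _); simpa using this
  let Y' : Subgroup G :=
    { carrier := {v | v ∈ V ∧ f v = α * v * α⁻¹}
      one_mem' := ⟨one_mem _, by simp [hf1]⟩
      mul_mem' := fun {u v} hu hv => ⟨mul_mem hu.1 hv.1, by rw [hf.2.1 u hu.1 v hv.1, hu.2, hv.2]; group⟩
      inv_mem' := fun {u} hu => ⟨inv_mem hu.1, by
        have := hf.2.1 u hu.1 _ (inv_mem hu.1)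
        rw [mul_inv_cancel, hf1, hu.2] at this
        rw [eq_inv_of_mul_eq_one_right this.symm]; group⟩ }
  have hY' : Y' = V := by
    refine (hi Y' (fun _ h => h.1) (mem_nrm.2 fun v hv => ⟨conj_mem hs hv.1, ?_⟩)).resolve_left
      (ne_bot_of_mem (x := w) ⟨hw, hfw⟩ hw1)
    rw [hf.2.2.1 v hv.1, hv.2]
    calc _ = (s * α) * v * (s * α)⁻¹ := by group
      _ = _ := by rw [← hαs]; group
  refine mem_cen.2 fun v hv => ?_
  have k1 : ∀ u ∈ V, f u = α * u * α⁻¹ := fun u hu => (hY' ▸ hu : u ∈ Y').2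
  have h5 := hf.2.2.2 _ (conj_mem' (mul_mem hβ hα) hv)
  rw [k1 _ (conj_mem hβ (conj_mem' (mul_mem hβ hα) hv)), k1 _ (conj_mem' (mul_mem hβ hα) hv)] at h5
  rw [commutatorElement_def]
  calc v * (α * β * α⁻¹ * β⁻¹) = (β * (α * ((β * α)⁻¹ * v * (β * α)) * α⁻¹) * β⁻¹) * (α * β * α⁻¹ * β⁻¹) := by group
    _ = _ := by rw [← h5]; group

theorem til_cen (hU : X ≤ V) : til V X ⊓ C(til V V) = til V (X ⊓ C(V)) := by
  refine le_antisymm ?_ (pmap_subcent_le _ _ _)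
  obtain ⟨W, h1, h2⟩ := exists_til (inf_le_left : til V X ⊓ C(til V V) ≤ _) hU
  have h3 : til V W ≤ C(til V V) := h2 ▸ inf_le_right
  rw [pmap_cents_iff (h1.trans hU) le_rfl, pker_emb, le_bot_iff, comm_eq_bot] at h3
  rw [← h2]
  exact pmap_mono _ (le_inf h1 h3)

theorem three_pow (d : ℕ) : d ^ 2 < 3 ^ d := by
  induction d with
  | zero => simp
  | succ d ih =>
    rcases Nat.lt_or_ge d 2 with h | h
    · interval_cases d <;> simp
    · rw [pow_succ 3]; nlinarith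

theorem order_act (hr : r.Prime) (hs : orderOf s = r) (hsP : s ∈ N(P)) (h : s ∉ C(P)) :
    orderOf (pfun (act P) s) = r := by
  refine ((Nat.dvd_prime hr).1 (hs ▸ orderOf_pfun_dvd _ s)).resolve_left fun e => h ?_
  rwa [orderOf_eq_one_iff, pfun_eq_one_iff hsP, pker_act] at e

theorem abs_cen [FiniteDimensional k E] (hf : Function.Injective ρ) (hT : PGrp p T) (hpk : (p : k) ≠ 0)
    (hr : r.Prime) (hs : orderOf s = r) (hpr : p ≠ r) (hab : Ab T) (hn : s ∈ N(T)) (h0 : rfix ρ ⟪s⟫ = ⊥) :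
    T ≤ C(⟪s⟫) := by
  have hn' := zpowers_le.2 hn
  have := le_ker_of_rfix_eq_bot ρ ⁅T, ⟪s⟫⁆ ⟪s⟫ (norm_comm_right _ _) (semiReg_iff.2 fun y hy h1 => by
    rw [cen1_of_prime hr hs hy h1, ← cen_zpowers]
    exact coprime_abel_cent_TI hn' (hT.cop_of_ne (pgrp_zp hr hs) hpr) hab)
    (cast_card (hT.mono (comm_le_left hn')) hpk) h0
  rwa [(MonoidHom.ker_eq_bot_iff ρ).2 hf, le_bot_iff, comm_eq_bot] at this

theorem exc [IsAlgClosed k] [FiniteDimensional k E] [Nontrivial E] (hf : Function.Injective ρ) (hP : PGrp p P)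
    (hp : p.Prime) (hpk : (p : k) ≠ 0) (hr : r.Prime) (hrk : (r : k) ≠ 0) (hs : orderOf s = r) (hpr : p ≠ r)
    (hsP : s ∈ N(P)) (hder : ⁅P, P⁆ ≤ Sc ρ) (hexp : ∀ x ∈ P, x ^ p ∈ C(P)) (hB : PGrp a B) (hpa : p ≠ a)
    (har : a ≠ r) (hBP : B ≤ N(P)) (hsB : s ∈ N(B)) (hBB : ⁅B, B⁆ ≤ C(P)) (hPB : P ⊓ C(B) ≤ C(P))
    (h0 : rfix ρ ⟪s⟫ = ⊥) : ⁅P, ⟪s⟫⁆ ≤ C(P) := by
  by_contra hne
  have hR := pgrp_zp hr hs
  have hsP' := zpowers_le.2 hsP
  have hsB' := zpowers_le.2 hsB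
  have hPR : Cop P ⟪s⟫ := hP.cop_of_ne hR hpr
  set P₁ := ⁅P, ⟪s⟫⁆ with hP₁
  have h1P : P₁ ≤ P := comm_le_left hsP'
  have hP1 := hP.mono h1P
  have hs1 : ⟪s⟫ ≤ N(P₁) := norm_comm_right _ _
  have hC1 : P₁ ⊓ C(⟪s⟫) ≤ ⁅P, P⁆ := coprime_cent_comm_le_der hsP' hPR
  have hTs : Z(P₁) ≤ C(⟪s⟫) := abs_cen hf (hP1.inf_left _) hpk hr hs hpr (ab_center _)
    (norms_center hs1 (mem_zpowers s)) h0
  have hT : Z(P₁) ≤ ⁅P, P⁆ := (le_inf inf_le_left hTs).trans hC1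
  have hc1 : P₁ ⊓ C[s] ≤ C(P₁) := by rw [← cen_zpowers]; exact hC1.trans (hder.trans (Sc_le hf _))
  have hd1 : ⁅P₁, P₁⁆ ≤ C(P₁) := (der_mono h1P).trans (hder.trans (Sc_le hf _))
  have hne1 : ¬ P₁ ≤ C(P₁) := fun e => hne ((le_inf le_rfl e).trans (zc hsP' hPR hP.sol (hder.trans (Sc_le hf _))))
  obtain ⟨d, hd, hd'⟩ := hhF hf hP1 hpk hr hrk hs hpr (hs1 (mem_zpowers s)) hd1 (hT.trans hder) hc1
    (U := ⊤) top_ne_bot (rInv_top _ _) (by rw [h0, inf_bot_eq])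
  have hd2 : 1 < d ^ 2 := hd ▸ one_lt_relIndex hne1
  have hd3 : 2 ≤ d := by by_contra hlt; interval_cases d <;> simp at hd2
  replace hd' : d + 1 = r := hd'.resolve_left (by omega)
  by_cases hB1 : ⁅B, ⟪s⟫⁆ ≤ C(P)
  · have hZp : #Z(P₁) = p := card_eq_prime hf hp (hT.trans hder)
      (hP1.center_ne_bot fun e => hne1 (e ▸ bot_le)) fun t ht => der_pow (hder.trans (Sc_le hf _)) hexp (hT ht)
    obtain ⟨b, hb, hb'⟩ : ∃ b ∈ B ⊓ C(⟪s⟫), b ∉ C(P₁) := by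
      by_contra hc
      push Not at hc
      have : B ≤ C(P₁) := by
        rw [← (coprime_cent_prod hsB' (hB.cop_of_ne hR har) hB.sol).sup]
        exact sup_le (hB1.trans (cen_anti h1P)) hc
      exact hne ((le_inf h1P (centsC this)).trans hPB)
    have hbs : Commute b s := (mem_cen.1 hb.2 s (mem_zpowers s)).symm
    have hb1 : b ∈ N(P₁) := normsR (le_refl ⟪b⟫ |>.trans (zpowers_le.2 (hBP hb.1)))
      (cents_norm (zpowers_le.2 hb.2)) (mem_zpowers b)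
    have hbr : (orderOf b).Coprime r := (p'elt_iff_coprime hr).1 ((hB.p' har).piElt hb.1)
    have hsg : s ∈ ⟪b * s⟫ := mem_of_pow_mem (n := orderOf b) (by
      have := pow_mem (mem_zpowers (b * s)) (orderOf b)
      rwa [hbs.mul_pow, pow_orderOf_eq_one, one_mul] at this) (by rwa [hs])
    have hbg : b ∈ ⟪b * s⟫ := by simpa using mul_mem (mem_zpowers (b * s)) (inv_mem hsg)
    have hg1 : ⟪b * s⟫ ≤ N(P₁) := zpowers_le.2 (mul_mem hb1 (hs1 (mem_zpowers s)))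
    have hgp : PiGrp {p}ᶜ ⟪b * s⟫ :=
      (((hB.p' hpa.symm).piElt hb.1).mul ((hR.p' hpr.symm).piElt (mem_zpowers s)) hbs).zpowers
    have e1 := til_cen (le_refl P₁)
    have e2 : #Z(til P₁ P₁) = #Z(P₁) := by rw [e1, card_til inf_le_left]
    have h4 := dvdF (P := til P₁ P₁) (H := bar P₁ ⟪b * s⟫) (d := d) (by rwa [e2, hZp]) ((cyc_zpowers _).pmap _)
      (bar_norms _ _) ((hP1.pmap _).cop (hgp.pmap _))
      (by rw [← pmap_comm _ le_rfl le_rfl]; exact pmap_cents _ hd1)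
      (by
        intro y hy h1
        obtain ⟨g, hg, hgN, rfl⟩ := mem_pmap.1 hy
        rw [← cen_zpowers, ← pmap_zpowers _ hgN, til_subcent le_rfl (zpowers_le.2 hgN), e1]
        congr 1
        have hgs : g ∈ C[s] := (ab_zpowers _).le_cen1 hsg hg
        refine (irr hr hs (cop_prime (hP1.inf_left _) hr hpr) (le_inf inf_le_left ((hT.trans hder).trans (Sc_le hf _)))
          inf_le_left (norms_subcent hs1 (cents_norm (by rwa [cen_zpowers, zpowers_le, cen1_comm])) (mem_zpowers s))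
          (hs1 (mem_zpowers s)) (le_inf inf_le_left hc1) (by rwa [← cen_zpowers]) fun i j e => ?_).resolve_right
          fun e => h1 ?_
        · rw [inf_comm, inf_relIndex_right, ← hd] at e
          by_contra hc
          push Not at hc
          have := Nat.pos_of_ne_zero hc.1
          have := Nat.pos_of_ne_zero hc.2
          nlinarith [Nat.mul_le_mul (Nat.mul_le_mul_left r ‹0 < i›) (Nat.mul_le_mul_left r ‹0 < j›)]
        · rw [pfun_eq_one_iff hgN, pker_act]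
          exact centsC (inf_eq_left.1 e) (mem_zpowers g))
      (by
        have f1 := card_inf_mul_relIndex C(til P₁ P₁) (til P₁ P₁)
        have f2 := card_inf_mul_relIndex C(P₁) P₁
        rw [inf_comm, e2, card_til le_rfl, ← f2, inf_comm] at f1
        rw [hd]; exact (Nat.eq_of_mul_eq_mul_left (card_pos _) f1).symm)
    have h5 : r ∣ #(bar P₁ ⟪b * s⟫) := by
      rw [← order_act hr hs (hs1 (mem_zpowers s)) fun e => hne1 ?_]
      · exact orderOf_dvd_natCard _ (mem_pmap_of_mem _ (hs1 (mem_zpowers s)) hsg)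
      · have := coprime_commGid hsP' hPR
        rw [← hP₁, comm_eq_bot'.2 (zpowers_le.2 e)] at this
        exact this ▸ bot_le
    have h6' : orderOf (pfun (act P₁) b) ≠ 1 := fun e => hb' (by
      rwa [orderOf_eq_one_iff, pfun_eq_one_iff hb1, pker_act] at e)
    have h6 : a ∣ #(bar P₁ ⟪b * s⟫) :=
      (PiNat.dvd_of_ne_one ((hB.piElt hb.1).pfun _) h6').trans (orderOf_dvd_natCard _ (mem_pmap_of_mem _ hb1 hbg))
    have ha : a.Prime := PiNat.prime_of_ne_one ((hB.piElt hb.1).pfun _) h6'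
    have h7 := Nat.Coprime.mul_dvd_of_dvd_of_dvd ((Nat.coprime_primes ha hr).2 har) h6 h5
    have h8 : 2 * r ≤ a * r := Nat.mul_le_mul_right r ha.two_le
    rcases h4 with h4 | h4 <;> have := Nat.le_of_dvd (by omega) (h7.trans h4) <;> omega
  · set B₁ := ⁅B, ⟪s⟫⁆ with hB₁
    have hB1B : B₁ ≤ B := comm_le_left hsB'
    have hB1P := hB1B.trans hBP
    have hPB1 : Cop P B₁ := hP.cop_of_ne (hB.mono hB1B) hpa
    set P₂ := ⁅P, B₁⁆ with hP₂
    have h2P : P₂ ≤ P := comm_le_left hB1P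
    have hP2 := hP.mono h2P
    have hs2 : ⟪s⟫ ≤ N(P₂) := normsR hsP' (norm_comm_right _ _)
    have hsC : s ∉ C(P) := fun e => hne (by rw [hP₁, comm_eq_bot'.2 (zpowers_le.2 e)]; exact bot_le)
    have ho := order_act hr hs hsP hsC
    have hT2 : P₂ ⊓ C(B₁) ≤ Sc ρ := (coprime_cent_comm_le_der hB1P hPB1).trans hder
    have hw := wielandt_card (K := bar P B₁) (R := bar P ⟪s⟫) (U := til P P₂) (pmap_norms _ (norm_comm_right _ _))
      (semiReg_iff.2 fun y hy h1 => by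
        rw [bar, pmap_zpowers _ hsP] at hy
        rw [cen1_of_prime hr ho hy h1, ← cen_zpowers, ← pmap_zpowers _ hsP, bar, hB₁, pmap_comm _ hBP hsP']
        exact coprime_abel_cent_TI (pmap_norms _ hsB') ((hB.cop_of_ne hR har).pmap _)
          ((ab_pmap_iff hBP).2 (by rwa [pker_act])))
      (sup_le ((bar_norms_iff hB1P h2P).2 (norm_comm_right _ _)) ((bar_norms_iff hsP' h2P).2 hs2))
      (hP2.pmap _).sol
      ((hP2.pmap _).cop ((((hB.mono hB1B).p' hpa.symm).pmap _).sup ((hR.p' hpr.symm).pmap _)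
        (pmap_norms _ (norm_comm_right _ _))))
    rw [← pmap_sup _ hB1P hsP', til_subcent h2P (sup_le hB1P hsP'), til_subcent h2P hsP', til_subcent h2P hB1P,
      card_til (inf_le_left.trans h2P), card_til (inf_le_left.trans h2P), card_til (inf_le_left.trans h2P),
      card_til h2P, bar, pmap_zpowers _ hsP, Nat.card_zpowers, ho, cen_sup, ← inf_assoc,
      inf_eq_left.2 (hT2.trans (Sc_le hf _))] at hw
    have hTC : P₂ ⊓ C(B₁) ≤ P₂ ⊓ C(⟪s⟫) := le_inf inf_le_left (hT2.trans (Sc_le hf _))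
    have hm := coprime_cent_prod hs2 (hPR.mono_left h2P) hP2.sol
    have hi : (P₂ ⊓ C(⟪s⟫)).relIndex P₂ ≤ d ^ 2 := by
      have h3 : ⁅P₂, ⟪s⟫⁆ ≤ P₁ := commSS h2P le_rfl
      rw [hm.relIndex_right, hd]
      refine le_trans (Nat.le_of_dvd (relIndex_pos _ _) (relIndex_dvd_of_le (A := C(P₁) ⊓ ⁅P₂, ⟪s⟫⁆)
        (le_inf (inf_le_right.trans hm.left) ((le_inf (inf_le_right.trans h3) inf_le_left).trans hTs)) _)) ?_
      rw [inf_relIndex_right]
      exact relIndex_le_of_le_right h3 (relIndex_pos _ _).ne'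
    rw [← card_mul_relIndex (inf_le_left : P₂ ⊓ C(⟪s⟫) ≤ P₂), ← card_mul_relIndex hTC, ← hd'] at hw
    have hz := card_pos (P₂ ⊓ C(B₁))
    have hc' := relIndex_pos (P₂ ⊓ C(B₁)) (P₂ ⊓ C(⟪s⟫))
    have hcase : ¬ P₂ ⊓ C(⟪s⟫) ≤ P₂ ⊓ C(B₁) → ¬ Ab (P₂ ⊓ C(⟪s⟫)) := fun h1 hab => h1 (by
      have h3 : P₂ ⊓ C(⟪s⟫) ≤ Z(P₂) := le_inf inf_le_left ((le_inf le_rfl hab.le_cen).trans
        (zc' hs2 (hPR.mono_left h2P) hP2.sol ((der_mono h2P).trans (hder.trans (Sc_le hf _)))))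
      have h4 : ⟪s⟫ ≤ C(Z(P₂)) := centsC (abs_cen hf (hP2.inf_left _) hpk hr hs hpr (ab_center _)
        (norms_center hs2 (mem_zpowers s)) h0)
      have h5 : B₁ ≤ C(Z(P₂)) := (commSS le_rfl h4).trans (comm_le_right (norms_cent (norms_center
        (normsR hBP (norm_comm_left _ _)))))
      exact le_inf inf_le_left (h3.trans (centsC h5)))
    generalize #(P₂ ⊓ C(B₁)) = z at hw hz
    have h9 : (P₂ ⊓ C(⟪s⟫)).relIndex P₂ = (P₂ ⊓ C(B₁)).relIndex (P₂ ⊓ C(⟪s⟫)) ^ d := by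
      refine Nat.eq_of_mul_eq_mul_left (Nat.mul_pos (pow_pos hz (d + 2)) hc') ?_
      calc _ = z ^ (d + 1) * (z * (P₂ ⊓ C(B₁)).relIndex (P₂ ⊓ C(⟪s⟫)) * (P₂ ⊓ C(⟪s⟫)).relIndex P₂) := by ring
        _ = _ := by rw [hw]; ring
    by_cases h1 : P₂ ⊓ C(⟪s⟫) ≤ P₂ ⊓ C(B₁)
    · rw [relIndex_eq_one.2 h1, one_pow, relIndex_eq_one] at h9
      exact hB1 (coprime_cents_of_comm_cents hB1P hPB1 ((h9.trans h1).trans inf_le_right))
    · have h10 := one_lt_relIndex h1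
      by_cases h2 : (P₂ ⊓ C(B₁)).relIndex (P₂ ⊓ C(⟪s⟫)) = 2
      · have h3 : P₂ ⊓ C(B₁) ≤ Z(P₂ ⊓ C(⟪s⟫)) := le_inf hTC (hT2.trans (Sc_le hf _))
        exact hcase h1 (ab_of_cyc_quo h3 (cyc_quo_of_prime_relIndex (nml_of_le_center h3).nrm (h2 ▸ Nat.prime_two)))
      · have := Nat.pow_le_pow_left (show 3 ≤ (P₂ ⊓ C(B₁)).relIndex (P₂ ⊓ C(⟪s⟫)) by omega) d
        have := three_pow d
        omega

theorem top0 [IsAlgClosed k] [FiniteDimensional k E] [Nontrivial E] (hf : Function.Injective ρ) (hQ : PGrp q Q)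
    (hq : q.Prime) (hqk : (q : k) ≠ 0) (hr : r.Prime) (hrk : (r : k) ≠ 0) (hs : orderOf s = r) (hqr : q ≠ r)
    (hsQ : s ∈ N(Q)) (hder : ⁅Q, Q⁆ ≤ C(Q)) (hZ : Z(Q) ≤ Sc ρ) (hexp : ∀ x ∈ Q, x ^ q ∈ C(Q))
    (hcs : Q ⊓ C[s] ≤ C(Q)) (hB : PGrp a B) (hqa : q ≠ a) (har : a ≠ r) (hBQ : B ≤ N(Q)) (hBs : B ≤ C[s])
    (hAQ : A ≤ N(Q)) (hAs : A ≤ C[s]) (hBA : B ≤ ⁅B, A⁆) (hfix : ∀ b ∈ B, ∀ v, ρ s v = v → ρ b v = v)
    (hspan : ∀ F : Submodule k E, RInv ρ Q F → rfix ρ ⟪s⟫ ≤ F → F = ⊤) : B = ⊥ := by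
  by_contra hB0
  have hR := pgrp_zp hr hs
  have hsQ' := zpowers_le.2 hsQ
  have hder' : ⁅Q, Q⁆ ≤ Sc ρ := (le_inf (der_le Q) hder).trans hZ
  have hle : ∀ x ∈ B, rfix ρ ⟪s⟫ ≤ rfix ρ ⟪x⟫ := fun x hx v hv =>
    mem_rfix_zpowers.2 (hfix x hx v (mem_rfix_zpowers.1 hv))
  have hone : ∀ x ∈ B, rfix ρ ⟪x⟫ = ⊤ → x = 1 := fun x _ e =>
    eq_one_of_fix hf fun v => mem_rfix_zpowers.1 (e ▸ Submodule.mem_top)
  have hfa : ∀ x ∈ B, x ∈ C(Q) → x = 1 := fun x hx hc =>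
    hone x hx (hspan _ (rInv_rfix ρ (cents_norm (centsC (zpowers_le.2 hc)))) (hle x hx))
  obtain ⟨x, hxB, hx⟩ := hB.exists_elt hB0
  have ha := hB.prime hB0
  have hx1 : x ≠ 1 := fun e => by rw [e, orderOf_one] at hx; exact ha.one_lt.ne hx
  have hxQ := zpowers_le.2 (hBQ hxB)
  have hQx : Cop Q ⟪x⟫ := hQ.cop_of_ne (pgrp_zp ha hx) hqa
  have hxs : x * s = s * x := mem_cen1.1 (hBs hxB)
  have hsx : ⟪s⟫ ≤ C(⟪x⟫) := by rw [cen_zpowers, zpowers_le, cen1_comm]; exact hBs hxB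
  set Qx := ⁅Q, ⟪x⟫⁆ with hQx'
  have h1Q : Qx ≤ Q := comm_le_left hxQ
  have hZx : Z(Qx) ≤ Sc ρ :=
    (le_inf (inf_le_left.trans h1Q) (zc hxQ hQx hQ.sol (hder'.trans (Sc_le hf _)))).trans hZ
  have hne : ¬ Qx ≤ C(Qx) := fun e => hx1 (hfa x hxB (coprime_cents_of_comm_cents hxQ hQx
    (((le_inf le_rfl e).trans hZx).trans (Sc_le hf _)) (mem_zpowers x)))
  have hCx : Qx ⊓ C(⟪x⟫) ≤ ⁅Q, Q⁆ := coprime_cent_comm_le_der hxQ hQx
  obtain ⟨h2, hd⟩ := hh2 hf (hQ.mono h1Q) hqk hr hrk hs ha hx har hqa hqr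
    (normsR hsQ' (cents_norm hsx) (mem_zpowers s)) (norm_comm_right _ _ (mem_zpowers x)) hxs
    ((der_mono h1Q).trans (hder'.trans (Sc_le hf _))) hZx
    ((inf_le_inf_right _ h1Q).trans (hcs.trans (cen_anti h1Q)))
    (by rw [← cen_zpowers]; exact hCx.trans (hder'.trans (Sc_le hf _)))
    (by
      rw [card_eq_prime hf hq hZx ((hQ.mono h1Q).center_ne_bot fun e => hne (e ▸ bot_le))
        fun t ht => der_pow hder hexp (hCx ⟨ht.1, Sc_le hf _ (hZx ht)⟩)]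
      exact hq) hne (hfix x hxB)
  subst h2
  have hro : Odd r := hr.odd_of_ne_two har.symm
  have hY : Q ⊓ C(⟪x⟫) ≤ C(Q) := by
    set Y := Q ⊓ C(⟪x⟫) with hY
    have hsY : ⟪s⟫ ≤ N(Y) := norms_subcent hsQ' (cents_norm hsx)
    have hQY := hQ.inf_left C(⟪x⟫)
    obtain ⟨U, hU, hc⟩ := exists_rCompl ρ (Y ⊔ ⟪s⟫) (natCast_ne_zero_of_dvd
      (n := #Y * #⟪s⟫) (by
        rw [Nat.card_zpowers, hs]; push_cast; exact mul_ne_zero (cast_card hQY hqk) hrk) (card_sup_dvd hsY))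
      (rInv_rfix ρ (A := ⟪x⟫) (cents_norm (sup_le inf_le_right hsx)))
    have hZY : Z(Y) ≤ C(Q) := zc' hxQ hQx hQ.sol (hder'.trans (Sc_le hf _))
    obtain ⟨d, h3, h4⟩ := hhF hf hQY hqk hr hrk hs hqr (hsY (mem_zpowers s))
      ((der_mono inf_le_left).trans (hder'.trans (Sc_le hf _)))
      ((le_inf (inf_le_left.trans inf_le_left) hZY).trans hZ)
      ((inf_le_inf_right _ inf_le_left).trans (hcs.trans (cen_anti inf_le_left))) (U := U)
      (fun e => hx1 (hone x hxB (by simpa [e] using hc.sup_eq_top))) hU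
      (eq_bot_iff.2 ((inf_le_inf_left _ (hle x hxB)).trans (by rw [inf_comm, hc.inf_eq_bot])))
    rcases h4 with rfl | h4
    · exact (le_inf le_rfl (relIndex_eq_one.1 (h3.symm.trans (by norm_num)))).trans hZY
    · exfalso
      have h5 : 2 ∣ C(Y).relIndex Y := by
        rw [← h3]
        exact Dvd.dvd.pow (by obtain ⟨m, hm⟩ := hro; omega) two_ne_zero
      exact hqa ((hQY.relIndex _).eq_prime Nat.prime_two h5).symm
  have hm := coprime_cent_prod hxQ hQx hQ.sol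
  have hQe : C(Q).relIndex Q = (2 * r - 1) ^ 2 := by
    have e1 : MulEq Qx Z(Q) Q := hm.mono le_rfl h1Q (le_inf inf_le_left hY) inf_le_left
    rw [hd, ← inf_relIndex_right C(Q), inf_comm, e1.relIndex_right, ← inf_relIndex_right Z(Q),
      ← inf_relIndex_right C(Qx)]
    congr 1
    exact le_antisymm (inf_le_inf_right _ (inf_le_right.trans (cen_anti h1Q)))
      (le_inf (le_inf (inf_le_right.trans h1Q) ((inf_comm _ _).le.trans
        (zc hxQ hQx hQ.sol (hder'.trans (Sc_le hf _))))) inf_le_right)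
  have hK := center_nml Q
  have hnK : ∀ {X : Subgroup G}, X ≤ N(Q) → X ≤ N(Z(Q)) := norms_center
  have hirr : ∀ Y ≤ Q /ₛ Z(Q), coset(Z(Q), s) ∈ N(Y) → Y = ⊥ ∨ Y = Q /ₛ Z(Q) := by
    intro Y hY' hsY
    have h3 : ⟪s⟫ ≤ N(qpre(Z(Q), Y)) :=
      norms_qpre (hnK hsQ') (by rw [quo_zpowers (hnK hsQ' (mem_zpowers s))]; exact zpowers_le.2 hsY)
    rcases irr hr hs (cop_prime (hQ.inf_left _) hr hqr) (le_qpre Y) (qpre_le_of_le_quo inf_le_left hY')
      (h3 (mem_zpowers s)) hsQ (le_inf inf_le_left hcs) (by rw [← cen_zpowers]; exact hZ.trans (Sc_le hf _))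
      (fun i j e => by
        rw [inf_comm, inf_relIndex_right, hQe] at e
        by_contra hc
        push Not at hc
        have hi := Nat.pos_of_ne_zero hc.1
        have hj := Nat.pos_of_ne_zero hc.2
        obtain ⟨m, rfl⟩ := hro
        have e' : 2 * (2 * m + 1) - 1 = 4 * m + 1 := by omega
        rw [e'] at e
        have hodd : Odd ((4 * m + 1) ^ 2) := Odd.pow ⟨2 * m, by ring⟩
        rw [← e, Nat.odd_mul] at hodd
        have hi2 : 2 ≤ i := by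
          by_contra h; obtain rfl : i = 1 := by omega
          obtain ⟨n, hn⟩ := hodd.1; omega
        have hj2 : 2 ≤ j := by
          by_contra h; obtain rfl : j = 1 := by omega
          obtain ⟨n, hn⟩ := hodd.2; omega
        nlinarith [Nat.mul_le_mul (Nat.mul_le_mul_left (2 * m + 1) hi2) (Nat.mul_le_mul_left (2 * m + 1) hj2),
          Nat.mul_le_mul_left (2 * m + 1) hi2, Nat.mul_le_mul_left (2 * m + 1) hj2]) with h | h
    · left; rw [← quo_qpre Y, h, quo_self]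
    · right; rw [← quo_qpre Y, h]
  have hBA' : ⁅B, A⁆ /ₛ Z(Q) ≤ C(Q /ₛ Z(Q)) := by
    rw [quo_comm (hnK hBQ) (hnK hAQ), commutator_le]
    intro β' hβ' α' hα'
    obtain ⟨β, hβ, hβn, rfl⟩ := mem_quo.1 hβ'
    obtain ⟨α, hα, hαn, rfl⟩ := mem_quo.1 hα'
    have hsn := hnK hsQ' (mem_zpowers s)
    exact cmt (ab_quo_of_der_le (le_inf (der_le Q) hder)) (quo_norms _ hsQ' (mem_quo_of_mem hsn (mem_zpowers s))) hirr
      (quo_norms _ hBQ (mem_quo_of_mem hβn hβ)) (quo_norms _ hAQ (mem_quo_of_mem hαn hα))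
      (by rw [← coset_mul hβn hsn, ← coset_mul hsn hβn, mem_cen1.1 (hBs hβ)])
      (by rw [← coset_mul hαn hsn, ← coset_mul hsn hαn, mem_cen1.1 (hAs hα)])
  have := stable_factor_cent_quo hK (hnK hBQ) (hQ.cop_of_ne hB hqa) ((quo_mono _ hBA).trans hBA')
    (centsC (hZ.trans (Sc_le hf _)))
  exact hx1 (hfa x hxB (this hxB))

end Cfsg.Agent.TW
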