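import Cfsg.Agent.H22.Tw5

/-! The exceptional configurations on an invariant subspace. -/

set_option autoImplicit false
set_option linter.unusedSectionVars false
set_option linter.style.haveILetI false

namespace Cfsg.Agent.TW

open Cfsg Subgroup Cfsg.Agent.FT Cfsg.Agent.H28 Cfsg.Agent.P22 Module
open scoped commutatorElement

universe u

variable {G : Type u} [Group G] [Finite G] {k : Type*} [Field k] {E : Type*} [AddCommGroup E] [Module k E]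
  {ρ : Representation k G E} {A B D H T P Q X Z Y V : Subgroup G} {b d g h s t x y z : G} {v w μ : E} {a p q r : ℕ}
  {U W : Submodule k E} {ν : G → k} {Ω : Set E}

/-- the elements acting trivially on `U` -/
def Kr (ρ : Representation k G E) (U : Submodule k E) : Subgroup G where
  carrier := {g | ∀ v ∈ U, ρ g v = v}
  one_mem' := fun v _ => rho_one ρ v
  mul_mem' := fun ha hb v hv => by rw [rho_mul, hb v hv, ha v hv]
  inv_mem' := fun {a} ha v hv => by conv_lhs => rw [← ha v hv, ← rho_mul, inv_mul_cancel, rho_one]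

/-- the elements acting as scalars on `U` -/
def Su (ρ : Representation k G E) (U : Submodule k E) : Set G := {g | ∃ c : k, c ≠ 0 ∧ ∀ v ∈ U, ρ g v = c • v}

theorem Kr_anti (h : U ≤ W) : Kr ρ W ≤ Kr ρ U := fun _ hg v hv => hg v (h hv)

theorem nrm_Kr (hU : RInv ρ H U) : H ≤ N(Kr ρ U) := le_nrm_iff.2 fun g hg x hx v hv => by
  rw [rho_mul, rho_mul, hx _ (hU _ (inv_mem hg) v hv), ← rho_mul, mul_inv_cancel, rho_one]

theorem exists_img0 {M : Subgroup G} (σ : Representation k M E) :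
    ∃ (Γ : Type u) (_ : Group Γ) (_ : Finite Γ) (f : M →* Γ) (τ : Representation k Γ E),
      Function.Injective τ ∧ ∀ x : M, τ (f x) = σ x := by
  refine ⟨M ⧸ MonoidHom.ker σ, inferInstance, inferInstance, QuotientGroup.mk' _, quoRep σ _ le_rfl, ?_, fun x => rfl⟩
  rw [injective_iff_map_eq_one]
  intro x hx
  induction x using QuotientGroup.induction_on with
  | H x => exact (QuotientGroup.eq_one_iff x).2 hx

theorem exists_img (ρ : Representation k G E) (U : Submodule k E) :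
    ∃ (Γ : Type u) (_ : Group Γ) (_ : Finite Γ) (f : rstab ρ U →* Γ) (τ : Representation k Γ U),
      Function.Injective τ ∧ (∀ x ∈ rstab ρ U, ∀ v : U, (τ (pfun f x) v : E) = ρ x v) ∧
        pker f ≤ Kr ρ U ∧ rstab ρ U ⊓ Kr ρ U ≤ pker f := by
  obtain ⟨Γ, i1, i2, f, τ, hi, h⟩ := exists_img0 (subRep ρ (rstab ρ U) U (rInv_iff_le_rstab.2 le_rfl))
  have key : ∀ x ∈ rstab ρ U, ∀ v : U, (τ (pfun f x) v : E) = ρ x v := by
    intro x hx v
    rw [pfun_of_mem _ hx, h, subRep_apply]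
  refine ⟨Γ, i1, i2, f, τ, hi, key, fun x hx v hv => ?_, fun x hx => ?_⟩
  · have := key x (mem_pker.1 hx).1 ⟨v, hv⟩
    rw [(mem_pker.1 hx).2, rho_one] at this
    exact this.symm
  · exact mem_pker.2 ⟨hx.1, eq_one_of_fix hi fun v => Subtype.ext (by rw [key x hx.1, hx.2 v v.2])⟩

theorem order_img {Γ : Type u} [Group Γ] {M : Subgroup G} (f : M →* Γ) (hr : r.Prime) (hs : s ^ r = 1) (hM : s ∈ M)
    (h : s ∉ pker f) : orderOf (pfun f s) = r :=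
  haveI := Fact.mk hr
  orderOf_eq_prime (by rw [← pfun_pow f hM, hs, pfun_one]) fun e => h ((pfun_eq_one_iff hM).1 e)

theorem cop_zp (hP : PGrp p P) (hr : r.Prime) (hs : s ^ r = 1) (hpr : p ≠ r) : Cop P ⟪s⟫ :=
  hP.cop_of_ne (pElt_of_pow_eq_one hr hs).zpowers hpr

theorem excU [IsAlgClosed k] [FiniteDimensional k E] (hU : U ≠ ⊥) (hPU : RInv ρ P U) (hBU : RInv ρ B U)
    (hsU : RInv ρ ⟪s⟫ U) (hP : PGrp p P) (hp : p.Prime) (hpk : (p : k) ≠ 0) (hr : r.Prime) (hrk : (r : k) ≠ 0)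
    (hs : s ^ r = 1) (hpr : p ≠ r) (hsP : s ∈ N(P)) (hder : ∀ x ∈ ⁅P, P⁆, x ∈ Su ρ U) (hexp : ∀ x ∈ P, x ^ p ∈ Su ρ U)
    (hB : PGrp a B) (hpa : p ≠ a) (har : a ≠ r) (hBP : B ≤ N(P)) (hsB : s ∈ N(B)) (hBB : ⁅⁅B, B⁆, P⁆ ≤ Kr ρ U)
    (hPB : ∀ x ∈ P ⊓ C(B), x ∈ Su ρ U) (h0 : ∀ v ∈ U, ρ s v = v → v = 0) : ⁅⁅P, ⟪s⟫⁆, P⁆ ≤ Kr ρ U := by
  obtain ⟨Γ, _, _, f, τ, hτ, key, hk, hk'⟩ := exists_img ρ U
  haveI : Nontrivial U := Submodule.nontrivial_iff_ne_bot.2 hU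
  rw [rInv_iff_le_rstab] at hPU hBU hsU
  have hs' := hsU (mem_zpowers s)
  have hsc : ∀ x ∈ rstab ρ U, x ∈ Su ρ U → pfun f x ∈ Sc τ := fun x hx ⟨c, hc, h⟩ =>
    ⟨c, hc, fun v => Subtype.ext (by rw [key x hx, h v v.2]; rfl)⟩
  have hsc' : ∀ {X : Subgroup G}, (∀ x ∈ X, x ∈ Su ρ U) → pmap f X ≤ Sc τ := fun h u hu => by
    obtain ⟨x, hx, hx', rfl⟩ := mem_pmap.1 hu
    exact hsc x hx' (h x hx)
  have hn : ∀ {X : Subgroup G}, s ∈ N(X) → pfun f s ∈ N(pmap f X) := fun h =>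
    pmap_nrm_le f _ (mem_pmap_of_mem f hs' h)
  have := exc hτ (hP.pmap f) hp hpk hr hrk (order_img f hr hs hs' fun e => hU ((Submodule.eq_bot_iff _).2
      fun v hv => h0 v hv (hk e v hv))) hpr (hn hsP) (by rw [← pmap_comm f hPU hPU]; exact hsc' hder)
    (fun u hu => by
      obtain ⟨x, hx, hx', rfl⟩ := mem_pmap.1 hu
      rw [← pfun_pow f hx']
      exact Sc_le hτ _ (hsc _ (pow_mem hx' p) (hexp x hx))) (hB.pmap f) hpa har (pmap_norms f hBP) (hn hsB)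
    (by
      rw [← pmap_comm f hBU hBU, pmap_cents_iff (comm_le_of_le hBU hBU) hPU]
      exact (le_inf (comm_le_of_le (comm_le_of_le hBU hBU) hPU) hBB).trans hk')
    (by
      rw [← coprime_pmap_cent f hPU hBU hBP ((hP.cop_of_ne hB hpa).mono_left inf_le_left) (Or.inr hB.sol)]
      exact (hsc' hPB).trans (Sc_le hτ _))
    ((Submodule.eq_bot_iff _).2 fun v hv => Subtype.ext (h0 v v.2 (by rw [← key s hs', mem_rfix_zpowers.1 hv])))
  rw [← pmap_zpowers f hs', ← pmap_comm f hPU hsU, pmap_cents_iff (comm_le_of_le hPU hsU) hPU] at this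
  exact this.trans hk

theorem top0U [IsAlgClosed k] [FiniteDimensional k E] (hQU : RInv ρ Q U) (hBU : RInv ρ B U) (hAU : RInv ρ A U)
    (hsU : RInv ρ ⟪s⟫ U) (hQ : PGrp q Q) (hq : q.Prime) (hqk : (q : k) ≠ 0) (hr : r.Prime) (hrk : (r : k) ≠ 0)
    (hs : s ^ r = 1) (hqr : q ≠ r) (hsQ : s ∈ N(Q)) (hsK : s ∉ Kr ρ U) (hder : ∀ x ∈ ⁅Q, Q⁆, x ∈ Su ρ U)
    (hZ : ∀ x ∈ Q, (∀ y ∈ Q, ⁅x, y⁆ ∈ Kr ρ U) → x ∈ Su ρ U) (hexp : ∀ x ∈ Q, x ^ q ∈ Su ρ U)
    (hcs : ∀ x ∈ Q ⊓ C[s], x ∈ Su ρ U) (hB : PGrp a B) (hqa : q ≠ a) (har : a ≠ r) (hBQ : B ≤ N(Q)) (hBs : B ≤ C[s])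
    (hAQ : A ≤ N(Q)) (hAs : A ≤ C[s]) (hBA : B ≤ ⁅B, A⁆) (hfix : ∀ b ∈ B, ∀ v ∈ U, ρ s v = v → ρ b v = v)
    (hspan : ∀ F : Submodule k E, RInv ρ Q F → (∀ v ∈ U, ρ s v = v → v ∈ F) → U ≤ F) : B ≤ Kr ρ U := by
  obtain ⟨Γ, _, _, f, τ, hτ, key, hk, hk'⟩ := exists_img ρ U
  haveI : Nontrivial U := Submodule.nontrivial_iff_ne_bot.2 fun e => hsK fun v hv => by
    rw [e, Submodule.mem_bot] at hv; rw [hv, map_zero]
  rw [rInv_iff_le_rstab] at hQU hBU hsU hAU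
  have hs' := hsU (mem_zpowers s)
  have hsc : ∀ x ∈ rstab ρ U, x ∈ Su ρ U → pfun f x ∈ Sc τ := fun x hx ⟨c, hc, h⟩ =>
    ⟨c, hc, fun v => Subtype.ext (by rw [key x hx, h v v.2]; rfl)⟩
  have hsc' : ∀ {X : Subgroup G}, (∀ x ∈ X, x ∈ Su ρ U) → pmap f X ≤ Sc τ := fun h u hu => by
    obtain ⟨x, hx, hx', rfl⟩ := mem_pmap.1 hu
    exact hsc x hx' (h x hx)
  have hc : ∀ {X : Subgroup G}, X ≤ C[s] → pmap f X ≤ C[pfun f s] := fun h => (pmap_mono f h).trans (pmap_cen1_le f hs')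
  have := top0 (A := pmap f A) hτ (hQ.pmap f) hq hqk hr hrk (order_img f hr hs hs' fun e => hsK (hk e)) hqr
    (pmap_nrm_le f _ (mem_pmap_of_mem f hs' hsQ))
    (by rw [← pmap_comm f hQU hQU]; exact (hsc' hder).trans (Sc_le hτ _))
    (fun u hu => by
      obtain ⟨x, hx, hx', rfl⟩ := mem_pmap.1 hu.1
      refine hsc x hx' (hZ x hx fun y hy => hk ((pfun_eq_one_iff (hQU (der_le Q (commutator_mem_commutator hx hy)))).1 ?_))
      rw [pfun_comm f hx' (hQU hy), commutatorElement_eq_one_iff_mul_comm]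
      exact (mem_cen.1 hu.2 _ (mem_pmap_of_mem f (hQU hy) hy)).symm)
    (fun u hu => by
      obtain ⟨x, hx, hx', rfl⟩ := mem_pmap.1 hu
      rw [← pfun_pow f hx']
      exact Sc_le hτ _ (hsc _ (pow_mem hx' q) (hexp x hx)))
    (by
      rw [← cen_zpowers, ← pmap_zpowers f hs', ← coprime_pmap_cent f hQU hsU (zpowers_le.2 hsQ)
        ((cop_zp hQ hr hs hqr).mono_left inf_le_left) (Or.inr (sol_zpowers s)), cen_zpowers]
      exact (hsc' hcs).trans (Sc_le hτ _))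
    (hB.pmap f) hqa har (pmap_norms f hBQ) (hc hBs) (pmap_norms f hAQ) (hc hAs)
    (by rw [← pmap_comm f hBU hAU]; exact pmap_mono f hBA)
    (fun u hu v hv => by
      obtain ⟨x, hx, hx', rfl⟩ := mem_pmap.1 hu
      exact Subtype.ext (by rw [key x hx', hfix x hx v v.2 (by rw [← key s hs', hv])]))
    (fun F hF h => by
      have := hspan (F.map U.subtype) (by
        rintro x hx _ ⟨v, hv, rfl⟩
        exact ⟨_, hF _ (mem_pmap_of_mem f (hQU hx) hx) v hv, key x (hQU hx) v⟩) fun v hv e =>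
          ⟨⟨v, hv⟩, h (mem_rfix_zpowers.2 (Subtype.ext (by rw [key s hs', e]))), rfl⟩
      refine eq_top_iff.2 fun v _ => ?_
      obtain ⟨w, hw, e⟩ := this v.2
      rwa [← (Subtype.ext e : w = v)])
  exact ((pmap_eq_bot hBU).1 this).trans hk

end Cfsg.Agent.TW
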