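import Cfsg.Agent.H22.Tw6

/-! Weight spaces of the span of an invariant set of vectors; the step from one level of a tower to the next. -/

set_option autoImplicit false
set_option linter.unusedSectionVars false
set_option linter.style.haveILetI false

namespace Cfsg.Agent.TW

open Cfsg Subgroup Cfsg.Agent.FT Cfsg.Agent.H28 Cfsg.Agent.P22 Module
open scoped commutatorElement

universe u

variable {G : Type u} [Group G] [Finite G] {k : Type*} [Field k] {E : Type*} [AddCommGroup E] [Module k E]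
  {ρ : Representation k G E} {A B D H H' J K T P Q X Z Y V : Subgroup G} {b d g h s t x y z : G} {v w μ : E}
  {a p q r : ℕ} {U W : Submodule k E} {ν : G → k} {Ω : Set E}

/-- the centraliser of `A` modulo `K` -/
def CM (A K : Subgroup G) : Subgroup G where
  carrier := {x | x ∈ N(K) ∧ ∀ y ∈ A, ⁅x, y⁆ ∈ K}
  one_mem' := ⟨one_mem _, fun y _ => by simp⟩
  mul_mem' := by
    rintro a b ⟨ha, ha'⟩ ⟨hb, hb'⟩
    refine ⟨mul_mem ha hb, fun y hy => ?_⟩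
    have := mul_mem (conj_mem ha (hb' y hy)) (ha' y hy)
    convert this using 1; simp only [commutatorElement_def]; group
  inv_mem' := by
    rintro a ⟨ha, ha'⟩
    refine ⟨inv_mem ha, fun y hy => ?_⟩
    have := conj_mem' ha (inv_mem (ha' y hy))
    convert this using 1; simp only [commutatorElement_def]; group

theorem le_CM (h1 : X ≤ N(K)) (h2 : ⁅X, A⁆ ≤ K) : X ≤ CM A K :=
  fun _ hx => ⟨h1 hx, fun _ hy => h2 (commutator_mem_commutator hx hy)⟩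

theorem comm_of_le_CM (h : X ≤ CM A K) : ⁅X, A⁆ ≤ K := commutator_le.2 fun _ hx _ hy => (h hx).2 _ hy

theorem conj_comm (g x y : G) : ⁅g * x * g⁻¹, y⁆ = g * ⁅x, g⁻¹ * y * g⁆ * g⁻¹ := by
  simp only [commutatorElement_def]; group

theorem norms_CM (hA : X ≤ N(A)) (hK : X ≤ N(K)) : X ≤ N(CM A K) := le_nrm_iff.2 fun g hg x hx =>
  ⟨conj_mem (norms_norm hK hg) hx.1, fun y hy => by
    rw [conj_comm]; exact conj_mem (hK hg) (hx.2 _ (conj_mem' (hA hg) hy))⟩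

theorem comm_swap (h : ⁅x, y⁆ ∈ K) : ⁅y, x⁆ ∈ K := by rw [← commutatorElement_inv]; exact inv_mem h

theorem comm_mem_left (hx : x ∈ T) (hg : g ∈ N(T)) : ⁅x, g⁆ ∈ T := by
  have := mul_mem hx (conj_mem hg (inv_mem hx))
  convert this using 1; simp only [commutatorElement_def]; group

theorem mem_St (hν : Ch T ν) (hg : g ∈ N(T)) (h : ∀ t ∈ T, ν ⁅g⁻¹, t⁆ = 1) : g ∈ St T ν := by
  refine ⟨hg, fun t ht => ?_⟩
  have : g⁻¹ * t * g = ⁅g⁻¹, t⁆ * t := by simp only [commutatorElement_def]; group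
  rw [cv, this, hν.2 _ (comm_swap (comm_mem_left ht (inv_mem hg))) _ ht, h t ht, one_mul]

theorem St_comm (hν : Ch T ν) (hg : g ∈ St T ν) (ht : t ∈ T) : ν ⁅t, g⁆ = 1 := by
  have h1 := (inv_mem hg).2 _ (inv_mem ht)
  have : ⁅t, g⁆ = t * (g⁻¹⁻¹ * t⁻¹ * g⁻¹) := by simp only [commutatorElement_def]; group
  rw [this, hν.2 _ ht _ (conj_mem' (inv_mem hg.1) (inv_mem ht)), show ν (g⁻¹⁻¹ * t⁻¹ * g⁻¹) = ν t⁻¹ from h1, mul_comm,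
    hν.inv_mul ht]

theorem nu_one (hw : w ∈ Wt ρ T ν) (h0 : w ≠ 0) (ht : t ∈ T) (h : ρ t w = w) : ν t = 1 :=
  smul_left_injective k h0 (by simpa [h] using (hw t ht).symm)

/-- the weight space of the span of `Ω` -/
noncomputable def Ew (ρ : Representation k G E) (T : Subgroup G) (ν : G → k) (Ω : Set E) : Submodule k E :=
  (Submodule.span k Ω).map (pr ρ T ν)

theorem Ew_le_Wt (hν : Ch T ν) : Ew ρ T ν Ω ≤ Wt ρ T ν := by rintro _ ⟨u, -, rfl⟩; exact pr_mem hν u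

theorem Kr_of_nu (hν : Ch T ν) (ht : t ∈ T) (h : ν t = 1) : t ∈ Kr ρ (Ew ρ T ν Ω) := fun v hv => by
  rw [Ew_le_Wt hν hv t ht, h, one_smul]

theorem Su_of_mem (hν : Ch T ν) (ht : t ∈ T) (hU : U ≤ Ew ρ T ν Ω) : t ∈ Su ρ U :=
  ⟨ν t, hν.ne_zero ht, fun _ hv => Ew_le_Wt hν (hU hv) t ht⟩

theorem Ew_le (F : Submodule k E) (h : ∀ μ ∈ Ω, pr ρ T ν μ ∈ F) : Ew ρ T ν Ω ≤ F :=
  Submodule.map_le_iff_le_comap.2 (Submodule.span_le.2 h)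

theorem mem_Kr_iff : g ∈ Kr ρ U ↔ U ≤ LinearMap.ker (ρ g - 1) :=
  ⟨fun h v hv => by simp [h v hv], fun h v hv => by simpa [sub_eq_zero] using h hv⟩

theorem Kr_Ew (h : ∀ μ ∈ Ω, ρ g (pr ρ T ν μ) = pr ρ T ν μ) : g ∈ Kr ρ (Ew ρ T ν Ω) :=
  mem_Kr_iff.2 (Ew_le _ fun μ hμ => by simp [h μ hμ])

theorem Kr_bot (g : G) : g ∈ Kr ρ (⊥ : Submodule k E) := fun v hv => by rw [(Submodule.mem_bot k).1 hv, map_zero]

theorem comm_St_le (hν : Ch T ν) (hA : A ≤ St T ν) : ⁅T, A⁆ ≤ Kr ρ (Ew ρ T ν Ω) :=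
  commutator_le.2 fun _ ht _ hg => Kr_of_nu hν (comm_mem_left ht (hA hg).1) (St_comm hν (hA hg) ht)

theorem St_of_Kr (hν : Ch T ν) (hw : w ∈ Wt ρ T ν) (h0 : w ≠ 0) (hwU : w ∈ U) (hA : A ≤ N(T)) (h : ⁅A, T⁆ ≤ Kr ρ U) :
    A ≤ St T ν := fun _ hg => mem_St hν (hA hg) fun _ ht =>
  nu_one hw h0 (comm_swap (comm_mem_left ht (hA (inv_mem hg)))) (h (commutator_mem_commutator (inv_mem hg) ht) w hwU)

theorem com_of (h : ⁅T, T⁆ ≤ Kr ρ U) (hU : RInv ρ T U) : Com ρ T U := by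
  intro a ha b hb v hv
  rw [← h (commutator_mem_commutator ha hb) _ (hU b hb _ (hU a ha v hv)), ← rho_mul, ← rho_mul, ← rho_mul]
  congr 2; simp only [commutatorElement_def]; group

theorem three_mod (hA : A ≤ N(K)) (hB : B ≤ N(K)) (hX : X ≤ N(K)) (h1 : ⁅⁅A, B⁆, X⁆ ≤ K) (h2 : ⁅⁅B, X⁆, A⁆ ≤ K) :
    ⁅⁅X, A⁆, B⁆ ≤ K := by
  have e : ∀ {A B X : Subgroup G}, A ≤ N(K) → B ≤ N(K) → X ≤ N(K) →
      (⁅⁅A, B⁆, X⁆ ≤ K ↔ ⁅⁅A /ₛ K, B /ₛ K⁆, X /ₛ K⁆ = ⊥) := fun hA hB hX => by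
    rw [← quo_comm hA hB, ← quo_comm (comm_le_of_le hA hB) hX, quo_eq_bot (comm_le_of_le (comm_le_of_le hA hB) hX)]
  exact (e hX hA hB).2 (three_subgroup ((e hA hB hX).1 h1) ((e hB hX hA).1 h2))

/-- an invariant set of vectors -/
structure Md (ρ : Representation k G E) (H : Subgroup G) (s : G) (r : ℕ) (Ω : Set E) : Prop where
  hr : r.Prime
  hs : s ^ r = 1
  rk : (r : k) ≠ 0
  sH : s ∈ H
  om : ∀ g ∈ H, ∀ μ ∈ Ω, ρ g μ ∈ Ω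

theorem Md.inv (m : Md ρ H s r Ω) : RInv ρ H (Submodule.span k Ω) := fun g hg _ hv =>
  (Submodule.span_le.2 fun μ hμ => Submodule.subset_span (m.om g hg μ hμ) :
    Submodule.span k Ω ≤ (Submodule.span k Ω).comap (ρ g)) hv

theorem Md.nK (m : Md ρ H s r Ω) : H ≤ N(Kr ρ (Submodule.span k Ω)) := nrm_Kr m.inv

theorem Md.Ew_le (m : Md ρ H s r Ω) (hT : T ≤ H) : Ew ρ T ν Ω ≤ Submodule.span k Ω := by
  rintro _ ⟨u, hu, rfl⟩; exact pr_mem_inv (m.inv.mono hT) hu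

theorem Md.Ew_inv (m : Md ρ H s r Ω) (hA : A ≤ H) (hA' : A ≤ St T ν) : RInv ρ A (Ew ρ T ν Ω) := by
  rintro g hg _ ⟨u, hu, rfl⟩
  exact ⟨_, m.inv g (hA hg) u hu, (rho_pr_St (hA' hg) u).symm⟩

theorem Md.Kr_cv (m : Md ρ H s r Ω) (hg : g ∈ H) (hn : g ∈ N(T)) (hy : y ∈ Kr ρ (Ew ρ T (cv g ν) Ω)) :
    g⁻¹ * y * g ∈ Kr ρ (Ew ρ T ν Ω) := by
  rintro _ ⟨u, hu, rfl⟩
  rw [rho_mul, rho_mul, rho_pr hn, hy _ ⟨_, m.inv g hg u hu, rfl⟩, ← rho_pr hn, ← rho_mul, inv_mul_cancel, rho_one]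

theorem Md.mem_K [IsAlgClosed k] [FiniteDimensional k E] (m : Md ρ H s r Ω) (hT : T ≤ H) (hc : (#T : k) ≠ 0)
    (hab : ⁅T, T⁆ ≤ Kr ρ (Submodule.span k Ω)) (h : ∀ ν, Ch T ν → g ∈ Kr ρ (Ew ρ T ν Ω)) :
    g ∈ Kr ρ (Submodule.span k Ω) :=
  mem_Kr_iff.2 fun v hv => mem_of_pr hc (m.inv.mono hT) (com_of hab (m.inv.mono hT)) hv _ fun ν hν =>
    mem_Kr_iff.1 (h ν hν) ⟨v, hv, rfl⟩

theorem Md.St_of (m : Md ρ H s r Ω) (hT : T ≤ H) (hν : Ch T ν) (h0 : Ew ρ T ν Ω ≠ ⊥) (hA : A ≤ N(T))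
    (h : ⁅A, T⁆ ≤ Kr ρ (Submodule.span k Ω)) : A ≤ St T ν := by
  obtain ⟨w, hw, hw0⟩ := (Submodule.ne_bot_iff _).1 h0
  exact St_of_Kr hν (Ew_le_Wt hν hw) hw0 (m.Ew_le hT hw) hA h

theorem ord_cop (hP : PGrp p P) (hr : r.Prime) (hpr : p ≠ r) (hd : d ∈ P) : (orderOf d).Coprime r :=
  (cop_prime hP hr hpr).coprime_dvd_left (orderOf_dvd_card' hd)

theorem Md.lem1 (m : Md ρ H s r Ω) (hT : T ≤ H) (hP : PGrp p T) (hpk : (p : k) ≠ 0) (hpr : p ≠ r) (hsT : s ∈ N(T))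
    (hd : d ∈ N(T)) (hds : d ∈ C[s]) (hdr : (orderOf d).Coprime r) (hL : Lx ρ s r Ω d) (hν : Ch T ν)
    (hn : s ∉ St T ν) : d ∈ Kr ρ (Ew ρ T ν Ω) :=
  Kr_Ew fun _ hμ => TW.lem1 (cast_card hP hpk) m.hr m.hs hsT (cop_prime hP m.hr hpr) hd (mem_cen1.1 hds) hdr
    (fun t ht => m.om t (hT ht)) hL hμ hν hn

/-- a family of subgroups between `D` and `P` -/
structure Fam (P D H : Subgroup G) (s : G) (J : Subgroup G) (𝓧 : Set (Subgroup G)) : Prop where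
  le : ∀ X ∈ 𝓧, D ≤ X
  inv : ∀ g ∈ H, ∀ X ∈ 𝓧, ∃ X' ∈ 𝓧, ∀ y ∈ X', g⁻¹ * y * g ∈ X
  sep : ∀ y ∈ P, (∀ X ∈ 𝓧, y ∈ X) → y ∈ D
  cen : ∀ X ∈ 𝓧, ¬ ⁅P, ⟪s⟫⁆ ≤ X → J ≤ X

theorem Md.stepAb [IsAlgClosed k] [FiniteDimensional k E] (m : Md ρ H s r Ω) (hPH : P ≤ H) (hP : PGrp p P)
    (hpk : (p : k) ≠ 0) (hpr : p ≠ r) (hsP : s ∈ N(P)) (hH : H' ≤ H) (hH' : H' ≤ N(P))
    (hab : ⁅P, P⁆ ≤ Kr ρ (Submodule.span k Ω)) (hD : D = P ⊓ Kr ρ (Submodule.span k Ω)) (hJ : J ≤ P ⊓ C[s])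
    (hL : ∀ d ∈ J, Lx ρ s r Ω d) : ∃ 𝓧, Fam P D H' s J 𝓧 := by
  refine ⟨{X | ∃ ν, Ch P ν ∧ X = Kr ρ (Ew ρ P ν Ω)}, ?_, ?_, ?_, ?_⟩
  · rintro _ ⟨ν, -, rfl⟩
    exact hD.le.trans (inf_le_right.trans (Kr_anti (m.Ew_le hPH)))
  · rintro g hg _ ⟨ν, hν, rfl⟩
    exact ⟨_, ⟨cv g ν, hν.cv (hH' hg), rfl⟩, fun y hy => m.Kr_cv (hH hg) (hH' hg) hy⟩
  · intro y hy h
    exact hD.ge ⟨hy, m.mem_K hPH (cast_card hP hpk) hab fun ν hν => h _ ⟨ν, hν, rfl⟩⟩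
  · rintro _ ⟨ν, hν, rfl⟩ h d hd
    exact m.lem1 hPH hP hpk hpr hsP (le_nrm P (hJ hd).1) (hJ hd).2 (ord_cop hP m.hr hpr (hJ hd).1) (hL d hd) hν
      fun e => h (comm_St_le hν (zpowers_le.2 e))

/-- a level of class two with the centre of the next level -/
structure NA (ρ : Representation k G E) (H : Subgroup G) (s : G) (r : ℕ) (Ω : Set E) (P D B : Subgroup G) (p a : ℕ) :
    Prop where
  m : Md ρ H s r Ω
  PH : P ≤ H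
  hP : PGrp p P
  hp : p.Prime
  pk : (p : k) ≠ 0
  hpr : p ≠ r
  sP : s ∈ N(P)
  hD : D = P ⊓ CM P (Kr ρ (Submodule.span k Ω))
  der : ⁅P, P⁆ ≤ D
  exp : ∀ x ∈ P, x ^ p ∈ D
  BH : B ≤ H
  hB : PGrp a B
  pa : p ≠ a
  ar : a ≠ r
  BP : B ≤ N(P)
  sB : s ∈ N(B)
  BB : ⁅⁅B, B⁆, P⁆ ≤ Kr ρ (Submodule.span k Ω)
  DB : ⁅B, D⁆ ≤ Kr ρ (Submodule.span k Ω)
  PB : P ⊓ C(B) ≤ D

section
variable (n : NA ρ H s r Ω P D B p a)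
include n

theorem NA.DP : D ≤ P := n.hD.le.trans inf_le_left
theorem NA.DH : D ≤ H := n.DP.trans n.PH
theorem NA.PD : ⁅P, D⁆ ≤ Kr ρ (Submodule.span k Ω) := by
  rw [commC]; exact comm_of_le_CM (n.hD.le.trans inf_le_right)
theorem NA.DD : ⁅D, D⁆ ≤ Kr ρ (Submodule.span k Ω) := (commSS n.DP le_rfl).trans n.PD
theorem NA.nD (hA : A ≤ H) (hA' : A ≤ N(P)) : A ≤ N(D) := by
  rw [n.hD]; exact normsI hA' (norms_CM hA' (hA.trans n.m.nK))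
theorem NA.sD : s ∈ N(D) := n.nD (zpowers_le.2 n.m.sH) (zpowers_le.2 n.sP) (mem_zpowers s)
theorem NA.PSt (hν : Ch D ν) (h0 : Ew ρ D ν Ω ≠ ⊥) : P ≤ St D ν := n.m.St_of n.DH hν h0 (n.nD n.PH (le_nrm P)) n.PD
theorem NA.nW (hν : Ch D ν) : P ≤ N(Kr ρ (Ew ρ D ν Ω)) := by
  by_cases h0 : Ew ρ D ν Ω = ⊥
  · rw [h0, (eq_top_iff.2 fun g _ => Kr_bot g : Kr ρ (⊥ : Submodule k E) = ⊤), nrm_top]; exact le_top
  · exact nrm_Kr (n.m.Ew_inv n.PH (n.PSt hν h0))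
theorem NA.cop : Cop P ⟪s⟫ := cop_zp n.hP n.m.hr n.m.hs n.hpr

theorem NA.orth (hν : Ch D ν) (hs : s ∈ St D ν) : ⁅P ⊓ C(⟪s⟫), ⁅P, ⟪s⟫⁆⁆ ≤ Kr ρ (Ew ρ D ν Ω) := by
  rw [commC]
  refine three_mod (nrm_Kr (n.m.Ew_inv (zpowers_le.2 n.m.sH) (zpowers_le.2 hs))) (inf_le_left.trans (n.nW hν)) (n.nW hν)
    (by rw [comm_eq_bot'.2 inf_le_right, commutator_bot_left]; exact bot_le) ?_
  exact (commSS ((commSS inf_le_left le_rfl).trans n.der) le_rfl).trans (comm_St_le hν (zpowers_le.2 hs))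

theorem NA.nz [IsAlgClosed k] [FiniteDimensional k E] (hν : Ch D ν) (hs : s ∈ St D ν)
    (h : ¬ ⁅⁅P, ⟪s⟫⁆, P⁆ ≤ Kr ρ (Ew ρ D ν Ω)) : ∃ v ∈ Nf ρ s Ω, pr ρ D ν (nm ρ s r v) ≠ 0 := by
  by_contra hc
  push Not at hc
  have h0 : Ew ρ D ν Ω ≠ ⊥ := fun e => h (by rw [e]; exact fun g _ => Kr_bot g)
  have hsP : ⟪s⟫ ≤ N(P) := zpowers_le.2 n.sP
  have h1 : ⁅P, ⟪s⟫⁆ ≤ P := comm_le_left hsP
  have hF : Fc ρ ⁅P, ⟪s⟫⁆ D ν s r Ω :=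
    ⟨hν, n.m.hr, n.m.hs, norm_comm_right _ _ (mem_zpowers s), hs, h1.trans (n.PSt hν h0),
      cop_prime (n.hP.mono h1) n.m.hr n.hpr, (der_mono h1).trans n.der,
      by rw [← cen_zpowers]; exact (coprime_cent_comm_le_der hsP n.cop).trans n.der,
      fun y hy => n.m.om y (n.PH (h1 hy))⟩
  obtain ⟨x, hx, y, hy, hxy⟩ : ∃ x ∈ ⁅P, ⟪s⟫⁆, ∃ y ∈ ⁅P, ⟪s⟫⁆, ν ⁅x, y⁆ ≠ 1 := by
    by_contra hh
    push Not at hh
    apply h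
    have e := (coprime_cent_prod hsP n.cop n.hP.sol).sup
    have := comm_sup_le' (K := ⁅P, ⟪s⟫⁆) (e.le.trans (n.nW hν))
      (commutator_le.2 fun x hx y hy => Kr_of_nu hν (hF.der (commutator_mem_commutator hx hy)) (hh x hx y hy))
      (by rw [commC]; exact n.orth hν hs)
    rwa [e] at this
  have h2 : ∀ v ∈ (Nf ρ s Ω).map (TW.pr ρ D ν), nm ρ s r v = 0 := by
    rintro _ ⟨v, hv, rfl⟩
    rw [nm_pr hs, hc v hv]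
  have h3 := Ew_le _ fun μ hμ => hF.lem2 hx hy hxy h2 hμ
  have hK := Kr_anti (ρ := ρ) (n.m.Ew_le (ν := ν) n.DH)
  exact h (excU h0 (n.m.Ew_inv n.PH (n.PSt hν h0))
    (n.m.Ew_inv n.BH (n.m.St_of n.DH hν h0 (n.nD n.BH n.BP) n.DB))
    (n.m.Ew_inv (zpowers_le.2 n.m.sH) (zpowers_le.2 hs)) n.hP n.hp n.pk n.m.hr n.m.rk n.m.hs n.hpr n.sP
    (fun x hx => Su_of_mem hν (n.der hx) le_rfl) (fun x hx => Su_of_mem hν (n.exp x hx) le_rfl) n.hB n.pa n.ar n.BP n.sB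
    (n.BB.trans hK) (fun x hx => Su_of_mem hν (n.PB hx) le_rfl) fun v hv e => by
      have := h2 v (h3 hv)
      rw [nm_of_fixed e] at this
      exact (smul_eq_zero.1 this).resolve_left n.m.rk)

theorem NA.fixN (hν : Ch D ν) (hv : pr ρ D ν w ≠ 0) (hz : z ∈ D) (h : ρ z w = w) : z ∈ Kr ρ (Ew ρ D ν Ω) := by
  have := pr_rho (ρ := ρ) hν hz w
  rw [h] at this
  exact Kr_of_nu hν hz (smul_left_injective k hv (by simpa using this.symm))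

end

theorem Md.Nf_inv (m : Md ρ H s r Ω) (hg : g ∈ H) (hs : g ∈ C[s]) (hv : v ∈ Nf ρ s Ω) : ρ g v ∈ Nf ρ s Ω :=
  (Submodule.span_le.2 fun μ hμ => Submodule.subset_span ⟨m.om g hg μ hμ.1, fun e => hμ.2 (by
    rw [← rho_mul, ← mem_cen1.1 hs, rho_mul] at e
    rw [← rho_one ρ (ρ s μ), ← inv_mul_cancel g, rho_mul, e, ← rho_mul, inv_mul_cancel, rho_one])⟩ :
    Nf ρ s Ω ≤ (Nf ρ s Ω).comap (ρ g)) hv

theorem Lx_iff : Lx ρ s r Ω d ↔ d ∈ Kr ρ ((Nf ρ s Ω).map (nm ρ s r)) :=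
  ⟨fun h => by rintro _ ⟨v, hv, rfl⟩; exact h.nf hv, fun h μ hμ hn => h _ ⟨μ, Submodule.subset_span ⟨hμ, hn⟩, rfl⟩⟩

theorem Md.nL (m : Md ρ H s r Ω) : H ⊓ C[s] ≤ N(Kr ρ ((Nf ρ s Ω).map (nm ρ s r))) := nrm_Kr (by
  rintro g hg _ ⟨v, hv, rfl⟩
  exact ⟨_, m.Nf_inv hg.1 hg.2 hv, (rho_nm (mem_cen1.1 hg.2) v).symm⟩)

theorem NA.step [IsAlgClosed k] [FiniteDimensional k E] (n : NA ρ H s r Ω P D B p a) (hH : H' ≤ H) (hH' : H' ≤ N(P))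
    (hJ : J ≤ P ⊓ C[s]) (hL : ∀ d ∈ J, Lx ρ s r Ω d) : ∃ 𝓧, Fam P D H' s J 𝓧 := by
  have hc := cast_card (n.hP.mono n.DP) n.pk
  refine ⟨{X | ∃ ν, Ch D ν ∧ X = P ⊓ CM P (Kr ρ (Ew ρ D ν Ω))}, ?_, ?_, ?_, ?_⟩
  · rintro _ ⟨ν, hν, rfl⟩
    exact le_inf n.DP (le_CM (n.DP.trans (n.nW hν)) (by rw [commC]; exact n.PD.trans (Kr_anti (n.m.Ew_le n.DH))))
  · rintro g hg _ ⟨ν, hν, rfl⟩
    have hgD := n.nD hH hH' hg
    refine ⟨_, ⟨cv g ν, hν.cv hgD, rfl⟩, fun y hy => ?_⟩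
    have h1 := conj_mem' (hH' hg) hy.1
    refine ⟨h1, n.nW hν h1, fun x hx => ?_⟩
    have := n.m.Kr_cv (hH hg) hgD (hy.2.2 _ (conj_mem (hH' hg) hx))
    convert this using 1; simp only [commutatorElement_def]; group
  · intro y hy h
    exact n.hD.ge ⟨hy, n.m.nK (n.PH hy), fun x hx => n.m.mem_K n.DH hc n.DD fun ν hν => (h _ ⟨ν, hν, rfl⟩).2.2 x hx⟩
  · rintro _ ⟨ν, hν, rfl⟩ h d hd
    have hdP := (hJ hd).1
    have hsP : ⟪s⟫ ≤ N(P) := zpowers_le.2 n.sP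
    refine ⟨hdP, le_CM (X := ⟪d⟫) ((zpowers_le.2 hdP).trans (n.nW hν)) ?_ (mem_zpowers d)⟩
    by_cases hs : s ∈ St D ν
    · obtain ⟨v, hv, hv0⟩ := n.nz hν hs fun e =>
        h (le_inf (comm_le_left hsP) (le_CM ((comm_le_left hsP).trans (n.nW hν)) e))
      have e := (coprime_cent_prod hsP n.cop n.hP.sol).sup
      have hd' : ⟪d⟫ ≤ P ⊓ C(⟪s⟫) := by rw [cen_zpowers]; exact zpowers_le.2 (hJ hd)
      have := comm_sup_le' (K := ⟪d⟫) (e.le.trans (n.nW hν)) ((commSS hd' le_rfl).trans (n.orth hν hs))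
        (fun z hz => n.fixN hν hv0 (n.der (commSS (hd'.trans inf_le_left) inf_le_left hz)) (by
          have h1 : ⁅⟪d⟫, P ⊓ C(⟪s⟫)⁆ ≤ Kr ρ ((Nf ρ s Ω).map (nm ρ s r)) :=
            (commSS (zpowers_le.2 (Lx_iff.1 (hL d hd))) le_rfl).trans (comm_le_left (by
              rw [cen_zpowers]; exact (inf_le_inf_right _ n.PH).trans n.m.nL))
          exact h1 hz _ ⟨v, hv, rfl⟩))
      rwa [e] at this
    · exact (commSS (zpowers_le.2 (n.m.lem1 n.DH (n.hP.mono n.DP) n.pk n.hpr n.sD (n.nD n.PH (le_nrm P) hdP) (hJ hd).2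
        (ord_cop n.hP n.m.hr n.hpr hdP) (hL d hd) hν hs)) le_rfl).trans (comm_le_left (n.nW hν))

end Cfsg.Agent.TW
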