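import Cfsg.Agent.H22.Tw7

/-! The highest level of a tower that is not centralised by the automorphism. -/

set_option autoImplicit false
set_option linter.unusedSectionVars false
set_option linter.style.haveILetI false

namespace Cfsg.Agent.TW

open Cfsg Subgroup Cfsg.Agent.FT Cfsg.Agent.H28 Cfsg.Agent.P22 Module
open scoped commutatorElement

universe u

variable {G : Type u} [Group G] [Finite G] {k : Type*} [Field k] {E : Type*} [AddCommGroup E] [Module k E]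
  {ρ : Representation k G E} {A B B₀ D H H' J K T P Q X Z Y V : Subgroup G} {b d g h s t x y z : G} {v w μ : E}
  {a a₀ p q r : ℕ} {U W : Submodule k E} {ν : G → k} {Ω : Set E} [IsAlgClosed k] [FiniteDimensional k E]

theorem Md.top1 (m : Md ρ H s r Ω) (hQH : Q ≤ H) (hQ : PGrp q Q) (hqk : (q : k) ≠ 0) (hqr : q ≠ r) (hsQ : s ∈ N(Q))
    (hQs : Q ≤ ⁅Q, ⟪s⟫⁆) (hab : ⁅Q, Q⁆ ≤ Kr ρ (Submodule.span k Ω)) (h0 : ∀ μ ∈ Ω, ρ s μ ≠ μ → nm ρ s r μ = 0) :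
    Q ≤ Kr ρ (Submodule.span k Ω) := fun g hg => m.mem_K hQH (cast_card hQ hqk) hab fun ν hν => by
  by_cases hs : s ∈ St Q ν
  · exact comm_St_le hν (zpowers_le.2 hs) (hQs hg)
  · exact Kr_Ew fun μ hμ => by
      rw [lem1z (cast_card hQ hqk) m.hr m.hs hsQ (cop_prime hQ m.hr hqr) (fun t ht => m.om t (hQH ht)) h0 hμ hν hs,
        map_zero]

/-- the next level fixes the norms -/
structure BL (ρ : Representation k G E) (H : Subgroup G) (s : G) (r : ℕ) (Ω : Set E) (Q B : Subgroup G) (q a : ℕ) :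
    Prop where
  m : Md ρ H s r Ω
  QH : Q ≤ H
  hQ : PGrp q Q
  qk : (q : k) ≠ 0
  qr : q ≠ r
  sQ : s ∈ N(Q)
  BH : B ≤ H
  hB : PGrp a B
  ar : a ≠ r
  BQ : B ≤ N(Q)
  Bs : B ≤ C[s]
  L : ∀ b ∈ B, Lx ρ s r Ω b
  QB : Q ≤ ⁅Q, B⁆
  Qs : Q ≤ ⁅Q, ⟪s⟫⁆

theorem BL.lemA (l : BL ρ H s r Ω Q B q a) (hT : T ≤ Q) (hsT : s ∈ N(T)) (hBT : B ≤ N(T)) (hν : Ch T ν)
    (hQ : Q ≤ St T ν) : ⁅T, ⟪s⟫⁆ ≤ Kr ρ (Ew ρ T ν Ω) := by
  by_cases hs : s ∈ St T ν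
  · exact comm_St_le hν (zpowers_le.2 hs)
  have h1 : B ≤ Kr ρ (Ew ρ T ν Ω) := fun b hb => l.m.lem1 (hT.trans l.QH) (l.hQ.mono hT) l.qk l.qr hsT (hBT hb) (l.Bs hb)
    (ord_cop l.hB l.m.hr l.ar hb) (l.L b hb) hν hs
  exact (comm_le_left (zpowers_le.2 hsT)).trans (hT.trans (l.QB.trans ((commSS le_rfl h1).trans
    (comm_le_right (nrm_Kr (l.m.Ew_inv l.QH hQ))))))

theorem BL.top2 (l : BL ρ H s r Ω Q B q a) :
    ⁅Q ⊓ CM Q (Kr ρ (Submodule.span k Ω)), ⟪s⟫⁆ ≤ Kr ρ (Submodule.span k Ω) := by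
  set Z := Q ⊓ CM Q (Kr ρ (Submodule.span k Ω))
  have hZ : ⁅Q, Z⁆ ≤ Kr ρ (Submodule.span k Ω) := by rw [commC]; exact comm_of_le_CM inf_le_right
  have hn : ∀ {A : Subgroup G}, A ≤ H → A ≤ N(Q) → A ≤ N(Z) := fun h1 h2 => normsI h2 (norms_CM h2 (h1.trans l.m.nK))
  have hZH : Z ≤ H := inf_le_left.trans l.QH
  refine fun g hg => l.m.mem_K hZH (cast_card (l.hQ.inf_left _) l.qk) ((commSS inf_le_left le_rfl).trans hZ) fun ν hν => ?_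
  by_cases h0 : Ew ρ Z ν Ω = ⊥
  · rw [h0]; exact Kr_bot g
  · exact l.lemA inf_le_left (hn (zpowers_le.2 l.m.sH) (zpowers_le.2 l.sQ) (mem_zpowers s)) (hn l.BH l.BQ) hν
      (l.m.St_of hZH hν h0 (hn l.QH (le_nrm Q)) hZ) hg

theorem NA.sSt (n : NA ρ H s r Ω Q D B₀ q a₀) (hDs : ⁅D, ⟪s⟫⁆ ≤ Kr ρ (Submodule.span k Ω)) (hν : Ch D ν)
    (h0 : Ew ρ D ν Ω ≠ ⊥) : s ∈ St D ν :=
  n.m.St_of n.DH hν h0 (zpowers_le.2 n.sD) (by rw [commC]; exact hDs) (mem_zpowers s)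

theorem NA.top3 (n : NA ρ H s r Ω Q D B₀ q a₀) (hQs : Q ≤ ⁅Q, ⟪s⟫⁆) (hDs : ⁅D, ⟪s⟫⁆ ≤ Kr ρ (Submodule.span k Ω))
    (hz : z ∈ ⁅Q, Q⁆) (hL : Lx ρ s r Ω z) : z ∈ Kr ρ (Submodule.span k Ω) :=
  n.m.mem_K n.DH (cast_card (n.hP.mono n.DP) n.pk) n.DD fun ν hν => by
    by_contra hc
    obtain ⟨v, hv, hv0⟩ := n.nz hν (n.sSt hDs hν fun e => hc (e ▸ Kr_bot z)) fun e =>
      hc (((commSS hQs le_rfl).trans e) hz)
    exact hc (n.fixN hν hv0 (n.der hz) (hL.nf hv))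

theorem NA.top4 (n : NA ρ H s r Ω Q D B₀ q a₀) (l : BL ρ H s r Ω Q B q a) (hqa : q ≠ a)
    (hDs : ⁅D, ⟪s⟫⁆ ≤ Kr ρ (Submodule.span k Ω)) (hDB : ⁅B, D⁆ ≤ Kr ρ (Submodule.span k Ω)) (hAH : A ≤ H)
    (hAQ : A ≤ N(Q)) (hAs : A ≤ C[s]) (hBA : B ≤ ⁅B, A⁆) (hDA : ⁅A, D⁆ ≤ Kr ρ (Submodule.span k Ω)) :
    ⁅Q, Q⁆ ≤ Kr ρ (Submodule.span k Ω) := by
  intro z hz
  refine n.m.mem_K n.DH (cast_card (n.hP.mono n.DP) n.pk) n.DD fun ν hν => ?_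
  by_contra hc
  have h0 : Ew ρ D ν Ω ≠ ⊥ := fun e => hc (e ▸ Kr_bot z)
  have hs := n.sSt hDs hν h0
  have hsQ : ⟪s⟫ ≤ N(Q) := zpowers_le.2 n.sP
  have hQS := n.PSt hν h0
  have hBS := n.m.St_of n.DH hν h0 (n.nD l.BH l.BQ) hDB
  have hAS := n.m.St_of n.DH hν h0 (n.nD hAH hAQ) hDA
  have hcs : Q ⊓ C[s] ≤ D := by
    rw [← cen_zpowers]; exact ((inf_le_inf_right _ l.Qs).trans (coprime_cent_comm_le_der hsQ n.cop)).trans n.der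
  have hF : Fc ρ Q D ν s r Ω := ⟨hν, n.m.hr, n.m.hs, n.sP, hs, hQS, cop_prime n.hP n.m.hr n.hpr, n.der, hcs,
    fun y hy => n.m.om y (n.PH hy)⟩
  have hWN : Ew ρ D ν Ω ≤ (Nf ρ s Ω).map (pr ρ D ν) := Ew_le _ fun μ hμ => by
    by_contra hn
    have h1 : Q ≤ Ln ρ Q (pr ρ D ν μ) := l.QB.trans (by
      rw [commC]
      exact commutator_le.2 fun b hb y hy => hF.lem2b (hBS hb) (l.BQ hb) (mem_cen1.1 (l.Bs hb))
        (ord_cop l.hB n.m.hr l.ar hb) (n.m.om b (l.BH hb)) (l.L b hb) hμ hn hy)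
    exact hc ((commutator_le.2 fun x hx y hy => Kr_of_nu hν (n.der (commutator_mem_commutator hx hy))
      (hF.nu_comm (fun e => hn (e ▸ zero_mem _)) (h1 hx) (h1 hy)) : ⁅Q, Q⁆ ≤ Kr ρ (Ew ρ D ν Ω)) hz)
  obtain ⟨v₁, hv₁, hv0⟩ := n.nz hν hs fun e => hc (((commSS l.Qs le_rfl).trans e) hz)
  have hQW := n.m.Ew_inv n.PH hQS
  set W := Ew ρ D ν Ω with hW
  let U : Submodule k E := Submodule.span k {w | ∃ y ∈ Q, ∃ v ∈ W, ρ s v = v ∧ w = ρ y v}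
  have hUW : U ≤ W := Submodule.span_le.2 (by rintro _ ⟨y, hy, v, hv, -, rfl⟩; exact hQW y hy v hv)
  have hQU : RInv ρ Q U := fun g hg _ hv => (Submodule.span_le.2 (by
    rintro _ ⟨y, hy, v, hv, e, rfl⟩
    exact Submodule.subset_span ⟨g * y, mul_mem hg hy, v, hv, e, (rho_mul _ _ _ _).symm⟩) : U ≤ U.comap (ρ g)) hv
  have hXU : ∀ {X : Subgroup G}, X ≤ H → X ≤ St D ν → X ≤ N(Q) → X ≤ C[s] → RInv ρ X U :=
    fun h1 h2 h3 h4 g hg _ hv => (Submodule.span_le.2 (by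
      rintro _ ⟨y, hy, v, hv, e, rfl⟩
      refine Submodule.subset_span ⟨g * y * g⁻¹, conj_mem (h3 hg) hy, ρ g v, n.m.Ew_inv h1 h2 g hg v hv, ?_, ?_⟩
      · rw [← rho_mul, ← mem_cen1.1 (h4 hg), rho_mul, e]
      · rw [← rho_mul, ← rho_mul, inv_mul_cancel_right]) : U ≤ U.comap (ρ g)) hv
  have hv₂ : pr ρ D ν (nm ρ s r v₁) ∈ U := Submodule.subset_span ⟨1, one_mem _, _,
    ⟨_, nm_mem (n.m.inv s n.m.sH) (Submodule.span_mono (fun _ h => h.1) hv₁), rfl⟩,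
    by rw [rho_pr_St hs, nm_fixed n.m.hs], (rho_one _ _).symm⟩
  have hKU : ∀ x ∈ D, x ∈ Kr ρ U → x ∈ Kr ρ W := fun x hx h =>
    Kr_of_nu hν hx (nu_one (pr_mem hν _) hv0 hx (h _ hv₂))
  have hQK : ¬ Q ≤ Kr ρ U := fun e => hc (hKU z (n.der hz) (e (der_le Q hz)))
  refine hQK (l.QB.trans ((commSS le_rfl (top0U (A := A) hQU (hXU l.BH hBS l.BQ l.Bs) (hXU hAH hAS hAQ hAs)
    (hXU (zpowers_le.2 n.m.sH) (zpowers_le.2 hs) hsQ (zpowers_le_cen1 s)) n.hP n.hp n.pk n.m.hr n.m.rk n.m.hs n.hpr n.sP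
    (fun e => hQK (l.Qs.trans ((commSS le_rfl (zpowers_le.2 e)).trans (comm_le_right (nrm_Kr hQU)))))
    (fun x hx => Su_of_mem hν (n.der hx) hUW) ?_ (fun x hx => Su_of_mem hν (n.exp x hx) hUW)
    (fun x hx => Su_of_mem hν (hcs hx) hUW) l.hB hqa l.ar l.BQ l.Bs hAQ hAs hBA ?_ ?_)).trans
    (comm_le_right (nrm_Kr hQU))))
  · intro x hx h
    set T := Q ⊓ CM Q (Kr ρ W)
    have hxT : x ∈ T := ⟨hx, nrm_Kr hQW hx, fun y hy => hKU _ (n.der (commutator_mem_commutator hx hy)) (h y hy)⟩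
    have hn : ∀ {A : Subgroup G}, A ≤ H → A ≤ St D ν → A ≤ N(Q) → A ≤ N(T) := fun h1 h2 h3 =>
      normsI h3 (norms_CM h3 (nrm_Kr (n.m.Ew_inv h1 h2)))
    have hsT := hn (zpowers_le.2 n.m.sH) (zpowers_le.2 hs) hsQ
    have hQT : ⁅Q, T⁆ ≤ Kr ρ W := by rw [commC]; exact comm_of_le_CM inf_le_right
    have hTW := hQW.mono (inf_le_left : T ≤ Q)
    have h1 : ⁅T, ⟪s⟫⁆ ≤ Kr ρ W := fun g hg => mem_Kr_iff.2 fun v hv =>
      mem_of_pr (cast_card (n.hP.inf_left _) n.pk) hTW (com_of ((commSS inf_le_left le_rfl).trans hQT) hTW) hv _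
        fun τ hτ => by
          by_cases e : pr ρ T τ v = 0
          · rw [e]; exact zero_mem _
          · exact mem_Kr_iff.1 (l.lemA inf_le_left (hsT (mem_zpowers s)) (hn l.BH hBS l.BQ) hτ
              (St_of_Kr hτ (pr_mem hτ v) e (pr_mem_inv hTW hv) (hn n.PH hQS (le_nrm Q)) hQT) hg)
              ⟨v, n.m.Ew_le n.DH hv, rfl⟩
    obtain ⟨x₁, hx₁, x₂, hx₂, rfl⟩ := (coprime_cent_prod hsT (n.cop.mono_left inf_le_left)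
      (n.hP.inf_left _).sol).mul x hxT
    have h2 : x₂ ∈ D := hcs ⟨hx₂.1.1, by rw [← cen_zpowers]; exact hx₂.2⟩
    exact ⟨ν x₂, hν.ne_zero h2, fun v hv => by
      rw [rho_mul, Ew_le_Wt hν (hUW hv) x₂ h2, map_smul, h1 hx₁ v (hUW hv)]⟩
  · intro b hb v hv e
    obtain ⟨u, hu, rfl⟩ := hWN (hUW hv)
    have h1 := nm_of_fixed (r := r) e
    rw [nm_pr hs] at h1
    have h2 := rho_pr_St (ρ := ρ) (hBS hb) (nm ρ s r u)
    rw [(l.L b hb).nf hu, h1, map_smul] at h2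
    exact smul_right_injective E n.m.rk h2
  · intro F hF h
    refine Submodule.span_le.2 ?_
    rintro _ ⟨y, hy, v, hv, e, rfl⟩
    exact hF y hy v (h v (Submodule.subset_span ⟨1, one_mem _, v, hv, e, (rho_one _ _).symm⟩) e)

end Cfsg.Agent.TW
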