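import Cfsg.Agent.H22.Tw8
import Cfsg.Agent.H28.SecRep

/-! The dual module of a level of a tower, spanned by the forms vanishing on a member of a family. -/

set_option autoImplicit false
set_option linter.unusedSectionVars false
set_option linter.style.haveILetI false

namespace Cfsg.Agent.TW

open Cfsg Subgroup Cfsg.Agent.FT Cfsg.Agent.H28 Cfsg.Agent.P22 Module
open scoped commutatorElement

universe u

variable {G : Type u} [Group G] [Finite G] {k : Type*} [Field k] {A B D H J K P X : Subgroup G} {d g s x y : G}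
  {μ : G → k} {p r : ℕ} {𝓧 : Set (Subgroup G)}

/-- conjugation on functions -/
def cR (k : Type*) [Field k] (G : Type u) [Group G] : Representation k G (G → k) where
  toFun g := LinearMap.funLeft k k fun t => g⁻¹ * t * g
  map_one' := by ext f t; simp
  map_mul' g h := by ext f t; simp [mul_assoc]

theorem cR_apply (g : G) (μ : G → k) (t : G) : cR k G g μ t = μ (g⁻¹ * t * g) := rfl

/-- additive functions on `P` -/
def Ad (k : Type*) [Field k] (P : Subgroup G) : Submodule k (G → k) where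
  carrier := {μ | (∀ x ∉ P, μ x = 0) ∧ ∀ x ∈ P, ∀ y ∈ P, μ (x * y) = μ x + μ y}
  zero_mem' := ⟨fun _ _ => rfl, fun _ _ _ _ => by simp⟩
  add_mem' := fun ha hb => ⟨fun x hx => by simp [ha.1 x hx, hb.1 x hx],
    fun x hx y hy => by simp only [Pi.add_apply, ha.2 x hx y hy, hb.2 x hx y hy]; ring⟩
  smul_mem' := fun c _ ha => ⟨fun x hx => by simp [ha.1 x hx],
    fun x hx y hy => by simp only [Pi.smul_apply, ha.2 x hx y hy, smul_add]⟩

theorem Ad_inv (hg : g ∈ N(P)) (h : μ ∈ Ad k P) : cR k G g μ ∈ Ad k P := by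
  refine ⟨fun x hx => h.1 _ fun e => hx ?_, fun x hx y hy => ?_⟩
  · simpa [mul_assoc] using conj_mem hg e
  · rw [cR_apply, cR_apply, cR_apply, ← h.2 _ (conj_mem' hg hx) _ (conj_mem' hg hy)]
    congr 1; group

/-- the kernel of an additive function -/
def ak (h : μ ∈ Ad k P) : Subgroup G where
  carrier := {x | x ∈ P ∧ μ x = 0}
  one_mem' := ⟨one_mem _, by simpa using h.2 1 (one_mem _) 1 (one_mem _)⟩
  mul_mem' := fun ha hb => ⟨mul_mem ha.1 hb.1, by rw [h.2 _ ha.1 _ hb.1, ha.2, hb.2, add_zero]⟩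
  inv_mem' := fun {a} ha => ⟨inv_mem ha.1, by
    have h1 := h.2 _ ha.1 _ (inv_mem ha.1)
    have h2 : μ 1 = 0 := by simpa using h.2 1 (one_mem _) 1 (one_mem _)
    rw [mul_inv_cancel, h2, ha.2, zero_add] at h1
    exact h1.symm⟩

theorem Ad_conj (h : μ ∈ Ad k P) (hg : g ∈ N(P)) (hx : x ∈ P) : cR k G g μ x = μ ⁅g⁻¹, x⁆ + μ x := by
  rw [cR_apply, ← h.2 _ (comm_swap (comm_mem_left hx (inv_mem hg))) _ hx]
  congr 1; simp only [commutatorElement_def]; group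

theorem Ad_fix (h : μ ∈ Ad k P) (hg : g ∈ N(P)) : cR k G g μ = μ ↔ ∀ x ∈ P, μ ⁅g⁻¹, x⁆ = 0 := by
  refine ⟨fun e x hx => ?_, fun e => funext fun x => ?_⟩
  · simpa [e] using (Ad_conj h hg hx).symm
  · by_cases hx : x ∈ P
    · rw [Ad_conj h hg hx, e x hx, zero_add]
    · rw [(Ad_inv hg h).1 x hx, h.1 x hx]

theorem Ad_zero (h : μ ∈ Ad k P) (hs : s ∈ N(P)) (hc : Cop P ⟪s⟫) (hf : cR k G s μ = μ) (h0 : ∀ y ∈ P ⊓ C[s], μ y = 0) :
    μ = 0 := by
  have hs' : ⟪s⟫ ≤ N(P) := zpowers_le.2 hs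
  have h1 : P ≤ ak h := (coprime_cent_prod_or hs' hc (Or.inr (sol_zpowers s))).sup.ge.trans (sup_le
    (commutator_le.2 fun x hx g hg => comm_swap ⟨comm_swap (comm_mem_left hx (hs' hg)), by
      simpa using (Ad_fix h (hs' (inv_mem hg))).1 (mem_rfix_zpowers.2 hf _ (inv_mem hg)) x hx⟩)
    fun y hy => ⟨hy.1, h0 y ⟨hy.1, by rw [← cen_zpowers]; exact hy.2⟩⟩)
  funext x
  by_cases hx : x ∈ P
  · exact (h1 hx).2
  · exact h.1 x hx

theorem nm_cen (μ : G → k) (hy : y ∈ C[s]) : nm (cR k G) s r μ y = (r : k) * μ y := by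
  rw [nm_apply, Finset.sum_apply, Finset.sum_congr rfl (g := fun _ => μ y) fun j _ => by
    rw [cR_apply, mul_assoc, mem_cen1.1 (cen1_le_cen1_pow s j hy), inv_mul_cancel_left]]
  simp

theorem exists_md (f : Fam P D H s J 𝓧) (hH : H ≤ N(P)) (hsH : s ∈ H) (hP : PGrp p P) (hp : p.Prime) (hr : r.Prime)
    (hs : s ^ r = 1) (hpr : p ≠ r) (hder : ⁅P, P⁆ ≤ D) (hexp : ∀ x ∈ P, x ^ p ∈ D) :
    ∃ (k : Type) (_ : Field k) (_ : IsAlgClosed k) (ρ : Representation k G (G → k)) (Ω : Set (G → k)),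
      Md ρ H s r Ω ∧ (∀ q : ℕ, q.Prime → q ≠ p → (q : k) ≠ 0) ∧
      (∀ g ∈ N(P), g ∈ Kr ρ (Submodule.span k Ω) ↔ ∀ y ∈ P, ⁅g, y⁆ ∈ D) ∧
      (∀ d ∈ N(P) ⊓ C[s], (∀ y ∈ P ⊓ C[s], ⁅d⁻¹, y⁆ ∈ J) → Lx ρ s r Ω d) ∧
      (P ⊓ C[s] ≤ J → ∀ μ ∈ Ω, ρ s μ ≠ μ → nm ρ s r μ = 0) := by
  classical
  haveI := Fact.mk hp
  let k := AlgebraicClosure (ZMod p)
  have hq : ∀ q : ℕ, q.Prime → q ≠ p → (q : k) ≠ 0 := fun q hq h e =>
    h ((Nat.prime_dvd_prime_iff_eq hp hq).1 ((CharP.cast_eq_zero_iff k p q).1 e)).symm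
  have hsP := hH hsH
  have hc := cop_zp hP hr hs hpr
  have hJ : ∀ μ ∈ Ad k P, ∀ X ∈ 𝓧, (∀ x ∈ X, μ x = 0) → cR k G s μ ≠ μ → ∀ y ∈ J, μ y = 0 := fun μ hμ X hX h0 hn y hy =>
    h0 y (f.cen X hX (fun e => hn ((Ad_fix hμ hsP).2 fun x hx =>
      h0 _ (comm_swap (e (commutator_mem_commutator hx (inv_mem (mem_zpowers s))))))) hy)
  have hnm : ∀ μ ∈ Ad k P, nm (cR k G) s r μ ∈ Ad k P := fun μ hμ => nm_mem (fun _ h => Ad_inv hsP h) hμ
  refine ⟨k, inferInstance, inferInstance, cR k G, {μ | μ ∈ Ad k P ∧ ∃ X ∈ 𝓧, ∀ x ∈ X, μ x = 0},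
    ⟨hr, hs, hq r hr hpr.symm, hsH, ?_⟩, hq, fun g hg => ⟨fun h y hy => ?_, fun h => ?_⟩, ?_, ?_⟩
  · rintro g hg μ ⟨hμ, X, hX, h⟩
    obtain ⟨X', hX', h'⟩ := f.inv g hg X hX
    exact ⟨Ad_inv (hH hg) hμ, X', hX', fun x hx => h _ (h' x hx)⟩
  · have hz := comm_swap (comm_mem_left hy hg)
    refine f.sep _ hz fun X hX => ?_
    by_contra hn
    obtain ⟨n, π, h1, h2, -⟩ := exists_section_map p (hder.trans (f.le X hX)) fun x hx => f.le X hX (hexp x hx)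
    obtain ⟨i, hi⟩ := Function.ne_iff.1 fun e => hn ((h2 _ hz).1 e)
    let μ : G → k := fun x => if x ∈ P then algebraMap (ZMod p) k (π x i) else 0
    have hμ : μ ∈ Ad k P := ⟨fun x hx => if_neg hx, fun x hx y hy => by
      simp only [μ, if_pos hx, if_pos hy, if_pos (mul_mem hx hy), h1 x hx y hy, Pi.add_apply, map_add]⟩
    have h3 := (Ad_fix hμ (inv_mem hg)).1 (inv_mem h μ (Submodule.subset_span ⟨hμ, X, hX, fun x hx => by
      by_cases e : x ∈ P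
      · simp only [μ, if_pos e, (h2 x e).2 hx, Pi.zero_apply, map_zero]
      · exact if_neg e⟩)) y hy
    rw [inv_inv] at h3
    simp only [μ, if_pos hz] at h3
    exact hi ((algebraMap (ZMod p) k).injective (h3.trans (map_zero _).symm))
  · refine (Subgroup.inv_mem_iff _).1 (mem_Kr_iff.2 (Submodule.span_le.2 ?_))
    rintro μ ⟨hμ, X, hX, h0⟩
    have := (Ad_fix hμ (inv_mem hg)).2 fun x hx => h0 _ (f.le X hX (by rw [inv_inv]; exact h x hx))
    simp [this]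
  · rintro d hd h μ ⟨hμ, X, hX, h0⟩ hn
    rw [← sub_eq_zero]
    refine Ad_zero (sub_mem (Ad_inv hd.1 (hnm μ hμ)) (hnm μ hμ)) hsP hc ?_ fun y hy => ?_
    · rw [map_sub, ← rho_mul, ← mem_cen1.1 hd.2, rho_mul, nm_fixed hs]
    · rw [Pi.sub_apply, Ad_conj (hnm μ hμ) hd.1 hy.1, add_sub_cancel_right,
        nm_cen μ (comm_le_of_le le_rfl le_rfl (commutator_mem_commutator (inv_mem hd.2) hy.2)),
        hJ μ hμ X hX h0 hn _ (h y hy), mul_zero]
  · rintro h μ ⟨hμ, X, hX, h0⟩ hn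
    exact Ad_zero (hnm μ hμ) hsP hc (nm_fixed hs μ) fun y hy => by
      rw [nm_cen μ hy.2, hJ μ hμ X hX h0 hn _ (h hy), mul_zero]

end Cfsg.Agent.TW
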